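import Groth.Agent.TorScheme.Representable
import Groth.Agent.GrpSubRep.Fibres

/-!
# The two formulations of representability of the functor of maximal tori
-/

set_option autoImplicit false
set_option linter.style.haveILetI false
set_option linter.unusedSectionVars false
set_option backward.isDefEq.respectTransparency false
set_option maxHeartbeats 2000000
set_option synthInstance.maxHeartbeats 400000

universe u

noncomputable section

open CategoryTheory Limits MonoidalCategory CartesianMonoidalCategory AlgebraicGeometry
open scoped CategoryTheory.Obj MonObj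

namespace Groth.Agent.TorScheme

open Groth.Agent.MTBridge Groth.Agent.GrpSubRep

variable {S : Scheme.{u}} {G : Over S} [GrpObj G] [IsAffineHom G.hom] [Smooth G.hom]

/-- The universal torus represents the functor of maximal tori. -/
theorem representsMaxTori {P : Over S} {T : Over P.left} [GrpObj T] (i : T ⟶ Red.bc P.hom G)
    (h : IsUniversalTorus i) : SGA3x.RepresentsMaxTori G P T i := by
  refine ⟨h.1, fun S' f T' _ i' hi' => ?_⟩
  let X : Over S := Over.mk f
  obtain ⟨a, ha, hau⟩ := h.2 X T' i' hi'
  refine ⟨a.left, ⟨Over.w a, ?_⟩, ?_⟩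
  · have hp := isMaximalTorus_pullMap i h.1 a
    haveI := hp.2.1
    haveI : Mono i' := hi'.2.1
    have hiff : ∀ (Y : Over S) (g : Y ⟶ G) (t : Y ⟶ X), InK i' g t ↔ InK (MTDescent.pullMap i a) g t :=
      fun Y g t => (ha Y g t).trans (inK_pullMap_iff i a g t).symm
    obtain ⟨w₁, hw₁⟩ := exists_factor_of_le (M := X) i' (MTDescent.pullMap i a) fun Y g t => (hiff Y g t).1
    obtain ⟨w₂, hw₂⟩ := exists_factor_of_le (M := X) (MTDescent.pullMap i a) i' fun Y g t => (hiff Y g t).2
    let e : T' ≅ Red.bc a.left T := ⟨w₁, w₂,
      by rw [← cancel_mono i', Category.assoc, hw₂, hw₁, Category.id_comp],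
      by rw [← cancel_mono (MTDescent.pullMap i a), Category.assoc, hw₁, hw₂, Category.id_comp]⟩
    refine ⟨(Over.forget _).mapIso e, Over.w w₁, ?_⟩
    have h1 := congrArg (fun z => z.left ≫ pullback.fst G.hom f) hw₁
    refine Eq.trans ?_ h1
    simp [e, X, MTDescent.pullMap, Over.pullback]
  · rintro v ⟨hv, φ, hφ₁, hφ₂⟩
    let b : X ⟶ P := Over.homMk v hv
    let φ' : T' ≅ Red.bc b.left T := Over.isoMk φ hφ₁
    have hb : φ'.hom ≫ MTDescent.pullMap i b = i' := by
      apply Over.OverMorphism.ext
      apply pullback.hom_ext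
      · refine Eq.trans ?_ hφ₂
        simp [φ', b, X, MTDescent.pullMap, Over.pullback]
        rfl
      · refine Eq.trans ?_ (Over.w i').symm
        exact ((Category.assoc _ _ _).trans (congrArg (φ'.hom.left ≫ ·) (Over.w (MTDescent.pullMap i b)))).trans hφ₁
    exact congrArg CommaMorphism.left (hau b fun Y g y => by
      rw [← hb, inK_iso (M := X) φ' _ g y, inK_pullMap_iff])

/-- The universal torus represents the functor of maximal tori, with the comparison by points. -/
theorem representsTor {P : Over S} {T : Over P.left} [GrpObj T] (i : T ⟶ Red.bc P.hom G)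
    (h : IsUniversalTorus i) : RedSub.RepresentsTor G P T i := by
  refine ⟨h.1, fun S' f T' _ i' hi' => ?_⟩
  let X : Over S := Over.mk f
  obtain ⟨a, ha, hau⟩ := h.2 X T' i' hi'
  refine ⟨a.left, ⟨Over.w a, (samePoints_iff f i' i a.left (Over.w a)).2 ha⟩, fun v hv => ?_⟩
  exact congrArg CommaMorphism.left (hau (Over.homMk v hv.1) ((samePoints_iff f i' i v hv.1).1 hv.2))

end Groth.Agent.TorScheme
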