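import Groth.Agent.TorScheme.Normalizer
import Groth.Agent.TorScheme.Conv

/-!
# The scheme of maximal tori as the fppf quotient by a normalizer
-/

set_option autoImplicit false
set_option linter.style.haveILetI false
set_option linter.unusedSectionVars false
set_option backward.isDefEq.respectTransparency false
set_option maxHeartbeats 1000000
set_option synthInstance.maxHeartbeats 400000

universe u

noncomputable section

open CategoryTheory Limits MonoidalCategory CartesianMonoidalCategory AlgebraicGeometry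
open scoped CategoryTheory.Obj MonObj

namespace Groth.Agent.TorScheme

open Groth.Agent.MTBridge Groth.Agent.GrpSubRep

variable {S : Scheme.{u}} {G : Over S} [GrpObj G]

/-- Representing the functor with comparison by points is being universal. -/
theorem isUniversalTorus_of_representsTor {M : Over S} {H : Over M.left} [GrpObj H] (h : H ⟶ Red.bc M.hom G)
    (hM : RedSub.RepresentsTor G M H h) : IsUniversalTorus h := by
  refine ⟨hM.1, fun X T' _ i' hi' => ?_⟩
  obtain ⟨g, ⟨hg, hs⟩, hu⟩ := hM.2 X.left X.hom T' i' hi'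
  refine ⟨Over.homMk g hg, (samePoints_iff X.hom i' h g hg).1 hs, fun b hb => ?_⟩
  exact Over.OverMorphism.ext (hu b.left ⟨Over.w b, (samePoints_iff X.hom i' h b.left (Over.w b)).2 hb⟩)

/-- The point of the product given by a point of the family. -/
theorem conjMap_eq {B : Over S} (i : B ⟶ G) {Y : Over S} t (z : Y ⟶ B) :
    lift t z ≫ RedSub.conjMap i = t * (z ≫ i) * t⁻¹ := by
  rw [RedSub.conjMap, MonObj.comp_mul, MonObj.comp_mul, GrpObj.comp_inv, lift_fst, ← Category.assoc, lift_snd,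
    _root_.mul_assoc]

/-- Points of the family of conjugates. -/
theorem inK_conjFamily {B : Over S} (i : B ⟶ G) {Y : Over S} (a : Y ⟶ G) (t : Y ⟶ G) :
    InK (G := G) (M := Over.mk G.hom) (RedSub.conjFamily (G := G) i) a t ↔
      ∃ z : Y ⟶ B, z ≫ i = t⁻¹ * a * t := by
  have key : ∀ l : Y ⟶ G ⊗ B, l ≫ fst G B = t → (l ≫ RedSub.conjMap i = a ↔
      l ≫ snd G B ≫ i = t⁻¹ * a * t) := by
    intro l hl
    have e : l = lift t (l ≫ snd G B) := by
      apply CartesianMonoidalCategory.hom_ext <;> simp [hl]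
    conv_lhs => rw [e, conjMap_eq]
    rw [← Category.assoc]
    constructor
    · intro h; rw [← h]; group
    · intro h; rw [h]; group
  have f₁ : (RedSub.conjFamily (G := G) i).left ≫ pullback.fst G.hom G.hom = (RedSub.conjMap i).left :=
    pullback.lift_fst _ _ _
  have f₂ : (RedSub.conjFamily (G := G) i).left ≫ pullback.snd G.hom G.hom = (fst G B).left :=
    pullback.lift_snd _ _ _
  constructor
  · rintro ⟨l, hl⟩
    have h₂ : l ≫ (fst G B).left = t.left := inK_hom (G := G) (M := Over.mk G.hom) (RedSub.conjFamily (G := G) i) hl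
    have h₁ : l ≫ (RedSub.conjMap i).left = a.left := by
      have h := congrArg (fun z => z ≫ pullback.fst G.hom (Over.mk G.hom).hom) hl
      exact ((congrArg (l ≫ ·) f₁).symm.trans (Category.assoc _ _ _).symm).trans (h.trans (pullback.lift_fst _ _ _))
    let l' : Y ⟶ G ⊗ B := Over.homMk l
      ((congrArg (l ≫ ·) (Over.w (fst G B)).symm).trans ((Category.assoc _ _ _).symm.trans
        ((congrArg (· ≫ G.hom) h₂).trans (Over.w t))))
    exact ⟨l' ≫ snd G B, (Category.assoc _ _ _).trans ((key l' (Over.OverMorphism.ext h₂)).1 (Over.OverMorphism.ext h₁))⟩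
  · rintro ⟨z, hz⟩
    let l : Y ⟶ G ⊗ B := lift t z
    have h₂ : l ≫ fst G B = t := lift_fst _ _
    have h₁ : l ≫ RedSub.conjMap i = a := (key l h₂).2 (by rw [← Category.assoc, lift_snd]; exact hz)
    refine ⟨l.left, pullback.hom_ext ?_ ?_⟩
    · refine Eq.trans ?_ ((congrArg CommaMorphism.left h₁).trans (pullback.lift_fst _ _ _).symm)
      exact (Category.assoc _ _ _).trans (congrArg (l.left ≫ ·) f₁)
    · refine Eq.trans ?_ ((congrArg CommaMorphism.left h₂).trans (pullback.lift_snd _ _ _).symm)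
      exact (Category.assoc _ _ _).trans (congrArg (l.left ≫ ·) f₂)

/-- The orbit map with all its properties. -/
theorem exists_orbit' [IsAffineHom G.hom] [Smooth G.hom] {P : Over S} {U : Over P.left} [GrpObj U]
    {iu : U ⟶ Red.bc P.hom G} (hP : IsUniversalTorus iu) [Smooth P.hom] {T : Over S} [GrpObj T] {i : T ⟶ G}
    (hT : Red.IsMaximalTorus i) {N : Over S} [GrpObj N] (n : N ⟶ G) (hN : Red.IsNormalizerOf i n) :
    ∃ q₀ : G ⟶ P, Smooth q₀.left ∧ Surjective q₀.left ∧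
      (∀ (Y : Over S) (a : Y ⟶ G) (g : Y ⟶ G), InK iu a (g ≫ q₀) ↔ ∃ z : Y ⟶ T, z ≫ i = g⁻¹ * a * g) ∧
      ∀ (Y : Over S) (a b : Y ⟶ G), a ≫ q₀ = b ≫ q₀ ↔ ∃ z : Y ⟶ N, z ≫ n = a⁻¹ * b := by
  haveI := hT.1; haveI := hT.2.1
  let O : Over S := 𝟙_ (Over S)
  let i₀ : Red.bc (𝟙 S) T ⟶ Red.bc O.hom G := (Over.pullback (𝟙 S)).map i
  have hi₀ : Red.IsMaximalTorus i₀ := Chev.MaxTorusBC.isMaximalTorus_bc i hT (𝟙 S)
  obtain ⟨q₀, hq₀, -⟩ := exists_classify iu hP (B := O) i₀ hi₀ (toUnit G) (𝟙 G)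
  have hq : ∀ {Y : Over S} (g : Y ⟶ G) (a : Y ⟶ G),
      InK iu a (g ≫ q₀) ↔ ∃ z : Y ⟶ T, z ≫ i = g⁻¹ * a * g := fun {Y} g a => by
    rw [hq₀ Y a g, Category.comp_id, inK_id_iff]
  have heq : ∀ {Y : Over S} (g : Y ⟶ G) (b : Y ⟶ P), (∀ (Y' : Over S) (y : Y' ⟶ Y) (a : Y' ⟶ G),
      InK iu a (y ≫ b) ↔ ∃ z : Y' ⟶ T, z ≫ i = (y ≫ g)⁻¹ * a * (y ≫ g)) → b = g ≫ q₀ := fun {Y} g b hb => by
    obtain ⟨c, -, hu⟩ := exists_classify iu hP (B := O) i₀ hi₀ (toUnit Y) g
    rw [hu b fun Y' a y => by rw [hb Y' y a, inK_id_iff],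
      hu (g ≫ q₀) fun Y' a y => by rw [← Category.assoc, hq (y ≫ g) a, inK_id_iff]]
  exact ⟨q₀, smooth_orbit hP hT hq heq, surjective_orbit hP hT hq heq, fun Y a g => hq g a, orbit_fibre hq heq n hN⟩

/-- A covering with the cosets of a subgroup as fibres is a quotient. -/
theorem isPullback_of_rel {N Q : Over S} (n : N ⟶ G) [Mono n] (q : G ⟶ Q)
    (h : ∀ (Y : Over S) (a b : Y ⟶ G), a ≫ q = b ≫ q ↔ ∃ z : Y ⟶ N, z ≫ n = a⁻¹ * b) :
    IsPullback (fst G N) ((G ◁ n) ≫ μ[G]) q q := by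
  have hμ : (G ◁ n) ≫ μ[G] = fst G N * (snd G N ≫ n) := by
    rw [Hom.mul_def]
    congr 1
  have w : fst G N ≫ q = ((G ◁ n) ≫ μ[G]) ≫ q := (h _ _ _).2 ⟨snd G N, by simp [hμ]⟩
  have hl : ∀ s : PullbackCone q q, ∃ z : s.pt ⟶ N, z ≫ n = s.fst⁻¹ * s.snd := fun s => (h _ _ _).1 s.condition
  choose zf hz using hl
  refine IsPullback.of_isLimit (PullbackCone.IsLimit.mk w (fun s => lift s.fst (zf s)) (fun s => lift_fst _ _)
    (fun s => ?_) fun s m hm₁ hm₂ => ?_)
  · rw [hμ, MonObj.comp_mul, lift_fst, ← Category.assoc, lift_snd, hz]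
    group
  · apply CartesianMonoidalCategory.hom_ext
    · rw [lift_fst, hm₁]
    · rw [lift_snd, ← cancel_mono n, hz]
      rw [hμ, MonObj.comp_mul, hm₁, ← Category.assoc] at hm₂
      rw [← hm₂]
      group

end Groth.Agent.TorScheme
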