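import Groth.Agent.TorScheme.Orbit
import Groth.Agent.TorScheme.Conv
import Groth.Agent.TorusLift.Central
import Groth.Agent.S3002

/-!
# Maximal tori of reductive groups exist etale-locally
-/

set_option autoImplicit false
set_option linter.style.haveILetI false
set_option linter.unusedSectionVars false
set_option backward.isDefEq.respectTransparency false
set_option maxHeartbeats 2000000
set_option synthInstance.maxHeartbeats 400000

universe u

noncomputable section

open CategoryTheory Limits MonoidalCategory CartesianMonoidalCategory AlgebraicGeometry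
open scoped CategoryTheory.Obj MonObj

namespace Groth.Agent.TorScheme

variable {S : Scheme.{u}} {G : Over S} [GrpObj G]

/-- **Reductive groups acquire maximal tori etale-locally.** -/
theorem hasMaxTorusFpqcLocally_of_isReductive (hG : Red.IsReductive G) : SGA3x.HasMaxTorusFpqcLocally G := by
  haveI := hG.1; haveI := hG.2.1
  have hconn : ∀ s : S, _root_.IsConnected (G.hom.base ⁻¹' {s}) := fun s => by
    haveI := (hG.2.2 s).2.2.1
    exact TorusLift.isConnected_fibre_of_geom s
  choose A hA u hu hs₀ hred B hB v hv hvs T hTg i hi rk hrk using fun s₀ : S =>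
    S3002.result S G hconn s₀ (hG.2.2 s₀)
  let Mo : S → Over S := fun s => Over.mk (v s ≫ u s)
  obtain ⟨T', hT'g, t, ht, -⟩ := exists_maxTorus_sigM (G := G) Mo T (hTig := hTg) i hi
  let f := (GrpSubRep.sigM Mo).hom
  haveI : Etale f := IsZariskiLocalAtSource.sigmaDesc (P := @Etale) fun s => by
    haveI := hu s; haveI := hv s
    show Etale (v s ≫ u s)
    infer_instance
  haveI : Surjective f := ⟨fun s => by
    obtain ⟨y, hy⟩ := hs₀ s
    obtain ⟨z, hz⟩ := (hvs s).surj y
    refine ⟨Sigma.ι (fun s => (Mo s).left) s z, ?_⟩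
    show Sigma.desc (fun s => (Mo s).hom) (Sigma.ι (fun s => (Mo s).left) s z) = s
    refine (congr($(Sigma.ι_desc (fun s => (Mo s).hom) s) z) :).trans ?_
    show u s (v s z) = s
    rw [hz, hy]⟩
  exact ⟨_, f, inferInstance, inferInstance, TorusLift.exists_qc_lift f, T', hT'g, t, ht⟩

open Groth.Agent.GrpSubRep in
/-- A scheme with a universal maximal torus of a reductive group is smooth. -/
theorem smooth_of_representsTor (hG : Red.IsReductive G) {M : Over S} {H : Over M.left} [GrpObj H]
    (h : H ⟶ Red.bc M.hom G) (hu : IsUniversalTorus h) : Smooth M.hom := by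
  haveI := hG.1; haveI := hG.2.1
  obtain ⟨P, T, hTg, i, hi, hsm, -⟩ := exists_torScheme (hasMaxTorusFpqcLocally_of_isReductive hG)
  obtain ⟨a, ha, -⟩ := hu.2 P T i hi.1
  obtain ⟨b, hb, -⟩ := hi.2 M H h hu.1
  have h₁ : a ≫ b = 𝟙 P := (hi.2 P T i hi.1).unique (fun Y g y => by rw [← Category.assoc, ← hb, ← ha])
    fun Y g y => by rw [Category.comp_id]
  have h₂ : b ≫ a = 𝟙 M := (hu.2 M H h hu.1).unique (fun Y g y => by rw [← Category.assoc, ← ha, ← hb])
    fun Y g y => by rw [Category.comp_id]
  let e : M ≅ P := ⟨b, a, h₂, h₁⟩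
  haveI : IsIso e.hom.left := ((Over.forget S).mapIso e).isIso_hom
  haveI := hsm
  rw [← Over.w e.hom]
  infer_instance

end Groth.Agent.TorScheme
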