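import Groth.Agent.TorScheme.Glue
import Groth.Agent.MTBridge.SubLift
import Groth.Agent.MTBridge.EssFree
import Groth.Agent.Chev.TorusExt
import Groth.Agent.S8433

/-!
# Lifting maximal tori along nilpotent ideals
-/

set_option autoImplicit false
set_option linter.style.haveILetI false
set_option linter.unusedSectionVars false
set_option backward.isDefEq.respectTransparency false
set_option maxHeartbeats 2000000
set_option synthInstance.maxHeartbeats 400000

universe u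

noncomputable section

open CategoryTheory Limits MonoidalCategory CartesianMonoidalCategory AlgebraicGeometry
open scoped CategoryTheory.Obj MonObj

namespace Groth.Agent.TorScheme

open Groth.Agent.MTBridge Groth.Agent.GrpSubRep

/-- A group of multiplicative type which is a torus over a map containing all field valued points is a torus. -/
theorem isTorus_of_points {B U : Scheme.{u}} (q : U ⟶ B)
    (hq : ∀ (K : Type u) [Field K] (y : Spec (CommRingCat.of K) ⟶ B), ∃ z, z ≫ q = y) (H : Over B) [GrpObj H]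
    (hH : TwC.Locally B TwC.Topology.fpqc (fun S' f => ∃ (M : Type) (_ : AddCommGroup M),
      Nonempty (Grp.mk (Red.bc f H) ≅ Grp.mk (Red.DS S' M))))
    (h : Red.IsTorus (Red.bc q H)) : Red.IsTorus H := by
  obtain ⟨S', f, hf, hs, hlift, hloc⟩ := hH
  refine ⟨S', f, hf, hs, hlift, fun s' => ?_⟩
  obtain ⟨V, hV, M, hM, ⟨e⟩⟩ := hloc s'
  let z := Red.geomPt (S := (V : Scheme.{u})) ⟨s', hV⟩
  obtain ⟨w, hw⟩ := hq _ (z ≫ V.ι ≫ f)
  obtain ⟨r, ⟨d⟩⟩ := Chev.exists_split_algClosed (Chev.Borel.isTorus_bc_scheme (Red.bc q H) w h)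
  obtain ⟨e₁⟩ := nonempty_bc_split (f := V.ι ≫ f) ⟨e⟩ z
  obtain ⟨θ⟩ := nonempty_addEquiv_of_iso (e₁.symm ≪≫ bcCongr hw.symm H ≪≫ bcComp q w H ≪≫ d)
  obtain ⟨a⟩ := nonempty_iso_DS_of_equiv (V : Scheme.{u}) θ
  exact ⟨V, hV, r, ⟨e ≪≫ a⟩⟩

/-- Being a torus is invariant under isomorphisms of groups. -/
theorem isTorus_congr {B : Scheme.{u}} {T T' : Over B} [GrpObj T] [GrpObj T'] (a : T' ≅ T) [IsMonHom a.hom]
    (h : Red.IsTorus T) : Red.IsTorus T' := by
  obtain ⟨S', f, hf, hs, hlift, hloc⟩ := h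
  refine ⟨S', f, hf, hs, hlift, fun s' => ?_⟩
  obtain ⟨V, hV, r, ⟨e⟩⟩ := hloc s'
  exact ⟨V, hV, r, ⟨bcMapIso (V.ι ≫ f) (Grp.mkIso' a) ≪≫ e⟩⟩

/-- Field valued points factor through a nilpotent thickening. -/
theorem exists_factor_qJ {A : Type u} [CommRing A] {I : Ideal A} (hI : IsNilpotent I) (K : Type u) [Field K]
    (y : Spec (CommRingCat.of K) ⟶ Spec (CommRingCat.of A)) : ∃ z, z ≫ qJ I = y := by
  obtain ⟨φ, rfl⟩ := Spec.map_surjective y
  have hφ : ∀ a ∈ I, φ.hom a = 0 := fun a ha => by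
    obtain ⟨n, hn⟩ := hI
    have h := Ideal.pow_mem_pow ha n
    rw [hn, Ideal.zero_eq_bot, Ideal.mem_bot] at h
    exact (IsNilpotent.map ⟨n, h⟩ φ.hom).eq_zero
  refine ⟨Spec.map (CommRingCat.ofHom (Ideal.Quotient.lift I φ.hom hφ)), ?_⟩
  show Spec.map _ ≫ Spec.map _ = _
  rw [← Spec.map_comp]
  congr 1

/-- **Maximal tori lift along nilpotent ideals.** -/
theorem exists_maxTorus_lift {A : Type u} [CommRing A] (I : Ideal A) (hI : IsNilpotent I)
    (G : Over (Spec (CommRingCat.of A))) [GrpObj G] [IsAffineHom G.hom] [Smooth G.hom]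
    (T₀ : Over (Spec (CommRingCat.of (A ⧸ I)))) [GrpObj T₀] (i₀ : T₀ ⟶ Red.bc (qJ I) G)
    (h₀ : Red.IsMaximalTorus i₀) :
    ∃ (T : Over (Spec (CommRingCat.of A))) (_ : GrpObj T) (i : T ⟶ G), Red.IsMaximalTorus i ∧
      ∃ φ : Red.bc (qJ I) T ≅ T₀, φ.hom ≫ i₀ = (Over.pullback (qJ I)).map i := by
  haveI := h₀.1; haveI := h₀.2.1
  haveI : IsAffineHom (Red.bc (qJ I) G).hom := inferInstanceAs (IsAffineHom (pullback.snd G.hom (qJ I)))
  haveI : Smooth (Red.bc (qJ I) G).hom := inferInstanceAs (Smooth (pullback.snd G.hom (qJ I)))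
  haveI : IsClosedImmersion i₀.left := isClosedImmersion_torus h₀.2.2.1 i₀
  obtain ⟨A', _, _, hA', hft, f, hf, hfi, φ, hφ, hφb⟩ := exists_subgroup_lift I hI G inferInstance T₀
    (locally_of_isMultTypeFT' T₀ (isMultTypeFT_of_isTorus T₀ h₀.2.2.1)) i₀
  haveI := hf; haveI := hfi; haveI := hφ
  let H := (specGrp A A').X
  haveI : Mono f.left := inferInstance
  haveI : Mono f := Over.mono_of_mono_left f
  have hφT : Red.IsTorus (Red.bc (qJ I) H) := isTorus_congr φ h₀.2.2.1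
  have hHt : Red.IsTorus H := isTorus_of_points (qJ I) (exists_factor_qJ hI) H (locally_specGrp hA') hφT
  haveI : Surjective (qJ I) := ⟨fun x => by
    obtain ⟨z, hz⟩ := exists_factor_qJ hI _ (Red.geomPt x)
    exact ⟨z (IsLocalRing.closedPoint _), by rw [← Scheme.Hom.comp_apply, hz]; exact geomPt_closedPoint x⟩⟩
  refine ⟨H, inferInstance, f, ?_, φ, hφb⟩
  exact Chev.MaxTorusBC.isMaximalTorus_descend (qJ I) f hHt (by
    rw [← hφb]
    exact S8433.isMaximalTorus_of_iso_left φ i₀ hφT h₀)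

end Groth.Agent.TorScheme
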