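import Groth.Agent.TorScheme.Torsion
import Groth.Agent.MTBridge.SubgroupsClopen
import Groth.Agent.S2981

/-!
# A closed subscheme containing all torsion points of a group of multiplicative type is everything
-/

set_option autoImplicit false
set_option linter.style.haveILetI false
set_option linter.unusedSectionVars false
set_option backward.isDefEq.respectTransparency false
set_option maxHeartbeats 1000000
set_option synthInstance.maxHeartbeats 400000

universe u

open CategoryTheory Limits MonoidalCategory CartesianMonoidalCategory AlgebraicGeometry WithConv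
open scoped CategoryTheory.Obj MonObj

noncomputable section

namespace Groth.Agent.TorScheme

open Groth.Agent.MTBridge

/-- An ideal contained in all torsion ideals is zero. -/
theorem isIso_of_torsion_spec {R A : Type u} [CommRing R] [CommRing A] [HopfAlgebra R A]
    (hA : SGA3b.IsMultType R A) (hft : Algebra.FiniteType R A) {E : Over (Spec (CommRingCat.of R))}
    (e : E ⟶ (specGrp R A).X) [IsClosedImmersion e.left]
    (h : ∀ n : ℕ, 0 < n → ∀ (X : Over (Spec (CommRingCat.of R))) (x : X ⟶ (specGrp R A).X),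
      x ^ n = 1 → ∃ y : X ⟶ E, y ≫ e = x) : IsIso e.left := by
  obtain ⟨I, ψ, hψ⟩ := (IsClosedImmersion.Spec_iff (R := CommRingCat.of A) (f := e.left)).1 inferInstance
  have hle : ∀ n : ℕ, 0 < n → I ≤ SGA3b.torsionIdeal R A n := by
    intro n hn
    let T := SGA3b.torsionIdeal R A n
    let q : A →ₐ[R] A ⧸ T := Ideal.Quotient.mkₐ R T
    have h1 : (pt (toConv q)) ^ n = 1 := by
      rw [pt_pow_eq_one_iff]
      intro a ha
      rw [RingHom.mem_ker, Ideal.Quotient.mkₐ_eq_mk, Ideal.Quotient.eq_zero_iff_mem]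
      exact ha
    obtain ⟨y, hy⟩ := h n hn _ _ h1
    have h2 : (y.left ≫ ψ.hom) ≫ Spec.map (CommRingCat.ofHom (Ideal.Quotient.mk I)) =
        Spec.map (CommRingCat.ofHom q.toRingHom) := by
      rw [Category.assoc, show ψ.hom ≫ Spec.map (CommRingCat.ofHom (Ideal.Quotient.mk I)) = e.left from hψ.symm,
        ← Over.comp_left, hy]
      rfl
    obtain ⟨φ, hφ⟩ := Spec.map_surjective (y.left ≫ ψ.hom)
    rw [← hφ, ← Spec.map_comp, Spec.map_inj] at h2
    intro a ha
    have h3 := congr($(h2) a)
    simp only [CommRingCat.hom_comp, RingHom.comp_apply, CommRingCat.hom_ofHom] at h3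
    rw [(Ideal.Quotient.eq_zero_iff_mem).2 ha, map_zero] at h3
    exact Ideal.Quotient.eq_zero_iff_mem.1 h3.symm
  have hI : I = ⊥ := by
    refine eq_bot_iff.2 fun a ha => ?_
    have h0 : algebraMap A (Localization.Away (1 : A)) a = 0 := by
      rw [← Ideal.mem_bot, ← Groth.Agent.S2981.result R A hft hA 1, Ideal.mem_iInf]
      exact fun n => Ideal.mem_map_of_mem _ (hle n.1 n.2 ha)
    rw [Ideal.mem_bot]
    exact (IsLocalization.injective (Localization.Away (1 : A)) (M := Submonoid.powers (1 : A)) (by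
      rintro _ ⟨k, rfl⟩
      simp)) (h0.trans (map_zero _).symm)
  subst hI
  haveI : IsIso (CommRingCat.ofHom (Ideal.Quotient.mk (⊥ : Ideal A))) :=
    (RingEquiv.quotientBot A).symm.toCommRingCatIso.isIso_hom
  rw [hψ]
  infer_instance

variable {S : Scheme.{u}}

/-- **Torsion points are dense in a group of multiplicative type.** -/
theorem exists_section_of_torsion {T E : Over S} [GrpObj T] (hT : SGA3x.IsMultTypeFT T) (e : E ⟶ T)
    [IsClosedImmersion e.left]
    (h : ∀ n : ℕ, 0 < n → ∀ (X : Over S) (x : X ⟶ T), x ^ n = 1 → ∃ y : X ⟶ E, y ≫ e = x) :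
    ∃ s : T ⟶ E, s ≫ e = 𝟙 T := by
  let 𝒰 := S.affineOpenCover
  have key : ∀ i, ∃ l : pullback T.hom (𝒰.f i) ⟶ E.left, l ≫ e.left = pullback.fst T.hom (𝒰.f i) := by
    intro i
    let j := 𝒰.f i
    obtain ⟨A, _, _, hA, hft, ⟨ε⟩⟩ := exists_hopf (R := 𝒰.X i) (Red.bc j T) (isMultTypeFT_bc T j hT)
    let ε' : Red.bc j T ≅ (specGrp (𝒰.X i) A).X := (Grp.forget _).mapIso ε
    haveI : IsMonHom ε'.hom := ε.hom.hom.isMonHom_hom
    haveI : IsMonHom ε'.inv := ε.inv.hom.isMonHom_hom
    let ej : Red.bc j E ⟶ (specGrp (𝒰.X i) A).X := (Over.pullback j).map e ≫ ε'.hom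
    haveI : IsIso ε'.hom.left := inferInstanceAs (IsIso ((Over.forget _).map ε'.hom))
    haveI : IsClosedImmersion ((Over.pullback j).map e).left :=
      MorphismProperty.overPullbackMap j e ‹IsClosedImmersion e.left›
    haveI : IsClosedImmersion ej.left :=
      inferInstanceAs (IsClosedImmersion (((Over.pullback j).map e).left ≫ ε'.hom.left))
    haveI : IsIso ej.left := isIso_of_torsion_spec hA hft ej fun n hn X x hx => by
      obtain ⟨a, ha⟩ := exists_toBC' j (x ≫ ε'.inv)
      obtain ⟨y, hy⟩ := h n hn _ a (by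
        refine toBC_inj j ?_
        rw [toBC_pow, ha, ← MonObj.pow_comp, hx, MonObj.one_comp, MTImage.toBC_one])
      refine ⟨toBC j y, ?_⟩
      show toBC j y ≫ (Over.pullback j).map e ≫ ε'.hom = x
      rw [← Category.assoc, ← toBC_comp, hy, ha, Category.assoc, ε'.inv_hom_id, Category.comp_id]
    haveI : IsIso ej := by
      haveI : IsIso ((Over.forget _).map ej) := ‹IsIso ej.left›
      exact isIso_of_reflects_iso ej (Over.forget _)
    refine ⟨(ε'.hom ≫ inv ej).left ≫ pullback.fst E.hom j, ?_⟩
    have h1 : (ε'.hom ≫ inv ej) ≫ (Over.pullback j).map e = 𝟙 _ := by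
      rw [← cancel_mono ε'.hom, Category.assoc, Category.assoc,
        show (Over.pullback j).map e ≫ ε'.hom = ej from rfl, IsIso.inv_hom_id, Category.comp_id, Category.id_comp]
    rw [Category.assoc, ← show ((Over.pullback j).map e).left ≫ pullback.fst T.hom j =
      pullback.fst E.hom j ≫ e.left from pullback.lift_fst _ _ _, ← Category.assoc, ← Over.comp_left, h1]
    exact Category.id_comp _
  choose l hl using key
  let 𝒱 := 𝒰.openCover.pullback₁ T.hom
  haveI : Mono e.left := inferInstance
  have hcompat : ∀ a b, pullback.fst (𝒱.f a) (𝒱.f b) ≫ l a = pullback.snd (𝒱.f a) (𝒱.f b) ≫ l b := fun a b => by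
    rw [← cancel_mono e.left, Category.assoc, Category.assoc, hl, hl]
    exact pullback.condition
  let s := Scheme.Cover.glueMorphisms 𝒱 l hcompat
  have hsl : ∀ a, 𝒱.f a ≫ s = l a := fun a => Scheme.Cover.ι_glueMorphisms 𝒱 l hcompat a
  have hs : s ≫ e.left = 𝟙 _ := Scheme.Cover.hom_ext 𝒱 _ _ fun a => by
    rw [← Category.assoc, hsl, Category.comp_id]
    exact hl a
  exact ⟨Over.homMk s (by show s ≫ E.hom = T.hom; rw [← Over.w e, ← Category.assoc, hs, Category.id_comp]),
    Over.OverMorphism.ext hs⟩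

/-- **A subgroup containing the torsion contains the group.** -/
theorem exists_factor_of_torsion {T R G : Over S} [GrpObj T] [GrpObj G] (hT : SGA3x.IsMultTypeFT T) (i : T ⟶ G)
    [IsMonHom i] (j : R ⟶ G) [IsClosedImmersion j.left]
    (h : ∀ n : ℕ, 0 < n → ∀ (X : Over S) (x : X ⟶ T), x ^ n = 1 → ∃ y : X ⟶ R, y ≫ j = x ≫ i) :
    ∃ w : T ⟶ R, w ≫ j = i := by
  let E : Over S := Over.mk (pullback.fst i.left j.left ≫ T.hom)
  let e : E ⟶ T := Over.homMk (pullback.fst i.left j.left)
  haveI : IsClosedImmersion e.left := inferInstanceAs (IsClosedImmersion (pullback.fst i.left j.left))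
  obtain ⟨s, hs⟩ := exists_section_of_torsion hT e fun n hn X x hx => by
    obtain ⟨y, hy⟩ := h n hn X x hx
    refine ⟨Over.homMk (pullback.lift x.left y.left (by rw [← Over.comp_left, ← hy]; rfl)) ?_,
      Over.OverMorphism.ext (pullback.lift_fst _ _ _)⟩
    show pullback.lift _ _ _ ≫ pullback.fst i.left j.left ≫ T.hom = X.hom
    rw [pullback.lift_fst_assoc]
    exact Over.w x
  have hs' : s.left ≫ pullback.fst i.left j.left = 𝟙 _ := congrArg CommaMorphism.left hs
  refine ⟨Over.homMk (s.left ≫ pullback.snd i.left j.left) ?_, Over.OverMorphism.ext ?_⟩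
  · rw [← Over.w j, Category.assoc, ← pullback.condition_assoc, reassoc_of% hs', Over.w i]
  · show (s.left ≫ pullback.snd i.left j.left) ≫ j.left = i.left
    rw [Category.assoc, ← pullback.condition, reassoc_of% hs']

end Groth.Agent.TorScheme
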