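import Groth.Agent.TorScheme.Moduli
import Groth.Agent.TorScheme.Dense
import Groth.Agent.MTBridge.MonoClosed
import Groth.Agent.MTImage.TorusTorsionCount

/-!
# The torsion system of a torus
-/

set_option autoImplicit false
set_option linter.style.haveILetI false
set_option linter.unusedSectionVars false
set_option backward.isDefEq.respectTransparency false
set_option maxHeartbeats 1000000
set_option synthInstance.maxHeartbeats 400000

universe u

open CategoryTheory Limits MonoidalCategory CartesianMonoidalCategory AlgebraicGeometry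
open scoped CategoryTheory.Obj MonObj

noncomputable section

namespace Groth.Agent.TorScheme

open Groth.Agent.MTBridge Groth.Agent.GrpSubRep

variable {S : Scheme.{u}}

/-- A monomorphism from a torus into an affine group is a closed immersion. -/
theorem isClosedImmersion_torus {X : Scheme.{u}} {T G : Over X} [GrpObj T] [GrpObj G] [IsAffineHom G.hom]
    (hT : Red.IsTorus T) (i : T ⟶ G) [IsMonHom i] [Mono i] : IsClosedImmersion i.left :=
  isClosedImmersion_of_mono (locally_of_isMultTypeFT' T (isMultTypeFT_of_isTorus T hT)) inferInstance i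

variable {G : Over S} [GrpObj G] [IsAffineHom G.hom] [LocallyOfFinitePresentation G.hom]

instance isAffineHom_bc' (X : Over S) : IsAffineHom (Red.bc X.hom G).hom :=
  MorphismProperty.pullback_snd (P := @IsAffineHom) G.hom X.hom inferInstance

/-- The family is the `n`-torsion of the subgroup. -/
def IsTorsOf {X : Over S} {T : Over X.left} (i : T ⟶ Red.bc X.hom G) (n : ℕ) (v : X ⟶ Par G) : Prop :=
  ∀ (Y : Over S) (g : Y ⟶ G) (t : Y ⟶ X), InK (uj G) g (t ≫ v) ↔ InK i g t ∧ g ^ n = 1

theorem IsTorsOf.eq {X : Over S} {T : Over X.left} {i : T ⟶ Red.bc X.hom G} {n : ℕ} {v v' : X ⟶ Par G}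
    (h : IsTorsOf i n v) (h' : IsTorsOf i n v') : v = v' :=
  eq_of_inK_iff G _ _ fun Y g t => (h Y g t).trans (h' Y g t).symm

theorem IsTorsOf.isTors {X : Over S} {T : Over X.left} {i : T ⟶ Red.bc X.hom G} {m n : ℕ} (hmn : m ∣ n)
    {v v' : X ⟶ Par G} (h : IsTorsOf i n v) (h' : IsTorsOf i m v') : IsTors m v v' := fun Y g t => by
  rw [h' Y g t, h Y g t, and_assoc]
  refine and_congr_right fun _ => ⟨fun hg => ⟨?_, hg⟩, fun hg => hg.2⟩
  obtain ⟨c, rfl⟩ := hmn
  rw [pow_mul, hg, one_pow]

/-- **The torsion of a torus is classified, with the type of its rank.** -/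
theorem exists_torsOf {X : Over S} {T : Over X.left} [GrpObj T] (i : T ⟶ Red.bc X.hom G) [IsMonHom i] [Mono i]
    (hT : Red.IsTorus T) (n : ℕ) [NeZero n] :
    ∃ v : X ⟶ Par G, IsTorsOf i n v ∧ ∀ (z : X.left) (d : ℕ),
      Nonempty (Grp.mk (Red.geomFibre z T) ≅
        Grp.mk (Red.DS (Spec (CommRingCat.of (AlgebraicClosure (X.left.residueField z)))) (Fin d → ℤ))) →
      Nonempty ((typ (v.left z)).Car ≃+ (Fin d → ZMod n)) := by
  haveI := isClosedImmersion_torus hT i
  have hMT := isMultTypeFT_of_isTorus T hT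
  obtain ⟨K', hK'g, k, hk, hkc, hK', hpts⟩ := exists_torsion_sub hMT n
  haveI := hk
  haveI := hkc
  haveI : Mono k.left := inferInstance
  haveI : Mono k := Over.mono_of_mono_left k
  haveI : IsImmersion (k ≫ i).left := inferInstanceAs (IsImmersion (k.left ≫ i.left))
  have hfib : ∀ (z : X.left) (d : ℕ), Nonempty (Grp.mk (Red.geomFibre z T) ≅
        Grp.mk (Red.DS (Spec (CommRingCat.of (AlgebraicClosure (X.left.residueField z)))) (Fin d → ℤ))) →
      Nonempty (Grp.mk (Red.geomFibre z K') ≅ Grp.mk (Red.DS (Spec (CommRingCat.of (AlgebraicClosure (X.left.residueField z))))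
        ((Fin d → ℤ) ⧸ (nsmulAddMonoidHom n : (Fin d → ℤ) →+ (Fin d → ℤ)).range))) := by
    rintro z d ⟨e⟩
    let q := Red.geomPt z
    haveI : PreservesLimitsOfShape WalkingCospan (Over.pullback q) :=
      (Adjunction.rightAdjoint_preservesLimits (Over.mapPullbackAdj q)).preservesLimitsOfShape
    haveI : Mono ((Over.pullback q).map k) := inferInstance
    haveI : IsMonHom ((Over.pullback q).map k) := inferInstance
    refine nonempty_iso_DS_torsion (K := Red.bc q T) (K' := Red.bc q K') e n ((Over.pullback q).map k) fun W w => ?_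
    obtain ⟨a, rfl⟩ := exists_toBC' q w
    rw [← toBC_pow, ← MTImage.toBC_one q]
    constructor
    · rintro ⟨y, hy⟩
      obtain ⟨b, rfl⟩ := exists_toBC' q y
      rw [← toBC_comp] at hy
      exact congrArg (toBC q) ((hpts _ a).1 ⟨b, toBC_inj q hy⟩)
    · intro h
      obtain ⟨b, hb⟩ := (hpts _ a).2 (toBC_inj q h)
      exact ⟨toBC q b, by rw [← toBC_comp, hb]⟩
  have hqfin : ∀ d : ℕ, Finite ((Fin d → ℤ) ⧸ (nsmulAddMonoidHom n : (Fin d → ℤ) →+ (Fin d → ℤ)).range) := fun d => by
    obtain ⟨q⟩ := nonempty_quot_equiv d n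
    exact Finite.of_equiv _ q.symm.toEquiv
  have hfinK : IsFinite K'.hom := isFinite_of_points hK' fun z => by
    refine ⟨_, Red.geomPt z, ⟨IsLocalRing.closedPoint _, geomPt_closedPoint z⟩, ?_⟩
    obtain ⟨d, ⟨e⟩⟩ := Chev.exists_split_algClosed (Chev.Borel.isTorus_bc_scheme T (Red.geomPt z) hT)
    obtain ⟨e'⟩ := hfib z d ⟨e⟩
    haveI := hqfin d
    haveI := (isFinite_DS (Spec (CommRingCat.of (AlgebraicClosure (X.left.residueField z))))
      ((Fin d → ℤ) ⧸ (nsmulAddMonoidHom n : (Fin d → ℤ) →+ (Fin d → ℤ)).range)).1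
    haveI : IsIso e'.hom.hom.hom.left :=
      inferInstanceAs (IsIso ((Over.forget _).map ((Grp.forget _).map e'.hom)))
    rw [show (Red.bc (Red.geomPt z) K').hom = e'.hom.hom.hom.left ≫ _ from (Over.w e'.hom.hom.hom).symm]
    infer_instance
  obtain ⟨v, hv⟩ := exists_point G (T := X) (k ≫ i) hK' hfinK
  refine ⟨v, fun Y g t => (hv Y g t).symm.trans (inK_torsion_iff i n k hpts g t), fun z d he => ?_⟩
  obtain ⟨e'⟩ := hfib z d he
  let c := Red.geomPt z ≫ X.hom
  let a : Over.mk c ⟶ X := Over.homMk (Red.geomPt z)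
  let w : Over.mk c ⟶ Par G := a ≫ v
  obtain ⟨ew⟩ := nonempty_iso_DS_geom w
  have hw : typ (w.left (IsLocalRing.closedPoint _)) = typ (v.left z) := by
    show typ (v.left (Red.geomPt z _)) = _
    rw [geomPt_closedPoint]
  rw [hw] at ew
  haveI := isMonHom_pullUK w
  haveI := mono_pullUK w
  haveI : IsMonHom (MTDescent.pullMap (k ≫ i) a) := MTDescent.isMonHom_pullMap (k ≫ i) a
  haveI : IsImmersion (MTDescent.pullMap (k ≫ i) a).left := MTDescent.isImmersion_pullMap (k ≫ i) a
  haveI : Mono (MTDescent.pullMap (k ≫ i) a).left := inferInstance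
  haveI : Mono (MTDescent.pullMap (k ≫ i) a) := Over.mono_of_mono_left _
  obtain ⟨dd⟩ := nonempty_grpIso_of_inK_iff (M := Over.mk c) (MTDescent.pullMap (k ≫ i) a) (pullUK w) fun Y g t => by
    rw [inK_pullMap_iff, inK_pullMap_iff, hv Y g (t ≫ a)]
    simp only [w, Category.assoc]
  haveI := hqfin d
  obtain ⟨θ⟩ := nonempty_addEquiv_of_iso (ew.symm ≪≫ dd.symm ≪≫ e')
  obtain ⟨q⟩ := nonempty_quot_equiv d n
  exact ⟨θ.trans q⟩

end Groth.Agent.TorScheme
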