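import Groth.Agent.TorScheme.Orbit
import Groth.Agent.MTImage.ToriConj
import Groth.Agent.MTQuot.Core
import Groth.Prelude.Def_Red2

/-!
# The scheme of maximal tori is the quotient by the normalizer
-/

set_option autoImplicit false
set_option linter.style.haveILetI false
set_option linter.unusedSectionVars false
set_option backward.isDefEq.respectTransparency false
set_option maxHeartbeats 1000000
set_option synthInstance.maxHeartbeats 400000

universe u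

noncomputable section

open CategoryTheory Limits MonoidalCategory CartesianMonoidalCategory AlgebraicGeometry
open scoped CategoryTheory.Obj MonObj

namespace Groth.Agent.TorScheme

open Groth.Agent.MTBridge Groth.Agent.GrpSubRep

variable {S : Scheme.{u}} {G : Over S} [GrpObj G]

/-- Points of the base change of a subgroup to the base. -/
theorem inK_id_iff {T : Over S} (i : T ⟶ G) {Y : Over S} (a : Y ⟶ G) (t : Y ⟶ 𝟙_ (Over S)) :
    InK (M := 𝟙_ (Over S)) ((Over.pullback (𝟙 S)).map i) a t ↔ ∃ z : Y ⟶ T, z ≫ i = a := by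
  have ht : t.left = Y.hom := (Category.comp_id _).symm.trans (Over.w t)
  constructor
  · rintro ⟨l, hl⟩
    have h1 := congrArg (fun z => z ≫ pullback.fst G.hom (𝟙 S)) hl
    have h1' : (l ≫ pullback.fst T.hom (𝟙 S)) ≫ i.left = a.left := by
      simpa [pt₂, Over.pullback, pullback.lift_fst_assoc] using h1
    exact ⟨Over.homMk (l ≫ pullback.fst T.hom (𝟙 S)) ((congrArg (_ ≫ ·) (Over.w i).symm).trans ((Category.assoc _ _ _).symm.trans
      ((congrArg (· ≫ G.hom) h1').trans (Over.w a)))),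
      Over.OverMorphism.ext h1'⟩
  · rintro ⟨z, hz⟩
    refine ⟨pullback.lift z.left t.left (by rw [Over.w z, ht]; exact (Category.comp_id _).symm), ?_⟩
    apply pullback.hom_ext
    · simp [pt₂, Over.pullback, ← hz]
    · simp [pt₂, Over.pullback]

variable [IsAffineHom G.hom] [Smooth G.hom]

variable {P : Over S} {U : Over P.left} [GrpObj U] {iu : U ⟶ Red.bc P.hom G} {T : Over S} [GrpObj T]
  {i : T ⟶ G} {q₀ : G ⟶ P}

/-- The fibres of the orbit map are the cosets of the normalizer. -/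
theorem orbit_fibre (hq : ∀ {Y : Over S} (g : Y ⟶ G) (a : Y ⟶ G), InK iu a (g ≫ q₀) ↔ ∃ z : Y ⟶ T, z ≫ i = g⁻¹ * a * g)
    (heq : ∀ {Y : Over S} (g : Y ⟶ G) (b : Y ⟶ P), (∀ (Y' : Over S) (y : Y' ⟶ Y) (a : Y' ⟶ G),
      InK iu a (y ≫ b) ↔ ∃ z : Y' ⟶ T, z ≫ i = (y ≫ g)⁻¹ * a * (y ≫ g)) → b = g ≫ q₀)
    {N : Over S} [GrpObj N] (n : N ⟶ G) (hN : Red.IsNormalizerOf i n) (Y : Over S) (a b : Y ⟶ G) :
    a ≫ q₀ = b ≫ q₀ ↔ ∃ z : Y ⟶ N, z ≫ n = a⁻¹ * b := by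
  refine ⟨fun h => ?_, ?_⟩
  · refine (hN.2.2 Y (a⁻¹ * b)).2 fun Y' y t => ⟨?_, ?_⟩
    · have h1 : InK iu ((y ≫ b) * (t ≫ i) * (y ≫ b)⁻¹) ((y ≫ a) ≫ q₀) := by
        rw [Category.assoc, h, ← Category.assoc]
        exact (hq (y ≫ b) _).2 ⟨t, by group⟩
      obtain ⟨z, hz⟩ := (hq (y ≫ a) _).1 h1
      exact ⟨z, by rw [hz, MonObj.comp_mul, GrpObj.comp_inv]; group⟩
    · have h1 : InK iu ((y ≫ a) * (t ≫ i) * (y ≫ a)⁻¹) ((y ≫ b) ≫ q₀) := by
        rw [Category.assoc, ← h, ← Category.assoc]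
        exact (hq (y ≫ a) _).2 ⟨t, by group⟩
      obtain ⟨z, hz⟩ := (hq (y ≫ b) _).1 h1
      exact ⟨z, by rw [hz, MonObj.comp_mul, GrpObj.comp_inv]; group⟩
  · rintro ⟨w, hw⟩
    have hb : b = a * (w ≫ n) := by rw [hw]; group
    refine heq b _ fun Y' y c => ?_
    rw [← Category.assoc, hq (y ≫ a) c]
    have hn := (hN.2.2 Y (a⁻¹ * b)).1 ⟨w, hw⟩
    constructor
    · rintro ⟨z, hz⟩
      obtain ⟨z', hz'⟩ := (hn Y' y z).2
      refine ⟨z', ?_⟩
      rw [← hz', hz, MonObj.comp_mul, GrpObj.comp_inv]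
      group
    · rintro ⟨z, hz⟩
      obtain ⟨z', hz'⟩ := (hn Y' y z).1
      refine ⟨z', ?_⟩
      rw [← hz', hz, MonObj.comp_mul, GrpObj.comp_inv]
      group

/-- The orbit map is smooth. -/
theorem smooth_orbit (hP : IsUniversalTorus iu) [Smooth P.hom] [IsMonHom i] [Mono i] (hT : Red.IsMaximalTorus i)
    (hq : ∀ {Y : Over S} (g : Y ⟶ G) (a : Y ⟶ G), InK iu a (g ≫ q₀) ↔ ∃ z : Y ⟶ T, z ≫ i = g⁻¹ * a * g)
    (heq : ∀ {Y : Over S} (g : Y ⟶ G) (b : Y ⟶ P), (∀ (Y' : Over S) (y : Y' ⟶ Y) (a : Y' ⟶ G),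
      InK iu a (y ≫ b) ↔ ∃ z : Y' ⟶ T, z ≫ i = (y ≫ g)⁻¹ * a * (y ≫ g)) → b = g ≫ q₀) :
    Smooth q₀.left := by
  let O : Over S := 𝟙_ (Over S)
  let i₀ : Red.bc (𝟙 S) T ⟶ Red.bc O.hom G := (Over.pullback (𝟙 S)).map i
  have hi₀ : Red.IsMaximalTorus i₀ := Chev.MaxTorusBC.isMaximalTorus_bc i hT (𝟙 S)
  -- the orbit map is the projection of a transporter
  let GP := Red.bc P.hom G
  haveI : Smooth GP.hom := inferInstanceAs (Smooth (pullback.snd G.hom P.hom))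
  haveI : IsAffineHom GP.hom := isAffineHom_bc' P
  haveI : IsSeparated GP.hom := inferInstance
  have h1 := isMaximalTorus_pullMap i₀ hi₀ (toUnit P)
  let i₁ := MTDescent.pullMap i₀ (toUnit P)
  haveI := h1.1; haveI := h1.2.1; haveI := hP.1.1; haveI := hP.1.2.1
  obtain ⟨C, j, hjc, hCs, hC⟩ := MTImage.exists_transporterEq_tori _ _ GP h1.2.2.1 hP.1.2.2.1 i₁ iu
  have hi₁ : ∀ {X' : Over P.left} (a : (Over.map P.hom).obj X' ⟶ G),
      (∃ h, h ≫ i₁ = toBC P.hom a) ↔ ∃ z : (Over.map P.hom).obj X' ⟶ T, z ≫ i = a := fun {X'} a => by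
    rw [← inK_str_iff, inK_pullMap_iff, inK_id_iff]
  have hcond : ∀ {C' : Over P.left} (γ₁ : (Over.map P.hom).obj C' ⟶ G),
      (∃ z : C' ⟶ C, z ≫ j = toBC P.hom γ₁) ↔
        γ₁ ≫ q₀ = (Over.homMk C'.hom : (Over.map P.hom).obj C' ⟶ P) := by
    intro C' γ₁
    rw [hC]
    constructor
    · intro hc
      refine (heq γ₁ _ fun Y' y a => ?_).symm
      let X' : Over P.left := Over.mk (y.left ≫ C'.hom)
      let e : (Over.map P.hom).obj X' ≅ Y' := Over.isoMk (Iso.refl _) (by simpa [X'] using (Over.w y).symm)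
      let x : X' ⟶ C' := Over.homMk y.left
      have hx : (Over.map P.hom).map x = e.hom ≫ y := by
        apply Over.OverMorphism.ext
        simp [e, x]
      have ht : (Over.homMk X'.hom : (Over.map P.hom).obj X' ⟶ P) =
          e.hom ≫ y ≫ (Over.homMk C'.hom : (Over.map P.hom).obj C' ⟶ P) := by
        apply Over.OverMorphism.ext
        simp [e, X']
      obtain ⟨hc₁, hc₂⟩ := hc X' x
      rw [← inK_left_eq iu e.hom a, ← ht, inK_str_iff]
      constructor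
      · rintro ⟨h₂, hh₂⟩
        obtain ⟨h₁, hh₁⟩ := hc₂ h₂
        obtain ⟨z, hz⟩ := (hi₁ ((e.hom ≫ y ≫ γ₁)⁻¹ * (e.hom ≫ a) * (e.hom ≫ y ≫ γ₁))).1 ⟨h₁, by
          rw [← hh₁, hh₂, ← toBC_precomp, hx, Category.assoc, toBC_mul, toBC_mul, toBC_inv]⟩
        refine ⟨e.inv ≫ z, ?_⟩
        rw [Category.assoc, hz, MonObj.comp_mul, MonObj.comp_mul, GrpObj.comp_inv, Iso.inv_hom_id_assoc,
          Iso.inv_hom_id_assoc]
      · rintro ⟨z, hz⟩
        obtain ⟨h₁, hh₁⟩ := (hi₁ (e.hom ≫ z ≫ i)).2 ⟨e.hom ≫ z, Category.assoc _ _ _⟩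
        obtain ⟨h₂, hh₂⟩ := hc₁ h₁
        refine ⟨h₂, ?_⟩
        rw [← hh₂, hh₁, ← toBC_precomp, hx, Category.assoc, ← toBC_inv, ← toBC_mul, ← toBC_mul]
        congr 1
        rw [hz, MonObj.comp_mul, MonObj.comp_mul, GrpObj.comp_inv]
        group
    · intro hc X' x
      have ht : ((Over.map P.hom).map x ≫ γ₁) ≫ q₀ = (Over.homMk X'.hom : (Over.map P.hom).obj X' ⟶ P) := by
        rw [Category.assoc, hc]
        apply Over.OverMorphism.ext
        simp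
      refine ⟨fun h₁ => ?_, fun h₂ => ?_⟩
      · obtain ⟨a, ha⟩ := exists_toBC' P.hom (h₁ ≫ i₁)
        obtain ⟨z, hz⟩ := (hi₁ a).1 ⟨h₁, ha.symm⟩
        obtain ⟨h₂, hh₂⟩ := (inK_str_iff iu (((Over.map P.hom).map x ≫ γ₁) * a *
          ((Over.map P.hom).map x ≫ γ₁)⁻¹)).1 (by rw [← ht, hq]; exact ⟨z, by rw [hz]; group⟩)
        exact ⟨h₂, by rw [hh₂, toBC_mul, toBC_mul, toBC_inv, toBC_precomp, ha]⟩
      · obtain ⟨a, ha⟩ := exists_toBC' P.hom (h₂ ≫ iu)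
        have h3 := (inK_str_iff iu a).2 ⟨h₂, ha.symm⟩
        rw [← ht, hq] at h3
        obtain ⟨h₁, hh₁⟩ := (hi₁ _).2 h3
        exact ⟨h₁, by rw [hh₁, toBC_mul, toBC_mul, toBC_inv, toBC_precomp, ha]⟩
  obtain ⟨γC, hγC⟩ := exists_toBC' P.hom j
  have hγq := (hcond γC).1 ⟨𝟙 C, by rw [Category.id_comp, hγC]⟩
  let X₀ : Over P.left := Over.mk q₀.left
  let ε : (Over.map P.hom).obj X₀ ⟶ G := Over.homMk (𝟙 _) (by simp [X₀])
  obtain ⟨z, hz⟩ := (hcond ε).2 (by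
    apply Over.OverMorphism.ext
    simp [ε, X₀])
  rw [← hγC, ← toBC_precomp] at hz
  have hzl : z.left ≫ γC.left = 𝟙 G.left := congrArg CommaMorphism.left (toBC_inj _ hz)
  have hθ : γC.left ≫ q₀.left = C.hom := congrArg CommaMorphism.left hγq
  have hlz : γC.left ≫ z.left = 𝟙 C.left := by
    haveI : Mono j.left := inferInstance
    rw [← cancel_mono j.left]
    refine Eq.trans ?_ (Category.id_comp j.left).symm
    apply pullback.hom_ext
    · have h2 : j.left ≫ pullback.fst G.hom P.hom = γC.left := by rw [← hγC, MTDescent.left_toBC_fst_eq]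
      rw [Category.assoc, Category.assoc, h2]
      exact (congrArg (γC.left ≫ ·) hzl).trans (Category.comp_id _)
    · have h2 : j.left ≫ pullback.snd G.hom P.hom = C.hom := Over.w j
      rw [Category.assoc, Category.assoc, h2, show z.left ≫ C.hom = q₀.left from Over.w z, hθ]
  haveI : IsIso z.left := ⟨γC.left, hzl, hlz⟩
  haveI hq₀s : Smooth q₀.left := by
    rw [show q₀.left = z.left ≫ C.hom from (Over.w z).symm]
    infer_instance
  exact hq₀s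

/-- Geometric points lift along the orbit map. -/
theorem exists_orbit_lift (hP : IsUniversalTorus iu) (hT : Red.IsMaximalTorus i)
    (hq : ∀ {Y : Over S} (g : Y ⟶ G) (a : Y ⟶ G), InK iu a (g ≫ q₀) ↔ ∃ z : Y ⟶ T, z ≫ i = g⁻¹ * a * g)
    (heq : ∀ {Y : Over S} (g : Y ⟶ G) (b : Y ⟶ P), (∀ (Y' : Over S) (y : Y' ⟶ Y) (a : Y' ⟶ G),
      InK iu a (y ≫ b) ↔ ∃ z : Y' ⟶ T, z ≫ i = (y ≫ g)⁻¹ * a * (y ≫ g)) → b = g ≫ q₀)
    {K : Type u} [Field K] [IsAlgClosed K] (c : Spec (CommRingCat.of K) ⟶ S) (bp : Over.mk c ⟶ P) :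
    ∃ g₀ : Over.mk c ⟶ G, bp = g₀ ≫ q₀ := by
  haveI := hT.1; haveI := hT.2.1
  let O : Over S := 𝟙_ (Over S)
  let i₀ : Red.bc (𝟙 S) T ⟶ Red.bc O.hom G := (Over.pullback (𝟙 S)).map i
  have hi₀ : Red.IsMaximalTorus i₀ := Chev.MaxTorusBC.isMaximalTorus_bc i hT (𝟙 S)
  let B : Over S := Over.mk c
  haveI : Smooth (Red.bc (Over.mk c).hom G).hom := inferInstanceAs (Smooth (pullback.snd G.hom c))
  haveI : IsAffineHom (Red.bc (Over.mk c).hom G).hom := isAffineHom_bc' B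
  haveI : QuasiCompact (Red.bc (Over.mk c).hom G).hom := inferInstance
  have hb := isMaximalTorus_pullMap iu hP.1 (P := Over.mk c) bp
  have hiB := isMaximalTorus_pullMap i₀ hi₀ (P := Over.mk c) (toUnit B)
  obtain ⟨g, φ, hφ⟩ := MTImage.exists_conjBy_maxTori (k := K) _
    (Chev.Borel.isMaxTorus_of_isMaximalTorus (k := K) _ hiB) _
    (Chev.Borel.isMaxTorus_of_isMaximalTorus (k := K) _ hb)
  obtain ⟨g₀, hg₀⟩ := exists_sect (X := B) g
  have hc : AGF.conjBy (sect g₀) (MTDescent.pullMap i₀ (toUnit B)) = φ.hom ≫ MTDescent.pullMap iu bp := by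
    rw [hg₀]; exact hφ
  exact ⟨g₀, heq g₀ bp fun Y' y a => by
    rw [← inK_pullMap_iff iu bp a y, ← inK_iso (M := B) φ, ← hc, inK_conjBy, inK_pullMap_iff, inK_id_iff]⟩

/-- The orbit map is surjective. -/
theorem surjective_orbit (hP : IsUniversalTorus iu) (hT : Red.IsMaximalTorus i)
    (hq : ∀ {Y : Over S} (g : Y ⟶ G) (a : Y ⟶ G), InK iu a (g ≫ q₀) ↔ ∃ z : Y ⟶ T, z ≫ i = g⁻¹ * a * g)
    (heq : ∀ {Y : Over S} (g : Y ⟶ G) (b : Y ⟶ P), (∀ (Y' : Over S) (y : Y' ⟶ Y) (a : Y' ⟶ G),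
      InK iu a (y ≫ b) ↔ ∃ z : Y' ⟶ T, z ≫ i = (y ≫ g)⁻¹ * a * (y ≫ g)) → b = g ≫ q₀) :
    Surjective q₀.left := by
  refine ⟨fun p => ?_⟩
  obtain ⟨g₀, e⟩ := exists_orbit_lift hP hT hq heq (Red.geomPt p ≫ P.hom) (Over.homMk (Red.geomPt p))
  refine ⟨g₀.left (IsLocalRing.closedPoint _), ?_⟩
  rw [← Scheme.Hom.comp_apply, ← Over.comp_left, ← e]
  exact geomPt_closedPoint p

omit [GrpObj U] [GrpObj T] in
/-- **The orbit map of a maximal torus covers the scheme of maximal tori, with fibres the cosets of the normalizer.** -/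
theorem exists_orbit [GrpObj U] [GrpObj T] [Smooth P.hom] (hP : IsUniversalTorus iu) (hT : Red.IsMaximalTorus i)
    {N : Over S} [GrpObj N] (n : N ⟶ G) (hN : Red.IsNormalizerOf i n) :
    ∃ q₀ : G ⟶ P, CoverMap.Covers q₀.left ∧
      ∀ (Y : Over S) (a b : Y ⟶ G), a ≫ q₀ = b ≫ q₀ ↔ ∃ z : Y ⟶ N, z ≫ n = a⁻¹ * b := by
  haveI := hT.1; haveI := hT.2.1
  let O : Over S := 𝟙_ (Over S)
  let i₀ : Red.bc (𝟙 S) T ⟶ Red.bc O.hom G := (Over.pullback (𝟙 S)).map i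
  have hi₀ : Red.IsMaximalTorus i₀ := Chev.MaxTorusBC.isMaximalTorus_bc i hT (𝟙 S)
  obtain ⟨q₀, hq₀, -⟩ := exists_classify iu hP (B := O) i₀ hi₀ (toUnit G) (𝟙 G)
  have hq : ∀ {Y : Over S} (g : Y ⟶ G) (a : Y ⟶ G),
      InK iu a (g ≫ q₀) ↔ ∃ z : Y ⟶ T, z ≫ i = g⁻¹ * a * g := fun {Y} g a => by
    rw [hq₀ Y a g, Category.comp_id, inK_id_iff]
  have heq : ∀ {Y : Over S} (g : Y ⟶ G) (b : Y ⟶ P), (∀ (Y' : Over S) (y : Y' ⟶ Y) (a : Y' ⟶ G),
      InK iu a (y ≫ b) ↔ ∃ z : Y' ⟶ T, z ≫ i = (y ≫ g)⁻¹ * a * (y ≫ g)) → b = g ≫ q₀ := fun {Y} g b hb => by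
    obtain ⟨c, -, hu⟩ := exists_classify iu hP (B := O) i₀ hi₀ (toUnit Y) g
    rw [hu b fun Y' a y => by rw [hb Y' y a, inK_id_iff],
      hu (g ≫ q₀) fun Y' a y => by rw [← Category.assoc, hq (y ≫ g) a, inK_id_iff]]
  haveI := smooth_orbit hP hT hq heq
  haveI := surjective_orbit hP hT hq heq
  exact ⟨q₀, ⟨G.left, q₀.left, 𝟙 _,
    Scheme.fppfPrecoverage_le_fpqcPrecoverage _ q₀.left.singleton_mem_fppfPrecoverage, Category.id_comp _⟩,
    orbit_fibre hq heq n hN⟩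

end Groth.Agent.TorScheme
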