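import Groth.Agent.TorScheme.TorQuot
import Groth.Agent.MTQuot.Core
import Groth.Agent.CoverMap.Group

/-!
# Quotients by the centralizer and by the normalizer
-/

set_option autoImplicit false
set_option linter.style.haveILetI false
set_option linter.unusedSectionVars false
set_option backward.isDefEq.respectTransparency false
set_option maxHeartbeats 1000000
set_option synthInstance.maxHeartbeats 400000

universe u

noncomputable section

open CategoryTheory Limits MonoidalCategory CartesianMonoidalCategory AlgebraicGeometry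
open scoped CategoryTheory.Obj MonObj

namespace Groth.Agent.TorScheme

variable {S : Scheme.{u}} {G N C W P Q' : Over S} [GrpObj G] [GrpObj N] [GrpObj C]

/-- **The map from the quotient by a subgroup to the quotient by a larger one is finite if the quotient of the two is.** -/
theorem exists_finite_of_quotients (n : N ⟶ G) [IsMonHom n] [Mono n] (c : C ⟶ G) (c' : C ⟶ N) (hc' : c' ≫ n = c)
    (w : N ⟶ W) (hw : RedSub.IsQuotient c' w) [IsFinite W.hom] (q₀ : G ⟶ P) (hq₀ : CoverMap.Covers q₀.left)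
    (hrel₀ : ∀ (Y : Over S) (a b : Y ⟶ G), a ≫ q₀ = b ≫ q₀ ↔ ∃ z : Y ⟶ N, z ≫ n = a⁻¹ * b)
    (q' : G ⟶ Q') (hq' : RedSub.IsQuotient c q') : ∃ d : Q' ⟶ P, IsFinite d.left := by
  obtain ⟨hrw, hcw⟩ := MTQuot.isRel_of_isQuotient c' w hw
  obtain ⟨hrq, hcq⟩ := MTQuot.isRel_of_isQuotient c q' hq'
  obtain ⟨d, hd, -⟩ := CoverMap.existsUnique_fac hcq q₀ fun X a b h => by
    obtain ⟨z, hz⟩ := (hrq X a b).1 h
    exact (hrel₀ X a b).2 ⟨z ≫ c', by rw [Category.assoc, hc', hz]; group⟩
  refine ⟨d, ?_⟩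
  let m₀ : G ⊗ N ⟶ G := fst G N * (snd G N ≫ n)
  have hm₀ : ∀ {X : Over S} (x : X ⟶ G ⊗ N), x ≫ m₀ = (x ≫ fst G N) * ((x ≫ snd G N) ≫ n) := fun x => by
    rw [MonObj.comp_mul, Category.assoc]
  have hGw : CoverMap.Covers (G ◁ w).left := hcw.of_isPullback (Assoc.isPullback_whiskerLeft w).flip
  obtain ⟨ψ, hψ, -⟩ := CoverMap.existsUnique_fac hGw (m₀ ≫ q') fun X x y h => by
    have h₁ : x ≫ fst G N = y ≫ fst G N := by
      simpa using congrArg (fun z => z ≫ fst G W) h
    have h₂ : (x ≫ snd G N) ≫ w = (y ≫ snd G N) ≫ w := by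
      simpa using congrArg (fun z => z ≫ snd G W) h
    obtain ⟨e, he⟩ := (hrw X _ _).1 h₂
    rw [← Category.assoc, ← Category.assoc]
    refine (hrq X _ _).2 ⟨e, ?_⟩
    rw [hm₀, hm₀, h₁, he]
    simp only [MonObj.mul_comp, Category.assoc, hc', _root_.mul_assoc]
  -- the square is cartesian on points
  have hsq : IsPullback m₀ (fst G N) q₀ q₀ := by
    haveI : Mono n := ‹_›
    have h := isPullback_of_rel n q₀ hrel₀
    have hμ : (G ◁ n) ≫ μ[G] = m₀ := by
      show _ = fst G N * (snd G N ≫ n)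
      rw [Hom.mul_def]
      congr 1
    rw [hμ] at h
    exact h.flip
  let K : Over S := Over.mk (pullback.fst q₀.left d.left ≫ G.hom)
  let k₁ : K ⟶ G := Over.homMk (pullback.fst q₀.left d.left)
  let k₂ : K ⟶ Q' := Over.homMk (pullback.snd q₀.left d.left) (by
    show _ ≫ Q'.hom = pullback.fst q₀.left d.left ≫ G.hom
    rw [← Over.w d, ← pullback.condition_assoc, Over.w q₀])
  have hK : k₁ ≫ q₀ = k₂ ≫ d := Over.OverMorphism.ext pullback.condition
  let mK : G ⊗ N ⟶ K := Over.homMk (pullback.lift (fst G N).left (m₀ ≫ q').left (by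
    have := congrArg (fun z : G ⊗ N ⟶ P => z.left) hsq.w.symm
    exact this.trans (by rw [← hd]; simp))) (by
    show _ ≫ pullback.fst q₀.left d.left ≫ G.hom = _
    rw [pullback.lift_fst_assoc, Over.w])
  have hmK₁ : mK ≫ k₁ = fst G N := Over.OverMorphism.ext (pullback.lift_fst _ _ _)
  have hmK₂ : mK ≫ k₂ = m₀ ≫ q' := Over.OverMorphism.ext (pullback.lift_snd _ _ _)
  have hmKc : CoverMap.Covers mK.left := by
    have hsq' : IsPullback m₀.left (fst G N).left (q'.left ≫ d.left) q₀.left := by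
      have h := hsq.map (Over.forget S)
      rw [← Over.comp_left, hd]
      exact h
    refine hcq.of_isPullback (a := m₀.left) (b := pullback.snd q₀.left d.left) ?_
    refine IsPullback.of_bot ?_ ?_ (IsPullback.of_hasPullback q₀.left d.left).flip |>.flip
    · rw [show mK.left ≫ pullback.fst q₀.left d.left = (fst G N).left from pullback.lift_fst _ _ _]
      exact hsq'
    · exact (pullback.lift_snd _ _ _).symm
  haveI := CoverMap.epi_over hGw
  haveI := CoverMap.epi_over hmKc
  let g₁ : G ⊗ W ⟶ K := Over.homMk (pullback.lift (fst G W).left ψ.left (by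
    rw [← Over.comp_left, ← Over.comp_left]
    refine congrArg CommaMorphism.left ((cancel_epi (G ◁ w)).1 ?_)
    rw [reassoc_of% hψ, ← Category.assoc, hd]
    have := hsq.w
    rw [this]
    simp)) (by
    show _ ≫ pullback.fst q₀.left d.left ≫ G.hom = _
    rw [pullback.lift_fst_assoc, Over.w])
  have hg₁ : g₁ ≫ k₁ = fst G W := Over.OverMorphism.ext (pullback.lift_fst _ _ _)
  have hg₁m : (G ◁ w) ≫ g₁ = mK := by
    apply Over.OverMorphism.ext
    apply pullback.hom_ext
    · exact congrArg CommaMorphism.left (show ((G ◁ w) ≫ g₁) ≫ k₁ = mK ≫ k₁ by rw [Category.assoc, hg₁, hmK₁]; simp)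
    · refine Eq.trans ?_ (pullback.lift_snd _ _ _).symm
      rw [Over.comp_left, Category.assoc]
      show _ ≫ pullback.lift _ ψ.left _ ≫ pullback.snd q₀.left d.left = _
      rw [pullback.lift_snd, ← Over.comp_left, hψ]
  obtain ⟨g₂, hg₂, -⟩ := CoverMap.existsUnique_fac hmKc (G ◁ w) fun X x y h => by
    have h₁ : x ≫ fst G N = y ≫ fst G N := by rw [← hmK₁, reassoc_of% h]
    have h₂ : (x ≫ m₀) ≫ q' = (y ≫ m₀) ≫ q' := by
      rw [Category.assoc, Category.assoc, ← hmK₂, reassoc_of% h]
    obtain ⟨e, he⟩ := (hrq X _ _).1 h₂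
    apply CartesianMonoidalCategory.hom_ext
    · simpa using h₁
    · simp only [Category.assoc, whiskerLeft_snd]
      rw [← Category.assoc, ← Category.assoc]
      refine (hrw X _ _).2 ⟨e, ?_⟩
      rw [hm₀, hm₀, h₁, _root_.mul_assoc] at he
      have he' := mul_left_cancel he
      rw [← cancel_mono n, MonObj.mul_comp, Category.assoc e c' n, hc']
      exact he'
  let e : G ⊗ W ≅ K := ⟨g₁, g₂, by rw [← cancel_epi (G ◁ w), reassoc_of% hg₁m, hg₂, Category.comp_id],
    by rw [← cancel_epi mK, reassoc_of% hg₂, hg₁m, Category.comp_id]⟩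
  have hfin : IsFinite k₁.left := by
    haveI : IsIso e.inv.left := ((Over.forget S).mapIso e.symm).isIso_hom
    have h : k₁ = e.inv ≫ fst G W := by rw [Iso.eq_inv_comp]; exact hg₁
    rw [h, Over.comp_left]
    haveI : IsFinite (fst G W).left := inferInstanceAs (IsFinite (pullback.fst G.hom W.hom))
    infer_instance
  exact hq₀.descend @IsFinite (IsPullback.of_hasPullback q₀.left d.left).flip hfin

end Groth.Agent.TorScheme
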