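import Groth.Agent.MTImage.CentralLocus

/-!
# A central maximal torus of a subgroup near a point
-/

set_option autoImplicit false
set_option linter.style.haveILetI false
set_option backward.isDefEq.respectTransparency false
set_option maxHeartbeats 1000000
set_option synthInstance.maxHeartbeats 400000

universe u

noncomputable section

open CategoryTheory Limits MonoidalCategory CartesianMonoidalCategory MonObj GrpObj AlgebraicGeometry
open scoped CategoryTheory.Obj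

namespace Groth.Agent.TorScheme

open Groth.Agent.MTImage Groth.Agent.MTBridge Groth.Agent.Chev

variable {S U : Scheme.{u}}

/-- **The locus of central maximal tori is open and carries a maximal torus.** -/
theorem exists_central_torus_nhd {C G : Over S} [GrpObj C] [GrpObj G] [Smooth G.hom] [IsSeparated G.hom] [QuasiCompact G.hom]
    (hG : SGA3x.HasMaxTorusFpqcLocally G) [Smooth C.hom] [QuasiCompact C.hom] (c : C ⟶ G) [IsMonHom c] [Mono c]
    (hconn : ∀ s : S, ConnectedSpace ↥(pullback C.hom (S.fromSpecResidueField s))) {K : Type u} [Field K]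
    [IsAlgClosed K] (x : Spec (CommRingCat.of K) ⟶ S) (hx : CentralAt c x) :
    ∃ V : S.Opens, x (IsLocalRing.closedPoint K) ∈ V ∧
      ∃ (T : Over (V : Scheme.{u})) (_ : GrpObj T) (t : T ⟶ Red.bc V.ι C), IsMonHom t ∧
        Red.IsMaximalTorus (t ≫ (Over.pullback V.ι).map c) ∧
        ∀ (X : Over (V : Scheme.{u})) (a : X ⟶ T) (y : X ⟶ Red.bc V.ι C), (a ≫ t) * y = y * (a ≫ t) := by
  haveI : Mono c.left := inferInstance
  haveI : IsSeparated C.hom := by rw [← Over.w c]; infer_instance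
  obtain ⟨S₁, f, hff, hfs, hfc, T₁, hT₁g, i₁, hi₁⟩ := hG
  haveI := hff; haveI := hfs
  haveI := hi₁.1; haveI := hi₁.2.1
  let G₁ := Red.bc f G
  let C₁ := Red.bc f C
  let c₁ : C₁ ⟶ G₁ := (Over.pullback f).map c
  haveI : Smooth G₁.hom := inferInstanceAs (Smooth (pullback.snd G.hom f))
  haveI : IsSeparated G₁.hom := inferInstanceAs (IsSeparated (pullback.snd G.hom f))
  haveI : QuasiCompact G₁.hom := inferInstanceAs (QuasiCompact (pullback.snd G.hom f))
  haveI : Smooth C₁.hom := inferInstanceAs (Smooth (pullback.snd C.hom f))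
  haveI : QuasiCompact C₁.hom := inferInstanceAs (QuasiCompact (pullback.snd C.hom f))
  haveI : PreservesLimitsOfShape WalkingCospan (Over.pullback f) :=
    (Adjunction.rightAdjoint_preservesLimits (Over.mapPullbackAdj f)).preservesLimitsOfShape
  haveI : Mono c₁ := inferInstance
  haveI : IsMonHom c₁ := inferInstanceAs (IsMonHom ((Over.pullback f).map c))
  obtain ⟨X₀, j₀, hj₀, hsm, hX₀⟩ := exists_transporter_into T₁ C₁ G₁ hi₁.2.2.1 i₁ c₁
  haveI := hsm
  let p := X₀.hom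
  haveI : Smooth p := hsm
  haveI : PreservesLimitsOfShape WalkingCospan (Over.pullback p) :=
    (Adjunction.rightAdjoint_preservesLimits (Over.mapPullbackAdj p)).preservesLimitsOfShape
  let C₂ := Red.bc p C₁
  let G₂ := Red.bc p G₁
  let T₂ := Red.bc p T₁
  let c₂ : C₂ ⟶ G₂ := (Over.pullback p).map c₁
  let i₂ : T₂ ⟶ G₂ := (Over.pullback p).map i₁
  haveI : Smooth G₂.hom := inferInstanceAs (Smooth (pullback.snd G₁.hom p))
  haveI : IsSeparated G₂.hom := inferInstanceAs (IsSeparated (pullback.snd G₁.hom p))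
  haveI : QuasiCompact G₂.hom := inferInstanceAs (QuasiCompact (pullback.snd G₁.hom p))
  haveI : Smooth C₂.hom := inferInstanceAs (Smooth (pullback.snd C₁.hom p))
  haveI : QuasiCompact C₂.hom := inferInstanceAs (QuasiCompact (pullback.snd C₁.hom p))
  haveI : Mono c₂ := inferInstance
  haveI : IsMonHom c₂ := inferInstanceAs (IsMonHom ((Over.pullback p).map c₁))
  haveI : IsMonHom i₂ := inferInstanceAs (IsMonHom ((Over.pullback p).map i₁))
  haveI : Mono i₂ := inferInstance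
  haveI : Mono c₂.left := inferInstance
  haveI : IsSeparated C₂.hom := by rw [← Over.w c₂]; infer_instance
  have hconn₂ : ∀ u : X₀.left, ConnectedSpace ↥(pullback C₂.hom (X₀.left.fromSpecResidueField u)) :=
    connected_fibre_bc C₁ p (connected_fibre_bc C f hconn)
  let eσ : (Over.map p).obj (𝟙_ (Over X₀.left)) ≅ X₀ :=
    Over.isoMk (Iso.refl _) (show 𝟙 X₀.left ≫ p = 𝟙 X₀.left ≫ p from rfl)
  let g : 𝟙_ (Over X₀.left) ⟶ G₂ := toBC p (eσ.hom ≫ j₀)
  obtain ⟨t, ht⟩ : ∃ t : T₂ ⟶ C₂, t ≫ c₂ = i₂ ≫ (inn g).hom := by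
    have hcσ := (hX₀ _ (eσ.hom ≫ j₀)).1 ⟨eσ.hom, rfl⟩
    obtain ⟨a, ha⟩ := exists_toBC p (𝟙 T₂)
    obtain ⟨b, hb⟩ := hcσ _ ((Over.map p).map (toUnit _)) a
    refine ⟨toBC p b, ?_⟩
    have h := congrArg (toBC p) hb
    rw [toBC_mul, toBC_mul, toBC_inv, toBC_precomp, toBC_comp p i₁ a, toBC_comp p c₁ b, ha, Category.id_comp] at h
    rw [comp_inn, ← h]
  haveI : IsMonHom t := MTSplit.isMonHom_of_comp_mono t c₂ (i₂ ≫ (inn g).hom) ht
  haveI : Mono (t ≫ c₂) := by rw [ht]; exact mono_comp _ _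
  haveI : Mono t := mono_of_mono t c₂
  haveI : IsMonHom (Iso.refl T₂).hom := inferInstanceAs (IsMonHom (𝟙 T₂))
  have hT₂ : Red.IsTorus T₂ := Borel.isTorus_bc_scheme T₁ p hi₁.2.2.1
  have hmax : Red.IsMaximalTorus (t ≫ c₂) := isMaximalTorus_iso (Iso.refl _) (inn g) i₂ (t ≫ c₂)
    (by rw [Iso.refl_hom, Category.id_comp, ht]) hT₂ (MaxTorusBC.isMaximalTorus_bc i₁ hi₁ p)
  -- the open set where it is central
  let O : Set X₀.left.Opens := {W | ∀ (X : Over X₀.left) (_ : X ⟶ Over.mk (Scheme.Opens.ι W)) (y : X ⟶ C₂) (q : X ⟶ T₂),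
    y * (q ≫ t) = (q ≫ t) * y}
  let W₀ : X₀.left.Opens := sSup O
  let A : Set S := (p ≫ f).base '' (W₀ : Set X₀.left)
  have hK1 : ∀ {L : Type u} [Field L] [IsAlgClosed L] (b : Spec (CommRingCat.of L) ⟶ S₁),
      CentralAt c₁ b → b (IsLocalRing.closedPoint L) ∈ p.base '' (W₀ : Set X₀.left) := by
    intro L _ _ b hb
    obtain ⟨R, hRg, r, hrm, hrmax, hrc⟩ := id hb
    haveI := hrm
    haveI : Smooth (Red.bc b G₁).hom := inferInstanceAs (Smooth (pullback.snd G₁.hom b))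
    haveI : QuasiCompact (Red.bc b G₁).hom := inferInstanceAs (QuasiCompact (pullback.snd G₁.hom b))
    obtain ⟨g', φ, hφ⟩ := exists_conjBy_maxTori _ (MaxTorusBC.isMaxTorus_pt i₁ hi₁ b) _ hrmax
    have hφ' : ∀ {Y : Over _} (y : Y ⟶ Red.bc b T₁),
        (toUnit _ ≫ g') * (y ≫ (Over.pullback b).map i₁) * (toUnit _ ≫ g')⁻¹ =
          (y ≫ φ.hom ≫ r) ≫ (Over.pullback b).map c₁ := fun {Y} y => by
      rw [Category.assoc, Category.assoc, ← hφ, MonObj.comp_mul,
        MonObj.comp_mul, GrpObj.comp_inv, ← Category.assoc, comp_toUnit]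
    let e : Over.mk b ≅ (Over.map b).obj (𝟙_ _) := Over.isoMk (Iso.refl _) (by simp)
    obtain ⟨z, -⟩ := (hX₀ _ (e.hom ≫ fromBC b g')).2 fun X q a => by
      let ε : (Over.map b).obj (Over.mk q.left) ≅ X := Over.isoMk (Iso.refl _) (by simpa using (Over.w q).symm)
      have hp : (Over.map b).map (toUnit (Over.mk q.left)) = ε.hom ≫ q ≫ e.hom := by
        apply Over.OverMorphism.ext
        simp [ε, e]
      have h := congrArg (fromBC b) (hφ' (toBC b (ε.hom ≫ a)))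
      rw [fromBC_mul, fromBC_mul, fromBC_inv, fromBC_comp, fromBC_comp_map, fromBC_comp_map, fromBC_toBC, hp] at h
      refine ⟨ε.inv ≫ fromBC b (toBC b (ε.hom ≫ a) ≫ φ.hom ≫ r), (cancel_epi ε.hom).1 ?_⟩
      simp only [MonObj.comp_mul, GrpObj.comp_inv, Category.assoc, Iso.hom_inv_id_assoc] at h ⊢
      exact h
    let a := z.left
    have ha : a ≫ p = b := Over.w z
    have hca : CentralAt c₂ a := (centralAt_bc c₁ p a).2 (by rw [ha]; exact hb)
    have hcomm := comm_residue_of_pt t a _ rfl (central_of_centralAt c₂ t hmax a hca)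
    obtain ⟨W, huW, hW⟩ := exists_central_nhd (isMultTypeFT_of_isTorus T₂ hT₂) hconn₂ t _ hcomm
    refine ⟨a (IsLocalRing.closedPoint L), TopologicalSpace.Opens.mem_sSup.2 ⟨W, hW, huW⟩, ?_⟩
    show (a ≫ p) (IsLocalRing.closedPoint L) = _
    rw [ha]
    rfl
  have hK2 : ∀ {L : Type u} [Field L] [IsAlgClosed L] (a : Spec (CommRingCat.of L) ⟶ X₀.left),
      a (IsLocalRing.closedPoint L) ∈ W₀ → CentralAt c ((a ≫ p) ≫ f) := by
    intro L _ _ a ha
    refine (centralAt_bc c f (a ≫ p)).1 ((centralAt_bc c₁ p a).1 ?_)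
    obtain ⟨W, hW, haW⟩ := TopologicalSpace.Opens.mem_sSup.1 ha
    haveI : LocallyOfFiniteType (Red.bc a G₂).hom := inferInstanceAs (LocallyOfFiniteType (pullback.snd G₂.hom a))
    haveI : QuasiCompact (Red.bc a G₂).hom := inferInstanceAs (QuasiCompact (pullback.snd G₂.hom a))
    refine ⟨Red.bc a T₂, inferInstance, (Over.pullback a).map t, inferInstance, ?_, fun X y z => ?_⟩
    · rw [← Functor.map_comp]
      exact Borel.isMaxTorus_of_isMaximalTorus _ (MaxTorusBC.isMaximalTorus_bc _ hmax a)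
    · obtain ⟨y, rfl⟩ := exists_toBC' a y
      obtain ⟨z, rfl⟩ := exists_toBC' a z
      rw [← toBC_comp, ← toBC_mul, ← toBC_mul]
      refine congrArg (toBC a) ?_
      have hr : Set.range (X.hom ≫ a) ⊆ Set.range (Scheme.Opens.ι W) := by
        rintro _ ⟨w, rfl⟩
        rw [Scheme.Opens.range_ι W, Scheme.Hom.comp_apply,
          Subsingleton.elim (α := PrimeSpectrum L) (X.hom w) (IsLocalRing.closedPoint L)]
        exact haW
      exact (hW _ (Over.homMk (IsOpenImmersion.lift (Scheme.Opens.ι W) (X.hom ≫ a) hr) (IsOpenImmersion.lift_fac _ _ _)) z y).symm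
  have hsat : f.base ⁻¹' A = p.base '' (W₀ : Set X₀.left) := by
    refine subset_antisymm ?_ ?_
    · rintro y ⟨w, hw, hwy⟩
      obtain ⟨L, _, _, a, b, hab, haw, hby⟩ := exists_common_pt (p ≫ f) f w y hwy
      rw [← hby]
      refine hK1 b ((centralAt_bc c f b).2 ?_)
      rw [← hab, ← Category.assoc]
      exact hK2 a (by rw [haw]; exact hw)
    · rintro _ ⟨w, hw, rfl⟩
      exact ⟨w, hw, rfl⟩
  have hA : IsOpen A := by
    obtain ⟨Z, q, r, hq, hr⟩ := CoverMap.covers_of_hcov (f := f)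
      ⟨S₁, f, 𝟙 _, Category.id_comp _, hfs, hff, hfc⟩
    refine FpqcDescent.isOpen_of_fpqcPrecoverage hq A ?_
    rintro _ _ ⟨⟩
    rw [← hr, Scheme.Hom.comp_base, TopCat.coe_comp, Set.preimage_comp, hsat]
    exact (p.isOpenMap _ W₀.2).preimage r.continuous
  let V : S.Opens := ⟨A, hA⟩
  have hxV : x (IsLocalRing.closedPoint K) ∈ V := by
    obtain ⟨y, hy⟩ := hfs.surj (x (IsLocalRing.closedPoint K))
    obtain ⟨L, _, _, a, b, hab, -, hby⟩ := exists_common_pt x f (IsLocalRing.closedPoint K) y hy.symm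
    obtain ⟨w, hw, hwb⟩ := hK1 b ((centralAt_bc c f b).2 (by rw [← hab]; exact centralAt_comp c x a hx))
    refine ⟨w, hw, ?_⟩
    rw [Scheme.Hom.comp_apply, hwb, hby, hy]
  refine ⟨V, hxV, ?_⟩
  -- the covering
  let ψ := W₀.ι ≫ p ≫ f
  have hψr : Set.range ψ ⊆ Set.range V.ι := by
    rintro _ ⟨w, rfl⟩
    rw [V.range_ι]
    exact ⟨W₀.ι w, w.2, rfl⟩
  let h : (W₀ : Scheme.{u}) ⟶ (V : Scheme.{u}) := IsOpenImmersion.lift V.ι ψ hψr
  have hh : h ≫ V.ι = ψ := IsOpenImmersion.lift_fac _ _ _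
  have hhs : Surjective h := ⟨fun v => by
    obtain ⟨w, hw, hwv⟩ := v.2
    refine ⟨⟨w, hw⟩, V.ι.isOpenEmbedding.injective ?_⟩
    rw [← Scheme.Hom.comp_apply, hh]
    exact hwv⟩
  have hhf : Flat h := by
    haveI : Flat (h ≫ V.ι) := by rw [hh]; infer_instance
    have hsq : IsPullback h (𝟙 _) V.ι (h ≫ V.ι) :=
      ⟨⟨(Category.id_comp _).symm⟩, ⟨PullbackCone.IsLimit.mk _ (fun s => s.snd)
        (fun s => by rw [← cancel_mono V.ι, Category.assoc, ← s.condition]) (fun s => Category.comp_id _)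
        (fun s m _ hm => by simpa using hm)⟩⟩
    exact MorphismProperty.of_isPullback (P := @Flat) hsq.flip ‹Flat (h ≫ V.ι)›
  haveI := hhs; haveI := hhf
  have hcond : ∀ Q : (V : Scheme.{u}).Opens, IsAffineOpen Q →
      ∃ W : (W₀ : Scheme.{u}).Opens, IsCompact (W : Set W₀) ∧ h.base '' (W : Set W₀) = (Q : Set V) := by
    intro Q hQ
    obtain ⟨W₁, hW₁, hW₁Q⟩ := hfc (V.ι ''ᵁ Q) (hQ.image_of_isOpenImmersion _)
    obtain ⟨W, hW, hWW⟩ := exists_compact_lift_open (W₀.ι ≫ p) (W₀.ι ≫ p).isOpenMap W₁ hW₁ (by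
      intro y hy
      have : f y ∈ A := by
        obtain ⟨v, -, hv⟩ := (hW₁Q.le ⟨y, hy, rfl⟩ : f y ∈ (V.ι ''ᵁ Q : Set S))
        rw [← hv]; exact v.2
      obtain ⟨w, hw, rfl⟩ := hsat.le this
      exact ⟨⟨w, hw⟩, rfl⟩)
    refine ⟨W, hW, (Set.image_injective.2 V.ι.isOpenEmbedding.injective) ?_⟩
    rw [← Set.image_comp]
    show (⇑(h ≫ V.ι).base) '' _ = _
    rw [hh]
    show (⇑((W₀.ι ≫ p) ≫ f).base) '' _ = _
    rw [Scheme.Hom.comp_base, TopCat.coe_comp, Set.image_comp, hWW, hW₁Q]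
    rfl
  -- transfer
  let tW := (Over.pullback W₀.ι).map t
  haveI : PreservesLimitsOfShape WalkingCospan (Over.pullback W₀.ι) :=
    (Adjunction.rightAdjoint_preservesLimits (Over.mapPullbackAdj W₀.ι)).preservesLimitsOfShape
  haveI : LocallyOfFiniteType (Red.bc W₀.ι C₂).hom :=
    inferInstanceAs (LocallyOfFiniteType (pullback.snd C₂.hom W₀.ι))
  haveI : QuasiCompact (Red.bc W₀.ι C₂).hom := inferInstanceAs (QuasiCompact (pullback.snd C₂.hom W₀.ι))
  have htcW : Red.IsMaximalTorus (tW ≫ (Over.pullback W₀.ι).map c₂) := by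
    rw [← Functor.map_comp]; exact MaxTorusBC.isMaximalTorus_bc _ hmax _
  have htW : Red.IsMaximalTorus tW := isMaximalTorus_of_comp tW _ htcW
  have htWc : ∀ (X : Over (W₀ : Scheme.{u})) (a : X ⟶ Red.bc W₀.ι T₂) (y : X ⟶ Red.bc W₀.ι C₂),
      (a ≫ tW) * y = y * (a ≫ tW) := by
    intro X a y
    obtain ⟨a, rfl⟩ := exists_toBC' W₀.ι a
    obtain ⟨y, rfl⟩ := exists_toBC' W₀.ι y
    rw [← toBC_comp, ← toBC_mul, ← toBC_mul]
    refine congrArg (toBC W₀.ι) (Over.OverMorphism.ext ?_)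
    refine hom_ext_fromSpecStalk _ _ fun w => ?_
    obtain ⟨W, hW, hwW⟩ := TopologicalSpace.Opens.mem_sSup.1
      (show ((Over.map W₀.ι).obj X).hom w ∈ W₀ from (X.hom w).2)
    let P : ((Over.map W₀.ι).obj X).left.Opens := ((Over.map W₀.ι).obj X).hom ⁻¹ᵁ W
    let Y : Over X₀.left := Over.mk (P.ι ≫ ((Over.map W₀.ι).obj X).hom)
    let e : Y ⟶ (Over.map W₀.ι).obj X := Over.homMk P.ι rfl
    have hr : Set.range Y.hom ⊆ Set.range (Scheme.Opens.ι W) := by
      rintro _ ⟨v, rfl⟩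
      rw [Scheme.Opens.range_ι W]
      exact v.2
    have key := hW Y (Over.homMk (IsOpenImmersion.lift (Scheme.Opens.ι W) Y.hom hr) (IsOpenImmersion.lift_fac _ _ _)) (e ≫ y) (e ≫ a)
    rw [Category.assoc, ← MonObj.comp_mul, ← MonObj.comp_mul] at key
    have hr' : Set.range (((Over.map W₀.ι).obj X).left.fromSpecStalk w) ⊆ Set.range P.ι := by
      rw [P.range_ι]
      rintro _ ⟨v, rfl⟩
      exact ((Scheme.range_fromSpecStalk (x := w)).le ⟨v, rfl⟩ : _ ⤳ w).mem_open P.2 hwW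
    rw [← IsOpenImmersion.lift_fac P.ι _ hr', Category.assoc, Category.assoc]
    exact congrArg (fun z => IsOpenImmersion.lift P.ι _ hr' ≫ z) (congrArg (fun z => z.left) key).symm
  obtain ⟨eC1, heC1, hC1'⟩ := MaxTorusBC.exists_trIso (show W₀.ι ≫ p = W₀.ι ≫ p from rfl) C₁
  obtain ⟨eG1, heG1, hG1'⟩ := MaxTorusBC.exists_trIso (show W₀.ι ≫ p = W₀.ι ≫ p from rfl) G₁
  obtain ⟨eC2, heC2, hC2'⟩ := MaxTorusBC.exists_trIso (show (W₀.ι ≫ p) ≫ f = ψ from rfl) C
  obtain ⟨eG2, heG2, hG2'⟩ := MaxTorusBC.exists_trIso (show (W₀.ι ≫ p) ≫ f = ψ from rfl) G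
  obtain ⟨eC0, heC0, hC0'⟩ := MaxTorusBC.exists_trIso hh C
  obtain ⟨eG0, heG0, hG0'⟩ := MaxTorusBC.exists_trIso hh G
  haveI : IsMonHom eC1.hom := hC1'
  haveI : IsMonHom eG1.hom := hG1'
  haveI : IsMonHom eC2.hom := hC2'
  haveI : IsMonHom eG2.hom := hG2'
  haveI : IsMonHom eC0.hom := hC0'
  haveI : IsMonHom eG0.hom := hG0'
  haveI : IsMonHom eC1.inv := inferInstance
  haveI : IsMonHom eG1.inv := inferInstance
  haveI : IsMonHom eC2.inv := inferInstance
  haveI : IsMonHom eG2.inv := inferInstance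
  let EC : Red.bc W₀.ι C₂ ≅ Red.bc h (Red.bc V.ι C) := eC1.symm ≪≫ eC2.symm ≪≫ eC0
  let EG : Red.bc W₀.ι G₂ ≅ Red.bc h (Red.bc V.ι G) := eG1.symm ≪≫ eG2.symm ≪≫ eG0
  haveI : IsMonHom EC.hom := inferInstanceAs (IsMonHom (eC1.inv ≫ eC2.inv ≫ eC0.hom))
  haveI : IsMonHom EG.hom := inferInstanceAs (IsMonHom (eG1.inv ≫ eG2.inv ≫ eG0.hom))
  have q1 : (Over.pullback (W₀.ι ≫ p)).map c₁ ≫ eG1.hom = eC1.hom ≫ (Over.pullback W₀.ι).map c₂ := by
    rw [heC1, heG1, trIso_natural]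
  have q2 : (Over.pullback ψ).map c ≫ eG2.hom = eC2.hom ≫ (Over.pullback (W₀.ι ≫ p)).map c₁ := by
    rw [heC2, heG2, trIso_natural]
  have q0 : (Over.pullback ψ).map c ≫ eG0.hom = eC0.hom ≫ (Over.pullback h).map ((Over.pullback V.ι).map c) := by
    rw [heC0, heG0, trIso_natural]
  have hsq : (Over.pullback W₀.ι).map c₂ ≫ EG.hom = EC.hom ≫ (Over.pullback h).map ((Over.pullback V.ι).map c) := by
    show _ ≫ eG1.inv ≫ eG2.inv ≫ eG0.hom = (eC1.inv ≫ eC2.inv ≫ eC0.hom) ≫ _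
    rw [← cancel_epi eC1.hom, ← Category.assoc, ← q1, Category.assoc, Iso.hom_inv_id_assoc, Category.assoc,
      Category.assoc, Iso.hom_inv_id_assoc, ← q0, ← Category.assoc, ← Category.assoc]
    congr 1
    rw [Iso.comp_inv_eq, Category.assoc, q2, Iso.inv_hom_id_assoc]
  obtain ⟨hm1, hm2, hm3⟩ := transport_central _ _ EC EG hsq tW (Borel.isTorus_bc_scheme T₂ W₀.ι hT₂) htW htcW htWc
  -- the torus over `V`
  haveI : Smooth (Red.bc V.ι C).hom := inferInstanceAs (Smooth (pullback.snd C.hom V.ι))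
  haveI : QuasiCompact (Red.bc V.ι C).hom := inferInstanceAs (QuasiCompact (pullback.snd C.hom V.ι))
  haveI : IsSeparated (Red.bc V.ι C).hom := inferInstanceAs (IsSeparated (pullback.snd C.hom V.ι))
  haveI : LocallyOfFiniteType (Red.bc V.ι G).hom := inferInstanceAs (LocallyOfFiniteType (pullback.snd G.hom V.ι))
  haveI : QuasiCompact (Red.bc V.ι G).hom := inferInstanceAs (QuasiCompact (pullback.snd G.hom V.ι))
  obtain ⟨T, hTg, t₀, ht₀, ht₀c, -⟩ := Groth.Agent.S8433.result (V : Scheme.{u}) (Red.bc V.ι C)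
    ⟨(W₀ : Scheme.{u}), h, hhf, hhs, hcond, _, inferInstance, _, hm1, hm3⟩
  haveI := ht₀.1; haveI := ht₀.2.1; haveI := hm1.1; haveI := hm1.2.1
  haveI : PreservesLimitsOfShape WalkingCospan (Over.pullback h) :=
    (Adjunction.rightAdjoint_preservesLimits (Over.mapPullbackAdj h)).preservesLimitsOfShape
  haveI : PreservesLimitsOfShape WalkingCospan (Over.pullback V.ι) :=
    (Adjunction.rightAdjoint_preservesLimits (Over.mapPullbackAdj V.ι)).preservesLimitsOfShape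
  haveI : LocallyOfFiniteType (Red.bc h (Red.bc V.ι C)).hom :=
    inferInstanceAs (LocallyOfFiniteType (pullback.snd (Red.bc V.ι C).hom h))
  haveI : QuasiCompact (Red.bc h (Red.bc V.ι C)).hom :=
    inferInstanceAs (QuasiCompact (pullback.snd (Red.bc V.ι C).hom h))
  let cV := (Over.pullback V.ι).map c
  haveI : IsMonHom cV := inferInstanceAs (IsMonHom ((Over.pullback V.ι).map c))
  haveI : Mono cV := inferInstance
  haveI : Mono (t₀ ≫ cV) := mono_comp _ _
  have hth := MaxTorusBC.isMaximalTorus_bc t₀ ht₀ h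
  obtain ⟨y, hy⟩ := MTTorus.exists_factor_maximalTorus ((Over.pullback h).map t₀) hth hm1.2.2.1 (tW ≫ EC.hom)
    fun X a b => (hm3 X b (a ≫ (Over.pullback h).map t₀)).symm
  obtain ⟨z, hz⟩ := MTTorus.exists_factor_maximalTorus (tW ≫ EC.hom) hm1 hth.2.2.1 ((Over.pullback h).map t₀)
    fun X a b => hm3 X a (b ≫ (Over.pullback h).map t₀)
  let e : Red.bc W₀.ι T₂ ≅ Red.bc h T := ⟨y, z,
    by rw [← cancel_mono (tW ≫ EC.hom), Category.assoc, hz, hy, Category.id_comp],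
    by rw [← cancel_mono ((Over.pullback h).map t₀), Category.assoc, hy, hz, Category.id_comp]⟩
  haveI : IsMonHom e.hom := MTSplit.isMonHom_of_comp_mono y _ _ hy
  haveI : IsMonHom (Iso.refl (Red.bc h (Red.bc V.ι G))).hom := inferInstanceAs (IsMonHom (𝟙 _))
  refine ⟨T, hTg, t₀, inferInstance, MaxTorusBC.isMaximalTorus_descend h (t₀ ≫ cV) ht₀.2.2.1 ?_, ht₀c⟩
  refine isMaximalTorus_iso e (Iso.refl _) _ _ ?_ hth.2.2.1 hm2
  rw [Iso.refl_hom, Category.comp_id, Functor.map_comp, ← Category.assoc]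
  congr 1
  exact hy.symm

end Groth.Agent.TorScheme
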