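import Groth.Agent.TorScheme.Compare
import Groth.Agent.TorScheme.Nhd

/-!
# Charts of the scheme of systems
-/

set_option autoImplicit false
set_option linter.style.haveILetI false
set_option linter.unusedSectionVars false
set_option backward.isDefEq.respectTransparency false
set_option maxHeartbeats 2000000
set_option synthInstance.maxHeartbeats 400000

universe u

open CategoryTheory Limits MonoidalCategory CartesianMonoidalCategory AlgebraicGeometry
open scoped CategoryTheory.Obj MonObj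

noncomputable section

namespace Groth.Agent.TorScheme

open Groth.Agent.MTBridge Groth.Agent.GrpSubRep

variable {S : Scheme.{u}} {G : Over S} [GrpObj G] [IsAffineHom G.hom] [Smooth G.hom] (D : Cent G) {r : S → ℕ}

/-- The open set over which the universal subgroup lies in the neutral component. -/
theorem exists_open_inK_jC : ∃ O : (Par G).left.Opens,
    (∀ (Ω : Type u) [Field Ω] [IsAlgClosed Ω] (c : Spec (CommRingCat.of Ω) ⟶ S) (w : ℕ → (Over.mk c ⟶ Par G)),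
      IsSystem r w → ∀ K, (w K).left (IsLocalRing.closedPoint Ω) ∈ O) ∧
    ∀ (Y : Over S) (g : Y ⟶ G) (m : Y ⟶ Par G), Set.range m.left ⊆ (O : Set (Par G).left) →
      InK (uj G) g m → InK D.jC g m := by
  obtain ⟨q, hq⟩ := exists_factor_of_le (uj G) D.jZ fun Y g t hg =>
    (D.iffZ Y g t).2 (commWith_of_inK (uj G) isMultTypeFT_UK hg)
  let bad : Set (Par G).left := (UK G).hom '' (q.left ⁻¹' (Set.range D.c₀.left)ᶜ)
  have hbad : IsClosed bad := (UK G).hom.isClosedMap _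
    (D.c₀.left.isOpenEmbedding.isOpen_range.isClosed_compl.preimage q.left.continuous)
  refine ⟨⟨badᶜ, hbad.isOpen_compl⟩, fun Ω _ _ c w hw K => ?_, fun Y g m hm hg => ?_⟩
  · rintro ⟨h, hh, hhm⟩
    obtain ⟨h', hh', -⟩ := Scheme.Pullback.exists_preimage_pullback (f := (UK G).hom) (g := (w K).left) h
      (IsLocalRing.closedPoint Ω) hhm
    obtain ⟨u', hu'⟩ := exists_factor_of_le (M := Over.mk c) (pullUK (w K)) (MTDescent.pullMap D.jC (w K))
      fun Y g t hg => (inK_pullMap_iff D.jC (w K) g t).2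
        (D.inK_jC_point hw K K ((inK_pullMap_iff (uj G) (w K) g t).1 hg))
    have h1 : (u'.left ≫ pullback.fst D.C.hom (w K).left ≫ D.c₀.left) =
        pullback.fst (UK G).hom (w K).left ≫ q.left := by
      haveI : Mono D.jZ.left := inferInstance
      refine (cancel_mono D.jZ.left).1 ?_
      have e1 : q.left ≫ D.jZ.left = (uj G).left := congrArg CommaMorphism.left hq
      have e3 := congrArg CommaMorphism.left hu'
      apply pullback.hom_ext
      · have e4 := congrArg (fun z => z ≫ pullback.fst G.hom (Over.mk c).hom) e3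
        simpa [MTDescent.pullMap, reassoc_of% e1] using e4
      · have e5 : D.jZ.left ≫ pullback.snd G.hom (Par G).hom = D.Z.hom := Over.w D.jZ
        have e6 : D.c₀.left ≫ D.Z.hom = D.C.hom := Over.w D.c₀
        have e7 : (uj G).left ≫ pullback.snd G.hom (Par G).hom = (UK G).hom := Over.w (uj G)
        have e8 : u'.left ≫ pullback.snd D.C.hom (w K).left = pullback.snd (UK G).hom (w K).left := Over.w u'
        simp only [Category.assoc, e5, e6, pullback.condition, reassoc_of% e8]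
        rw [show q.left ≫ D.Z.hom = (UK G).hom from Over.w q, pullback.condition]
    refine hh ?_
    rw [← hh', ← Scheme.Hom.comp_apply, ← h1, Scheme.Hom.comp_apply, Scheme.Hom.comp_apply]
    exact ⟨_, rfl⟩
  · obtain ⟨l, hl⟩ := hg
    have hlh : l ≫ (UK G).hom = m.left := inK_hom (uj G) hl
    have hr : Set.range (l ≫ q.left) ⊆ Set.range D.c₀.left := by
      rintro _ ⟨y, rfl⟩
      by_contra hy
      exact hm ⟨y, rfl⟩ ⟨l y, hy, by rw [← Scheme.Hom.comp_apply, hlh]⟩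
    refine ⟨IsOpenImmersion.lift D.c₀.left (l ≫ q.left) hr, ?_⟩
    rw [Over.comp_left, IsOpenImmersion.lift_fac_assoc, Category.assoc, ← Over.comp_left, hq, hl]

variable (hrk : HasRank G r) (hG : SGA3x.HasMaxTorusFpqcLocally G)

include D hrk hG

/-- The chart given by a central torus near the point. -/
theorem chart_of_torus {P : Over S} (L : ℕ → (P ⟶ Par G)) (hL : IsSystem r L)
    (huniv : ∀ (X : Over S) (x : ℕ → (X ⟶ Par G)), IsSystem r x → ∃! a : X ⟶ P, ∀ k, a ≫ L k = x k) (p : P.left)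
    (K : ℕ) {Ω : Type u} [Field Ω] [IsAlgClosed Ω] {c : Spec (CommRingCat.of Ω) ⟶ S} (a : Over.mk c ⟶ P)
    (ha : a.left (IsLocalRing.closedPoint Ω) = p) (w : ℕ → (Over.mk c ⟶ Par G)) (hwdef : ∀ k, w k = a ≫ L k)
    (hw : IsSystem r w) (V₀ : (Par G).left.Opens) (hxV : (w K).left (IsLocalRing.closedPoint Ω) ∈ V₀)
    {T : Over (V₀ : Scheme.{u})} [GrpObj T] (t : T ⟶ Red.bc V₀.ι D.C) [IsMonHom t]
    (htmax : Red.IsMaximalTorus (t ≫ (Over.pullback V₀.ι).map D.jC))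
    (htc : ∀ (X : Over (V₀ : Scheme.{u})) (a : X ⟶ T) (y : X ⟶ Red.bc V₀.ι D.C), (a ≫ t) * y = y * (a ≫ t)) :
    ∃ (K : ℕ) (V : Over S) (ιV : V ⟶ Par G) (σ : V ⟶ P), IsOpenImmersion ιV.left ∧
      (L K).left p ∈ Set.range ιV.left ∧ σ ≫ L K = ιV ∧
      (∀ (Y : Over S) (w : Y ⟶ P) (l : Y ⟶ V), l ≫ ιV = w ≫ L K → w = l ≫ σ) ∧
      ∃ (T : Over V.left) (_ : GrpObj T) (i : T ⟶ Red.bc V.hom G),
        Red.IsMaximalTorus i ∧ ∀ k, IsTorsOf i (ord k) (σ ≫ L k) := by
  let X₁ : Over S := Over.mk (V₀.ι ≫ (Par G).hom)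
  let x₁ : X₁ ⟶ Par G := Over.homMk V₀.ι
  haveI : IsMonHom (MTDescent.pullMap D.jC x₁) := MTDescent.isMonHom_pullMap _ _
  let i₁ : T ⟶ Red.bc X₁.hom G := t ≫ MTDescent.pullMap D.jC x₁
  have hi₁ : Red.IsMaximalTorus i₁ := by
    obtain ⟨e, he, hem⟩ := exists_pullIso (G := G) x₁
    haveI := hem
    haveI : IsMonHom (Iso.refl T).hom := inferInstanceAs (IsMonHom (𝟙 T))
    refine MTImage.isMaximalTorus_iso (Iso.refl T) e _ _ ?_ htmax.2.2.1 htmax
    rw [Iso.refl_hom, Category.id_comp, Category.assoc, he]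
    exact congrArg (fun z => t ≫ z) (pullMap_eq x₁ D.jC).symm
  obtain ⟨τ, hτs, hτ⟩ := exists_system (X := X₁) hrk i₁ hi₁
  obtain ⟨σ₁, hσ₁, -⟩ := huniv X₁ τ hτs
  -- the open set
  obtain ⟨O, hOp, hO⟩ := exists_open_inK_jC (r := r) D
  have hy : (w K).left (IsLocalRing.closedPoint Ω) = (L K).left p := by
    rw [hwdef]
    show (L K).left (a.left _) = _
    rw [ha]
  let X₂ : Over S := Over.mk ((V₀.ι ⁻¹ᵁ O).ι ≫ X₁.hom)
  let x₂ : X₂ ⟶ X₁ := Over.homMk (V₀.ι ⁻¹ᵁ O).ι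
  let jC₂ := MTDescent.pullMap (MTDescent.pullMap D.jC x₁) x₂
  haveI : IsMonHom jC₂ := MTDescent.isMonHom_pullMap _ _
  haveI : IsImmersion (MTDescent.pullMap D.jC x₁).left := MTDescent.isImmersion_pullMap D.jC x₁
  haveI : IsImmersion jC₂.left := MTDescent.isImmersion_pullMap _ _
  have htor : ∀ {Z : Over S} (g : Z ⟶ G) (y : Z ⟶ X₂), InK (uj G) g (y ≫ x₂ ≫ τ K) → InK i₁ g (y ≫ x₂) :=
    fun g y hg => by
      rw [← Category.assoc] at hg
      exact ((hτ K _ g (y ≫ x₂)).1 hg).1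
  obtain ⟨W, hW, heq⟩ := exists_eq_locus (x₂ ≫ τ K) (x₂ ≫ x₁) jC₂
    (fun Z g y hg => by
      rw [inK_pullMap_iff]
      exact inK_of_factor _ _ t rfl (htor g y hg))
    (fun Z g y hg => by
      rw [inK_pullMap_iff, inK_pullMap_iff]
      rw [← Category.assoc] at hg
      refine hO Z g _ ?_ hg
      rintro _ ⟨z, rfl⟩
      exact (y.left z).2)
    (fun Z g h y hh hg => by
      obtain ⟨a, ha⟩ := (inK_iff _ h (y ≫ x₂)).1 (htor h y hh)
      rw [inK_pullMap_iff] at hg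
      obtain ⟨b, hb⟩ := (inK_iff _ g (y ≫ x₂)).1 hg
      have h1 := congrArg (fun z => z ≫ MTDescent.pullMap D.jC x₁) (htc _ a b)
      simp only [MonObj.mul_comp, Category.assoc] at h1
      rw [show a ≫ t ≫ MTDescent.pullMap D.jC x₁ = _ from ha, hb, ← toBC_mul, ← toBC_mul] at h1
      have h2 := toBC_inj X₁.hom h1
      rw [← MonObj.comp_mul, ← MonObj.comp_mul, cancel_epi] at h2
      exact h2.symm)
  -- the point lifts to the good set
  have hr1 : Set.range (w K).left ⊆ Set.range V₀.ι := by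
    rintro _ ⟨z, rfl⟩
    rw [V₀.range_ι, Subsingleton.elim (α := PrimeSpectrum Ω) z (IsLocalRing.closedPoint Ω)]
    exact hxV
  let l₁ : Over.mk c ⟶ X₁ := Over.homMk (IsOpenImmersion.lift V₀.ι (w K).left hr1) (by
    show _ ≫ V₀.ι ≫ (Par G).hom = c
    rw [IsOpenImmersion.lift_fac_assoc]
    exact Over.w (w K))
  have hl₁ : l₁ ≫ x₁ = w K := Over.OverMorphism.ext (IsOpenImmersion.lift_fac _ _ _)
  have hr2 : Set.range l₁.left ⊆ Set.range (V₀.ι ⁻¹ᵁ O).ι := by
    rintro _ ⟨z, rfl⟩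
    rw [(V₀.ι ⁻¹ᵁ O).range_ι, Subsingleton.elim (α := PrimeSpectrum Ω) z (IsLocalRing.closedPoint Ω)]
    show V₀.ι (l₁.left _) ∈ O
    rw [show V₀.ι (l₁.left (IsLocalRing.closedPoint Ω)) = (w K).left (IsLocalRing.closedPoint Ω) from
      congr($(congrArg CommaMorphism.left hl₁) (IsLocalRing.closedPoint Ω))]
    exact hOp Ω c w hw K
  let l₂ : Over.mk c ⟶ X₂ := Over.homMk (IsOpenImmersion.lift (V₀.ι ⁻¹ᵁ O).ι l₁.left hr2) (by
    show _ ≫ (V₀.ι ⁻¹ᵁ O).ι ≫ X₁.hom = c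
    rw [IsOpenImmersion.lift_fac_assoc]
    exact Over.w l₁)
  have hl₂ : l₂ ≫ x₂ = l₁ := Over.OverMorphism.ext (IsOpenImmersion.lift_fac _ _ _)
  have hzW : l₂.left (IsLocalRing.closedPoint Ω) ∈ W := hW _ (resPt_eq_of_point l₂ (by
    rw [← Category.assoc, ← Category.assoc, hl₂, hl₁,
      ← eq_at_point D hrk x₁ t hi₁ htc τ hτ K l₁ hw hl₁ K]))
  let V : Over S := Over.mk (W.ι ≫ X₂.hom)
  let x₃ : V ⟶ X₂ := Over.homMk W.ι
  let ιV : V ⟶ Par G := x₃ ≫ x₂ ≫ x₁
  haveI hoi : IsOpenImmersion ιV.left :=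
    inferInstanceAs (IsOpenImmersion (W.ι ≫ (V₀.ι ⁻¹ᵁ O).ι ≫ V₀.ι))
  have heq' : x₃ ≫ x₂ ≫ τ K = ιV := heq
  refine ⟨K, V, ιV, x₃ ≫ x₂ ≫ σ₁, hoi, ⟨⟨_, hzW⟩, ?_⟩, by simp only [Category.assoc, hσ₁, heq'], ?_, ?_⟩
  · rw [← hy]
    show V₀.ι ((V₀.ι ⁻¹ᵁ O).ι (l₂.left _)) = _
    exact congr($(congrArg CommaMorphism.left (show l₂ ≫ x₂ ≫ x₁ = w K by rw [reassoc_of% hl₂, hl₁]))
      (IsLocalRing.closedPoint Ω))
  · intro Y w' l hl
    have h1 := eq_of_chart D hrk x₁ t hi₁ htc τ hτ K (l ≫ x₃ ≫ x₂) (hL.comp w')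
      (by simp only [Category.assoc]; exact hl)
    refine (huniv Y _ (hL.comp w')).unique (fun k => rfl) fun k => ?_
    simp only [Category.assoc, hσ₁]
    exact ((h1 k).trans (by simp only [Category.assoc])).symm
  · letI hTg' : @GrpObj (Over X₁.left) _ _ T := ‹GrpObj T›
    let y : V ⟶ X₁ := x₃ ≫ x₂
    refine ⟨Red.bc y.left (T : Over X₁.left), inferInstance, MTDescent.pullMap (B := X₁) i₁ y,
      isMaximalTorus_pullMap (B := X₁) (P := V) i₁ hi₁ y, fun k => ?_⟩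
    rw [Category.assoc, Category.assoc, hσ₁, ← Category.assoc]
    exact IsTorsOf.pullMap (X := X₁) (P := V) (hτ k) y

/-- **Charts of the scheme of systems.** -/
theorem exists_chart {P : Over S} (L : ℕ → (P ⟶ Par G)) (hL : IsSystem r L)
    (huniv : ∀ (X : Over S) (x : ℕ → (X ⟶ Par G)), IsSystem r x → ∃! a : X ⟶ P, ∀ k, a ≫ L k = x k) (p : P.left) :
    ∃ (K : ℕ) (V : Over S) (ιV : V ⟶ Par G) (σ : V ⟶ P), IsOpenImmersion ιV.left ∧
      (L K).left p ∈ Set.range ιV.left ∧ σ ≫ L K = ιV ∧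
      (∀ (Y : Over S) (w : Y ⟶ P) (l : Y ⟶ V), l ≫ ιV = w ≫ L K → w = l ≫ σ) ∧
      ∃ (T : Over V.left) (_ : GrpObj T) (i : T ⟶ Red.bc V.hom G),
        Red.IsMaximalTorus i ∧ ∀ k, IsTorsOf i (ord k) (σ ≫ L k) := by
  haveI : LocallyOfFinitePresentation G.hom := inferInstance
  let Ω := AlgebraicClosure (P.left.residueField p)
  let c : Spec (CommRingCat.of Ω) ⟶ S := Red.geomPt p ≫ P.hom
  let a : Over.mk c ⟶ P := geoPt p
  have ha : a.left (IsLocalRing.closedPoint Ω) = p := GrpSubRep.geomPt_closedPoint p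
  let w : ℕ → (Over.mk c ⟶ Par G) := fun k => a ≫ L k
  have hw : IsSystem r w := hL.comp a
  obtain ⟨K, hK⟩ := exists_stable hw
  -- the central torus at the point
  obtain ⟨hcon, hsm, hcl, hmh⟩ := D.connected_closed (L K) a
  haveI := hcon; haveI := hsm; haveI := hcl; haveI := hmh
  haveI : Mono (MTDescent.pullMap D.jC (w K)) := Over.mono_of_mono_left _
  have hle : ∀ (j : ℕ) (Y : Over S) (g : Y ⟶ G) (y : Y ⟶ Over.mk c),
      InK (uj G) g (y ≫ w j) → InK (MTDescent.pullMap D.jC (w K)) g y := fun j Y g y hg =>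
    (inK_pullMap_iff D.jC (w K) g y).2 (D.inK_jC_point hw K j hg)
  have hcomm : ∀ (j : ℕ) (Y : Over S) (g : Y ⟶ G) (y : Y ⟶ Over.mk c),
      InK (MTDescent.pullMap D.jC (w K)) g y → CommK (w j) g y := by
    intro j Y g y hg
    have h1 : CommK (w K) g y :=
      (D.iffZ Y g _).1 (inK_of_factor D.jC D.jZ D.c₀ rfl ((inK_pullMap_iff D.jC (w K) g y).1 hg))
    rcases le_total j K with hjK | hKj
    · exact (hw.tors hjK).commK h1
    · exact hK j hKj Y g y h1
  obtain ⟨R, hRg, tR, htRm, htRmax, htRc⟩ :=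
    exists_central_torus hw hrk (MTDescent.pullMap D.jC (w K)) hle hcomm
  haveI := htRm
  let G₀ := Red.bc (Par G).hom G
  haveI : Smooth G₀.hom := inferInstanceAs (Smooth (pullback.snd G.hom (Par G).hom))
  haveI : IsAffineHom G₀.hom := isAffineHom_bc' (Par G)
  haveI : IsSeparated G₀.hom := inferInstance
  haveI : QuasiCompact G₀.hom := inferInstance
  have hx : MTImage.CentralAt D.jC (w K).left := by
    obtain ⟨e, he, hem⟩ := exists_pullIso (G := G) (w K)
    haveI := hem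
    haveI : IsMonHom e.inv := inferInstance
    haveI : IsMonHom e.symm.hom := inferInstanceAs (IsMonHom e.inv)
    haveI : IsMonHom (Iso.refl R).hom := inferInstanceAs (IsMonHom (𝟙 R))
    refine ⟨R, hRg, tR, htRm, ?_, fun Z a x => (htRc Z x a).symm⟩
    refine Chev.MaxTorusBC.isMaxTorus_of_iso (Iso.refl R) e.symm _ _ ?_ htRmax.2.2.1 htRmax
    rw [Iso.refl_hom, Category.id_comp, Iso.symm_hom, Category.assoc]
    refine congrArg (fun z => tR ≫ z) ?_
    rw [Iso.comp_inv_eq, he]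
    exact pullMap_eq (w K) D.jC
  obtain ⟨V₀, hxV, T, hTg, t, htm, htmax, htc⟩ := exists_central_torus_nhd
    (MTImage.hasMaxTorusFpqcLocally_bc hG (Par G).hom) D.jC D.connC (w K).left hx
  haveI := htm
  exact chart_of_torus D hrk hG L hL huniv p K a ha w (fun _ => rfl) hw V₀ hxV t htmax htc

end Groth.Agent.TorScheme
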