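import Groth.Agent.TorScheme.Points
import Groth.Agent.MTBridge.SubgroupsMain
import Groth.Agent.GrpSubRep.Exist

/-!
# Where two members of the universal family inside a subgroup, one of them central, agree
-/

set_option autoImplicit false
set_option linter.style.haveILetI false
set_option linter.unusedSectionVars false
set_option backward.isDefEq.respectTransparency false
set_option maxHeartbeats 2000000
set_option synthInstance.maxHeartbeats 400000

universe u

open CategoryTheory Limits MonoidalCategory CartesianMonoidalCategory AlgebraicGeometry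
open scoped CategoryTheory.Obj MonObj

noncomputable section

namespace Groth.Agent.TorScheme

open Groth.Agent.MTBridge Groth.Agent.GrpSubRep

variable {S : Scheme.{u}}

/-- The residue point. -/
def resPt {X : Over S} (z : X.left) : Over.mk (X.left.fromSpecResidueField z ≫ X.hom) ⟶ X :=
  Over.homMk (X.left.fromSpecResidueField z)

/-- The geometric point. -/
def geoPt {X : Over S} (z : X.left) : Over.mk (Red.geomPt z ≫ X.hom) ⟶ X := Over.homMk (Red.geomPt z)

variable {G : Over S} [GrpObj G] [IsAffineHom G.hom] [LocallyOfFinitePresentation G.hom]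

/-- Equality at a residue point can be tested at the geometric point. -/
theorem resPt_eq_of_geoPt {X : Over S} {v₁ v₂ : X ⟶ Par G} (z : X.left) (h : geoPt z ≫ v₁ = geoPt z ≫ v₂) :
    resPt z ≫ v₁ = resPt z ≫ v₂ := by
  let K := X.left.residueField z
  let θ : Spec (CommRingCat.of (AlgebraicClosure K)) ⟶ Spec K :=
    Spec.map (CommRingCat.ofHom (algebraMap K (AlgebraicClosure K)))
  haveI : Surjective θ := ⟨fun a => ⟨IsLocalRing.closedPoint _, Subsingleton.elim (α := PrimeSpectrum K) _ _⟩⟩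
  haveI : Flat θ := Flat.SpecMap_iff.2 (RingHom.flat_algebraMap_iff.2 (inferInstanceAs (Module.Flat K (AlgebraicClosure K))))
  haveI : QuasiCompact θ := inferInstance
  haveI : Epi θ := Flat.epi_of_flat_of_surjective _
  apply Over.OverMorphism.ext
  show X.left.fromSpecResidueField z ≫ v₁.left = X.left.fromSpecResidueField z ≫ v₂.left
  rw [← cancel_epi θ, ← Category.assoc, ← Category.assoc]
  exact congrArg CommaMorphism.left h

/-- Equality at a residue point can be tested at any field valued point above it. -/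
theorem resPt_eq_of_point {X : Over S} {v₁ v₂ : X ⟶ Par G} {K : Type u} [Field K] {c : Spec (CommRingCat.of K) ⟶ S}
    (a : Over.mk c ⟶ X) (h : a ≫ v₁ = a ≫ v₂) :
    resPt (a.left (IsLocalRing.closedPoint K)) ≫ v₁ = resPt (a.left (IsLocalRing.closedPoint K)) ≫ v₂ := by
  let z := a.left (IsLocalRing.closedPoint K)
  obtain ⟨θ, hθ⟩ : ∃ θ : Spec (CommRingCat.of K) ⟶ Spec (X.left.residueField z),
      θ ≫ X.left.fromSpecResidueField z = a.left :=
    ⟨_, Scheme.descResidueField_stalkClosedPointTo_fromSpecResidueField K X.left a.left⟩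
  haveI : Surjective θ := ⟨fun _ => ⟨IsLocalRing.closedPoint K, Subsingleton.elim (α := PrimeSpectrum _) _ _⟩⟩
  haveI : Flat θ := AlgSpLib.flat_of_field (K := X.left.residueField z) θ
  haveI : QuasiCompact θ := inferInstance
  haveI : Epi θ := Flat.epi_of_flat_of_surjective _
  apply Over.OverMorphism.ext
  show X.left.fromSpecResidueField z ≫ v₁.left = X.left.fromSpecResidueField z ≫ v₂.left
  rw [← cancel_epi θ, ← Category.assoc, ← Category.assoc, hθ]
  exact congrArg CommaMorphism.left h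

/-- **The locus of agreement is open.** -/
theorem exists_eq_locus {X : Over S} (v₁ v₂ : X ⟶ Par G) {C : Over X.left} [GrpObj C] (jC : C ⟶ Red.bc X.hom G)
    [IsMonHom jC] [IsImmersion jC.left]
    (h₁ : ∀ (Y : Over S) (g : Y ⟶ G) (y : Y ⟶ X), InK (uj G) g (y ≫ v₁) → InK jC g y)
    (h₂ : ∀ (Y : Over S) (g : Y ⟶ G) (y : Y ⟶ X), InK (uj G) g (y ≫ v₂) → InK jC g y)
    (hcent : ∀ (Y : Over S) (g h : Y ⟶ G) (y : Y ⟶ X), InK (uj G) h (y ≫ v₁) → InK jC g y → g * h = h * g) :
    ∃ W : X.left.Opens, (∀ z : X.left, resPt z ≫ v₁ = resPt z ≫ v₂ → z ∈ W) ∧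
      (Over.homMk W.ι : Over.mk (W.ι ≫ X.hom) ⟶ X) ≫ v₁ = (Over.homMk W.ι : Over.mk (W.ι ≫ X.hom) ⟶ X) ≫ v₂ := by
  haveI : Mono jC.left := inferInstance
  haveI : Mono jC := Over.mono_of_mono_left jC
  haveI := isMonHom_pullUK v₁
  haveI := isMonHom_pullUK v₂
  obtain ⟨i₁, hi₁⟩ := exists_factor_of_le (pullUK v₁) jC fun Y g y hg =>
    h₁ Y g y ((inK_pullMap_iff (uj G) v₁ g y).1 hg)
  obtain ⟨i₂, hi₂⟩ := exists_factor_of_le (pullUK v₂) jC fun Y g y hg =>
    h₂ Y g y ((inK_pullMap_iff (uj G) v₂ g y).1 hg)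
  haveI : IsMonHom i₁ := MTSplit.isMonHom_of_comp_mono i₁ jC _ hi₁
  haveI : IsMonHom i₂ := MTSplit.isMonHom_of_comp_mono i₂ jC _ hi₂
  haveI : IsSeparated C.hom := by rw [← Over.w jC]; infer_instance
  haveI : LocallyOfFiniteType C.hom := by
    haveI : LocallyOfFiniteType (Red.bc X.hom G).hom := inferInstanceAs (LocallyOfFiniteType (pullback.snd G.hom X.hom))
    rw [← Over.w jC]; infer_instance
  haveI : IsImmersion (pullUK v₁).left := MTDescent.isImmersion_pullMap (uj G) v₁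
  haveI : IsImmersion (pullUK v₂).left := MTDescent.isImmersion_pullMap (uj G) v₂
  haveI : IsImmersion (i₁.left ≫ jC.left) := by rw [← Over.comp_left, hi₁]; infer_instance
  haveI : IsImmersion (i₂.left ≫ jC.left) := by rw [← Over.comp_left, hi₂]; infer_instance
  haveI : IsImmersion i₁.left := IsImmersion.of_comp i₁.left jC.left
  haveI : IsImmersion i₂.left := IsImmersion.of_comp i₂.left jC.left
  have hc : ∀ (Y : Over X.left) (g : Y ⟶ C) (h : Y ⟶ Red.bc v₁.left (UK G)),
      g * (h ≫ i₁) = (h ≫ i₁) * g := by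
    intro Y g h
    rw [← cancel_mono jC, MonObj.mul_comp, MonObj.mul_comp, Category.assoc, hi₁]
    obtain ⟨a, ha⟩ := exists_toBC' X.hom (g ≫ jC)
    obtain ⟨b, hb⟩ := exists_toBC' X.hom (h ≫ pullUK v₁)
    rw [← ha, ← hb, ← toBC_mul, ← toBC_mul, hcent _ a b (Over.homMk Y.hom)
      ((inK_pullMap_iff (uj G) v₁ b _).1 ((inK_str_iff (pullUK v₁) b).2 ⟨h, hb.symm⟩))
      ((inK_str_iff jC a).2 ⟨g, ha.symm⟩)]
  obtain ⟨W, -, hW, ψ, hψ⟩ := exists_clopen_eq (G := C) (H₁ := Red.bc v₁.left (UK G)) (H₂ := Red.bc v₂.left (UK G))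
    (Or.inr inferInstance) (isMultTypeFT_bc (UK G) v₁.left isMultTypeFT_UK)
    (isMultTypeFT_bc (UK G) v₂.left isMultTypeFT_UK) i₁ i₂ hc
  refine ⟨W, fun z hz => (hW z).2 ?_, ?_⟩
  · -- comparison on the fibre
    let j := X.left.fromSpecResidueField z
    haveI : PreservesLimitsOfShape WalkingCospan (Over.pullback j) :=
      (Adjunction.rightAdjoint_preservesLimits (Over.mapPullbackAdj j)).preservesLimitsOfShape
    have key : ∀ (w w' : X ⟶ Par G) (i : Red.bc w.left (UK G) ⟶ C) (i' : Red.bc w'.left (UK G) ⟶ C),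
        i ≫ jC = pullUK w → i' ≫ jC = pullUK w' → resPt z ≫ w = resPt z ≫ w' →
        ∃ φ : Red.bc j (Red.bc w.left (UK G)) ⟶ Red.bc j (Red.bc w'.left (UK G)),
          φ ≫ (Over.pullback j).map i' = (Over.pullback j).map i := by
      intro w w' i i' hi hi' hww
      obtain ⟨q, hq⟩ := exists_toBC' j (𝟙 (Red.bc j (Red.bc w.left (UK G))))
      obtain ⟨a, ha⟩ := exists_toBC' X.hom (q ≫ pullUK w)
      have h3 := (inK_pullMap_iff (uj G) w a _).1 ((inK_str_iff (pullUK w) a).2 ⟨q, ha.symm⟩)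
      let Q := (Over.map j).obj (Red.bc j (Red.bc w.left (UK G)))
      let y' : (Over.map X.hom).obj Q ⟶ Over.mk (j ≫ X.hom) :=
        Over.homMk (Red.bc j (Red.bc w.left (UK G))).hom (Category.assoc _ _ _).symm
      have hy' : (Over.homMk Q.hom : (Over.map X.hom).obj Q ⟶ X) = y' ≫ resPt z := Over.OverMorphism.ext rfl
      rw [hy', Category.assoc, hww, ← Category.assoc, ← hy'] at h3
      obtain ⟨x, hx⟩ := (inK_str_iff (pullUK w') a).1 ((inK_pullMap_iff (uj G) w' a _).2 h3)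
      have h4 : x ≫ i' = q ≫ i := by rw [← cancel_mono jC, Category.assoc, hi', Category.assoc, hi, hx, ha]
      exact ⟨toBC j x, by rw [← toBC_comp, h4, toBC_comp, hq, Category.id_comp]⟩
    obtain ⟨φ, hφ⟩ := key v₁ v₂ i₁ i₂ hi₁ hi₂ hz
    obtain ⟨φ', hφ'⟩ := key v₂ v₁ i₂ i₁ hi₂ hi₁ hz.symm
    haveI : Mono i₁ := by haveI := mono_pullUK v₁; exact mono_of_mono_fac hi₁
    haveI : Mono i₂ := by haveI := mono_pullUK v₂; exact mono_of_mono_fac hi₂
    haveI : Mono ((Over.pullback j).map i₁) := inferInstance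
    haveI : Mono ((Over.pullback j).map i₂) := inferInstance
    exact ⟨⟨φ, φ', by rw [← cancel_mono ((Over.pullback j).map i₁), Category.assoc, hφ', hφ, Category.id_comp],
      by rw [← cancel_mono ((Over.pullback j).map i₂), Category.assoc, hφ, hφ', Category.id_comp]⟩, hφ⟩
  · -- equality over the locus
    have hψ' : ψ.inv ≫ (Over.pullback W.ι).map i₁ = (Over.pullback W.ι).map i₂ := by
      rw [← hψ, Iso.inv_hom_id_assoc]
    let ιW : Over.mk (W.ι ≫ X.hom) ⟶ X := Over.homMk W.ι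
    have key : ∀ (w w' : X ⟶ Par G) (i : Red.bc w.left (UK G) ⟶ C) (i' : Red.bc w'.left (UK G) ⟶ C),
        i ≫ jC = pullUK w → i' ≫ jC = pullUK w' →
        ∀ φ : Red.bc W.ι (Red.bc w.left (UK G)) ⟶ Red.bc W.ι (Red.bc w'.left (UK G)),
          φ ≫ (Over.pullback W.ι).map i' = (Over.pullback W.ι).map i →
          ∀ (Y : Over S) (g : Y ⟶ G) (t : Y ⟶ Over.mk (W.ι ≫ X.hom)),
            InK (uj G) g (t ≫ ιW ≫ w) → InK (uj G) g (t ≫ ιW ≫ w') := by
      intro w w' i i' hi hi' φ hφ Y g t hg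
      rw [← Category.assoc] at hg ⊢
      refine (inK_pullMap_iff (uj G) w' g (t ≫ ιW)).1 ?_
      obtain ⟨k, hk⟩ := (inK_iff (pullUK w) g (t ≫ ιW)).1 ((inK_pullMap_iff (uj G) w g (t ≫ ιW)).2 hg)
      obtain ⟨x, hx⟩ := factor_of_factor W.ι i i' φ hφ (Over.mk (t ≫ ιW).left) t.left rfl k
      exact (inK_iff (pullUK w') g (t ≫ ιW)).2
        ⟨x, by rw [← hi', ← Category.assoc, hx, Category.assoc, hi, hk]⟩
    exact eq_of_inK_iff G _ _ fun Y g t =>
      ⟨key v₁ v₂ i₁ i₂ hi₁ hi₂ ψ.hom hψ Y g t, key v₂ v₁ i₂ i₁ hi₂ hi₁ ψ.inv hψ' Y g t⟩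

end Groth.Agent.TorScheme
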