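import Groth.Agent.TorScheme.TorusPoints

/-!
# Systems over a chart are torsion systems of the central torus
-/

set_option autoImplicit false
set_option linter.style.haveILetI false
set_option linter.unusedSectionVars false
set_option backward.isDefEq.respectTransparency false
set_option maxHeartbeats 2000000
set_option synthInstance.maxHeartbeats 400000

universe u

open CategoryTheory Limits MonoidalCategory CartesianMonoidalCategory AlgebraicGeometry
open scoped CategoryTheory.Obj MonObj

noncomputable section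

namespace Groth.Agent.TorScheme

open Groth.Agent.MTBridge Groth.Agent.GrpSubRep

variable {S : Scheme.{u}} {G : Over S} [GrpObj G] [IsAffineHom G.hom] [Smooth G.hom] (D : Cent G)
  {r : S → ℕ} (hrk : HasRank G r) {X : Over S} (x : X ⟶ Par G) {T : Over X.left} [GrpObj T]
  (t : T ⟶ Red.bc x.left D.C) [IsMonHom t]
  (ht : Red.IsMaximalTorus (t ≫ MTDescent.pullMap D.jC x))
  (hcent : ∀ (Z : Over X.left) (a : Z ⟶ T) (y : Z ⟶ Red.bc x.left D.C), (a ≫ t) * y = y * (a ≫ t))
  (τ : ℕ → (X ⟶ Par G)) (hτ : ∀ k, IsTorsOf (t ≫ MTDescent.pullMap D.jC x) (ord k) (τ k))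

include hrk ht hcent hτ

/-- The comparison over an algebraically closed point. -/
theorem eq_at_point (K : ℕ) {Ω : Type u} [Field Ω] [IsAlgClosed Ω] {c : Spec (CommRingCat.of Ω) ⟶ S}
    (l : Over.mk c ⟶ X) {w : ℕ → (Over.mk c ⟶ Par G)} (hw : IsSystem r w) (hlw : l ≫ x = w K) (j : ℕ) :
    w j = l ≫ τ j := by
  have hm := MTDescent.isMonHom_pullMap D.jC x
  haveI := hm
  let C' := Red.bc l.left (Red.bc x.left D.C)
  let jC' := MTDescent.pullMap (MTDescent.pullMap D.jC x) l
  haveI : IsMonHom jC' := MTDescent.isMonHom_pullMap _ l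
  haveI : IsImmersion (MTDescent.pullMap D.jC x).left := MTDescent.isImmersion_pullMap D.jC x
  haveI : IsImmersion jC'.left := MTDescent.isImmersion_pullMap _ l
  haveI : Mono jC' := Over.mono_of_mono_left jC'
  obtain ⟨hcon, hsm, hcl, -⟩ := D.connected_closed x l
  haveI : ConnectedSpace ↥((Over.forget (Over.mk c).left).obj ((Over.pullback (l.left ≫ x.left)).obj D.C)) := hcon
  haveI : ConnectedSpace C'.left :=
    (Scheme.homeoOfIso ((Over.forget _).mapIso
      ((Over.pullbackComp l.left x.left).app D.C))).surjective.connectedSpace (Scheme.homeoOfIso ((Over.forget _).mapIso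
      ((Over.pullbackComp l.left x.left).app D.C))).continuous
  haveI : Smooth (Red.bc x.left D.C).hom := inferInstanceAs (Smooth (pullback.snd D.C.hom x.left))
  haveI : QuasiCompact (Red.bc x.left D.C).hom := inferInstanceAs (QuasiCompact (pullback.snd D.C.hom x.left))
  haveI : Smooth C'.hom := inferInstanceAs (Smooth (pullback.snd (Red.bc x.left D.C).hom l.left))
  haveI : QuasiCompact C'.hom := inferInstanceAs (QuasiCompact (pullback.snd (Red.bc x.left D.C).hom l.left))
  haveI : IsClosedImmersion jC'.left := by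
    haveI : GrpField.PointBase (Over.mk c).left := inferInstanceAs (GrpField.PointBase (Spec (CommRingCat.of Ω)))
    haveI : Smooth (Red.bc (Over.mk c).hom G).hom := inferInstanceAs (Smooth (pullback.snd G.hom c))
    haveI : Subsingleton ↥(Over.mk c).left := inferInstanceAs (Subsingleton (PrimeSpectrum Ω))
    haveI : Nonempty ↥(Over.mk c).left := inferInstanceAs (Nonempty (PrimeSpectrum Ω))
    haveI : IsLocallyNoetherian (Over.mk c).left := inferInstanceAs (IsLocallyNoetherian (Spec (CommRingCat.of Ω)))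
    haveI : IsAffineHom (Red.bc (Over.mk c).hom G).hom := isAffineHom_bc' (Over.mk c)
    haveI : QuasiCompact (jC'.left ≫ (Red.bc (Over.mk c).hom G).hom) := by rw [Over.w jC']; infer_instance
    haveI : QuasiCompact jC'.left := QuasiCompact.of_comp _ (Red.bc (Over.mk c).hom G).hom
    exact GrpField.isClosedImmersion_of_mono _
  let t' : Red.bc l.left T ⟶ C' := (Over.pullback l.left).map t
  haveI : IsMonHom t' := inferInstance
  have hcomp : MTDescent.pullMap (t ≫ MTDescent.pullMap D.jC x) l = t' ≫ jC' := pullMap_comp_left t _ l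
  have hmax : AGF.IsMaxTorus (t' ≫ jC') := hcomp ▸ isMaxTorus_pullMap _ ht l
  have hcent' : ∀ (Z : Over (Over.mk c).left) (g : Z ⟶ C') (a : Z ⟶ Red.bc l.left T),
      g * (a ≫ t') = (a ≫ t') * g := fun Z g a => (MTImage.central_map t hcent l.left Z a g).symm
  have hle : ∀ (i : ℕ) (Y : Over S) (g : Y ⟶ G) (y : Y ⟶ Over.mk c),
      InK (uj G) g (y ≫ w i) → InK jC' g y := fun i Y g y hg => by
    rw [inK_pullMap_iff, inK_pullMap_iff, Category.assoc, hlw]
    exact D.inK_jC_point hw K i hg
  have h2 : IsTorsOf (t' ≫ jC') (ord j) (l ≫ τ j) := hcomp ▸ (hτ j).pullMap l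
  exact (torsOf_of_central hw hrk jC' t' hmax hcent' hle j).eq h2

/-- **Systems over a chart are pulled back from the torsion system.** -/
theorem eq_of_chart (K : ℕ) {Y : Over S} (l : Y ⟶ X) {w : ℕ → (Y ⟶ Par G)} (hw : IsSystem r w)
    (hlw : l ≫ x = w K) (j : ℕ) : w j = l ≫ τ j := by
  have hm := MTDescent.isMonHom_pullMap D.jC x
  haveI := hm
  let jC' := MTDescent.pullMap (MTDescent.pullMap D.jC x) l
  haveI : IsMonHom jC' := MTDescent.isMonHom_pullMap _ l
  haveI : IsImmersion (MTDescent.pullMap D.jC x).left := MTDescent.isImmersion_pullMap D.jC x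
  haveI : IsImmersion jC'.left := MTDescent.isImmersion_pullMap _ l
  have hmem : ∀ {Z : Over S} (g : Z ⟶ G) (y : Z ⟶ Y),
      InK jC' g y ↔ InK D.jC g (y ≫ w K) := fun g y => by
    rw [inK_pullMap_iff, inK_pullMap_iff, Category.assoc, hlw]
  have htor : ∀ {Z : Over S} (g : Z ⟶ G) (y : Z ⟶ Y), InK (uj G) g (y ≫ l ≫ τ j) →
      InK (t ≫ MTDescent.pullMap D.jC x) g (y ≫ l) := fun g y hg => by
    rw [← Category.assoc] at hg
    exact ((hτ j _ g (y ≫ l)).1 hg).1
  obtain ⟨W, hW, heq⟩ := exists_eq_locus (l ≫ τ j) (w j) jC'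
    (fun Z g y hg => by
      rw [inK_pullMap_iff]
      exact inK_of_factor _ _ t rfl (htor g y hg))
    (fun Z g y hg => (hmem g y).2 (D.inK_jC_of_system hw K j hg))
    (fun Z g h y hh hg => by
      obtain ⟨a, ha⟩ := (inK_iff _ h (y ≫ l)).1 (htor h y hh)
      rw [inK_pullMap_iff] at hg
      obtain ⟨b, hb⟩ := (inK_iff _ g (y ≫ l)).1 hg
      have h1 := congrArg (fun z => z ≫ MTDescent.pullMap D.jC x) (hcent _ a b)
      simp only [MonObj.mul_comp, Category.assoc, ha, hb, ← toBC_mul] at h1
      have h2 := toBC_inj X.hom h1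
      rw [← MonObj.comp_mul, ← MonObj.comp_mul, cancel_epi] at h2
      exact h2.symm)
  have htop : W = ⊤ := eq_top_iff.2 fun z _ => hW z (resPt_eq_of_geoPt z (by
    have h := eq_at_point D hrk x t ht hcent τ hτ K (geoPt z ≫ l) (hw.comp (geoPt z))
      ((Category.assoc _ _ _).trans (congrArg (fun a => geoPt z ≫ a) hlw)) j
    exact ((Category.assoc _ _ _).symm.trans h.symm)))
  apply Over.OverMorphism.ext
  have h3 : W.ι ≫ (l ≫ τ j).left = W.ι ≫ (w j).left := congrArg CommaMorphism.left heq
  subst htop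
  haveI : IsIso (⊤ : Y.left.Opens).ι := Y.left.topIso.isIso_hom
  exact ((cancel_epi (⊤ : Y.left.Opens).ι).1 h3).symm

end Groth.Agent.TorScheme
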