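import Groth.Agent.TorScheme.System

/-!
# A torus is determined by its torsion system
-/

set_option autoImplicit false
set_option linter.style.haveILetI false
set_option linter.unusedSectionVars false
set_option backward.isDefEq.respectTransparency false
set_option maxHeartbeats 1000000
set_option synthInstance.maxHeartbeats 400000

universe u

open CategoryTheory Limits MonoidalCategory CartesianMonoidalCategory AlgebraicGeometry
open scoped CategoryTheory.Obj MonObj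

noncomputable section

namespace Groth.Agent.TorScheme

open Groth.Agent.MTBridge Groth.Agent.GrpSubRep

variable {S : Scheme.{u}} {G : Over S} [GrpObj G] {X : Over S}

theorem left_toBC_eq {Y : Over X.left} (a : (Over.map X.hom).obj Y ⟶ G) :
    (toBC X.hom a).left = pt₂ a (Over.homMk Y.hom : (Over.map X.hom).obj Y ⟶ X) := by
  apply pullback.hom_ext
  · rw [MTDescent.left_toBC_fst_eq]
    exact (pullback.lift_fst _ _ _).symm
  · exact (Over.w (toBC X.hom a)).trans (pullback.lift_snd _ _ _).symm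

/-- Membership for points over the parameter scheme. -/
theorem inK_str_iff {K : Over X.left} (j : K ⟶ Red.bc X.hom G) {Y : Over X.left} (a : (Over.map X.hom).obj Y ⟶ G) :
    InK j a (Over.homMk Y.hom : (Over.map X.hom).obj Y ⟶ X) ↔ ∃ x : Y ⟶ K, x ≫ j = toBC X.hom a := by
  constructor
  · rintro ⟨l, hl⟩
    exact ⟨Over.homMk l (inK_hom j hl), Over.OverMorphism.ext (hl.trans (left_toBC_eq a).symm)⟩
  · rintro ⟨x, hx⟩
    exact ⟨x.left, by rw [← left_toBC_eq, ← hx]; rfl⟩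

theorem inK_of_factor {T₁ T₂ : Over X.left} (i₁ : T₁ ⟶ Red.bc X.hom G) (i₂ : T₂ ⟶ Red.bc X.hom G) (w : T₁ ⟶ T₂)
    (hw : w ≫ i₂ = i₁) {Y : Over S} {g : Y ⟶ G} {t : Y ⟶ X} (h : InK i₁ g t) : InK i₂ g t := by
  obtain ⟨l, hl⟩ := h
  exact ⟨l ≫ w.left, by rw [Category.assoc, ← Over.comp_left, hw]; exact hl⟩

variable [IsAffineHom G.hom]

/-- A torus is contained in another subgroup containing its torsion. -/
theorem exists_factor_of_inK {T R : Over X.left} [GrpObj T] (i : T ⟶ Red.bc X.hom G) [IsMonHom i]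
    (hT : SGA3x.IsMultTypeFT T) (j : R ⟶ Red.bc X.hom G) [IsClosedImmersion j.left]
    (h : ∀ (k : ℕ) (Y : Over S) (g : Y ⟶ G) (t : Y ⟶ X), InK i g t → g ^ ord k = 1 → InK j g t) :
    ∃ w : T ⟶ R, w ≫ j = i := by
  refine exists_factor_of_torsion hT i j fun n hn Y x hx => ?_
  obtain ⟨a, ha⟩ := exists_toBC' X.hom (x ≫ i)
  have ha' : a ^ ord n = 1 := by
    refine toBC_inj X.hom ?_
    obtain ⟨c, hc⟩ := dvd_ord hn (Nat.le_add_right n 2)
    rw [toBC_pow, ha, ← MonObj.pow_comp, hc, pow_mul, hx, one_pow, MonObj.one_comp, MTImage.toBC_one]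
  obtain ⟨y, hy⟩ := (inK_str_iff j a).1 (h n _ a _ ((inK_str_iff i a).2 ⟨x, ha.symm⟩) ha')
  exact ⟨y, hy.trans ha⟩

variable [LocallyOfFinitePresentation G.hom]

/-- **Tori with the same torsion system have the same points.** -/
theorem inK_iff_of_torsOf {T₁ T₂ : Over X.left} [GrpObj T₁] [GrpObj T₂] (i₁ : T₁ ⟶ Red.bc X.hom G) [IsMonHom i₁]
    [Mono i₁] (i₂ : T₂ ⟶ Red.bc X.hom G) [IsMonHom i₂] [Mono i₂] (h₁ : Red.IsTorus T₁) (h₂ : Red.IsTorus T₂)
    (h : ∀ k, ∃ v : X ⟶ Par G, IsTorsOf i₁ (ord k) v ∧ IsTorsOf i₂ (ord k) v) {Y : Over S} (g : Y ⟶ G)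
    (t : Y ⟶ X) : InK i₁ g t ↔ InK i₂ g t := by
  haveI := isClosedImmersion_torus h₁ i₁
  haveI := isClosedImmersion_torus h₂ i₂
  obtain ⟨w₁, hw₁⟩ := exists_factor_of_inK i₁ (isMultTypeFT_of_isTorus T₁ h₁) i₂ fun k Y g t hg hp => by
    obtain ⟨v, hv₁, hv₂⟩ := h k
    exact ((hv₂ Y g t).1 ((hv₁ Y g t).2 ⟨hg, hp⟩)).1
  obtain ⟨w₂, hw₂⟩ := exists_factor_of_inK i₂ (isMultTypeFT_of_isTorus T₂ h₂) i₁ fun k Y g t hg hp => by
    obtain ⟨v, hv₁, hv₂⟩ := h k
    exact ((hv₁ Y g t).1 ((hv₂ Y g t).2 ⟨hg, hp⟩)).1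
  exact ⟨inK_of_factor i₁ i₂ w₁ hw₁, inK_of_factor i₂ i₁ w₂ hw₂⟩

end Groth.Agent.TorScheme
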