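import Groth.Agent.TorScheme.System
import Groth.Agent.MTImage.EtaleLocal
import Groth.Agent.MTImage.ToriConj
import Groth.Agent.TorusLift.Rank

/-!
# The rank function of a group with maximal tori
-/

set_option autoImplicit false
set_option linter.style.haveILetI false
set_option linter.unusedSectionVars false
set_option backward.isDefEq.respectTransparency false
set_option maxHeartbeats 1000000
set_option synthInstance.maxHeartbeats 400000

universe u

open CategoryTheory Limits MonoidalCategory CartesianMonoidalCategory AlgebraicGeometry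
open scoped CategoryTheory.Obj MonObj

noncomputable section

namespace Groth.Agent.TorScheme

open Groth.Agent.MTBridge Groth.Agent.GrpSubRep

variable {S : Scheme.{u}}

/-- Over every algebraically closed point the maximal tori have rank given by `r`. -/
def HasRank (G : Over S) [GrpObj G] (r : S → ℕ) : Prop :=
  ∀ (K : Type u) [Field K] [IsAlgClosed K] (y : Spec (CommRingCat.of K) ⟶ S) (T : Over (Spec (CommRingCat.of K)))
    [GrpObj T] (i : T ⟶ Red.bc y G), Red.IsMaximalTorus i →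
      Nonempty (Grp.mk T ≅ Grp.mk (Red.DS (Spec (CommRingCat.of K)) (Fin (r (y (IsLocalRing.closedPoint K))) → ℤ)))

variable {G : Over S} [GrpObj G] [IsAffineHom G.hom] [Smooth G.hom]

/-- The ranks of maximal tori over two points with the same image agree. -/
theorem rank_eq {K : Type u} [Field K] [IsAlgClosed K] (y : Spec (CommRingCat.of K) ⟶ S)
    {T : Over (Spec (CommRingCat.of K))} [GrpObj T] (i : T ⟶ Red.bc y G) (hi : Red.IsMaximalTorus i) {d : ℕ}
    (e : Grp.mk T ≅ Grp.mk (Red.DS (Spec (CommRingCat.of K)) (Fin d → ℤ))) {K' : Type u} [Field K'] [IsAlgClosed K']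
    (y' : Spec (CommRingCat.of K') ⟶ S) {T' : Over (Spec (CommRingCat.of K'))} [GrpObj T'] (i' : T' ⟶ Red.bc y' G)
    (hi' : Red.IsMaximalTorus i') {d' : ℕ}
    (e' : Grp.mk T' ≅ Grp.mk (Red.DS (Spec (CommRingCat.of K')) (Fin d' → ℤ)))
    (h : y (IsLocalRing.closedPoint K) = y' (IsLocalRing.closedPoint K')) : d = d' := by
  obtain ⟨L, _, _, a, b, hab, -, -⟩ := MTImage.exists_common_pt y y' _ _ h
  haveI : Smooth (Red.bc y G).hom := inferInstanceAs (Smooth (pullback.snd G.hom y))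
  haveI : QuasiCompact (Red.bc y G).hom := inferInstanceAs (QuasiCompact (pullback.snd G.hom y))
  haveI : Smooth (Red.bc y' G).hom := inferInstanceAs (Smooth (pullback.snd G.hom y'))
  haveI : QuasiCompact (Red.bc y' G).hom := inferInstanceAs (QuasiCompact (pullback.snd G.hom y'))
  obtain ⟨c₁, -, h₁⟩ := Chev.MaxTorusBC.exists_trIso (show a ≫ y = a ≫ y from rfl) G
  obtain ⟨c₂, -, h₂⟩ := Chev.MaxTorusBC.exists_trIso (show b ≫ y' = a ≫ y from hab.symm) G
  haveI : IsMonHom c₁.hom := h₁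
  haveI : IsMonHom c₂.hom := h₂
  haveI : IsMonHom c₁.inv := inferInstance
  let c : Red.bc a (Red.bc y G) ≅ Red.bc b (Red.bc y' G) := c₁.symm ≪≫ c₂
  haveI : IsMonHom c.hom := inferInstanceAs (IsMonHom (c₁.inv ≫ c₂.hom))
  haveI := hi.1
  haveI : IsMonHom (Iso.refl (Red.bc a T)).hom := inferInstanceAs (IsMonHom (𝟙 _))
  haveI : Smooth (Red.bc b (Red.bc y' G)).hom := inferInstanceAs (Smooth (pullback.snd (Red.bc y' G).hom b))
  haveI : QuasiCompact (Red.bc b (Red.bc y' G)).hom :=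
    inferInstanceAs (QuasiCompact (pullback.snd (Red.bc y' G).hom b))
  have h3 := MTImage.isMaximalTorus_iso (Iso.refl _) c _ ((Over.pullback a).map i ≫ c.hom)
    (by rw [Iso.refl_hom, Category.id_comp]) (Chev.Borel.isTorus_bc_scheme T a hi.2.2.1)
    (Chev.MaxTorusBC.isMaximalTorus_bc i hi a)
  have h4 := Chev.MaxTorusBC.isMaximalTorus_bc i' hi' b
  haveI := h3.1; haveI := h3.2.1; haveI := h4.1; haveI := h4.2.1
  obtain ⟨g, φ, hφ⟩ := MTImage.exists_conjBy_maxTori _ (Chev.Borel.isMaxTorus_of_isMaximalTorus _ h3) _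
    (Chev.Borel.isMaxTorus_of_isMaximalTorus _ h4)
  have hφm : IsMonHom φ.hom := MTSplit.isMonHom_of_comp_mono φ.hom _
    (((Over.pullback a).map i ≫ c.hom) ≫ (MTImage.inn g).hom) (by rw [← hφ, MTImage.comp_inn])
  haveI := hφm
  obtain ⟨θ⟩ := nonempty_addEquiv_of_iso ((bcDS a (Fin d → ℤ)).symm ≪≫ (bcMapIso a e).symm ≪≫
    Grp.mkIso' φ ≪≫ bcMapIso b e' ≪≫ bcDS b (Fin d' → ℤ))
  have h5 := LinearEquiv.finrank_eq θ.toIntLinearEquiv
  rwa [Module.finrank_fin_fun, Module.finrank_fin_fun] at h5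

/-- **The rank is a locally constant function.** -/
theorem exists_rank (hG : SGA3x.HasMaxTorusEtaleLocally G) : ∃ r : S → ℕ, IsLocallyConstant r ∧ HasRank G r := by
  obtain ⟨S', e, he, hes, T, _, i, hi⟩ := hG
  haveI := he
  haveI := hi.1; haveI := hi.2.1
  haveI : Smooth (Red.bc e G).hom := inferInstanceAs (Smooth (pullback.snd G.hom e))
  haveI : QuasiCompact (Red.bc e G).hom := inferInstanceAs (QuasiCompact (pullback.snd G.hom e))
  -- maximal tori exist over all points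
  have hex : ∀ (K : Type u) [Field K] [IsAlgClosed K] (y : Spec (CommRingCat.of K) ⟶ S),
      ∃ (T' : Over (Spec (CommRingCat.of K))) (_ : GrpObj T') (i' : T' ⟶ Red.bc y G), Red.IsMaximalTorus i' := by
    intro K _ _ y
    obtain ⟨s', hs'⟩ := hes.surj (y (IsLocalRing.closedPoint K))
    obtain ⟨c₁, -, h₁⟩ := Chev.MaxTorusBC.exists_trIso (show Red.geomPt s' ≫ e = Red.geomPt s' ≫ e from rfl) G
    haveI : IsMonHom c₁.hom := h₁
    haveI : IsMonHom c₁.inv := inferInstance
    haveI : IsMonHom c₁.symm.hom := inferInstanceAs (IsMonHom c₁.inv)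
    haveI : IsMonHom (Iso.refl (Red.bc (Red.geomPt s') T)).hom := inferInstanceAs (IsMonHom (𝟙 _))
    obtain ⟨T', hT', i', hi', -⟩ := TorusLift.exists_maxTorus_of_point (Red.geomPt s' ≫ e) _
      (MTImage.isMaximalTorus_iso (Iso.refl _) c₁.symm _ ((Over.pullback (Red.geomPt s')).map i ≫ c₁.inv)
        (by rw [Iso.refl_hom, Category.id_comp, Iso.symm_hom]) (Chev.Borel.isTorus_bc_scheme T _ hi.2.2.1)
        (Chev.MaxTorusBC.isMaximalTorus_bc i hi (Red.geomPt s'))) y (by
      rw [Scheme.Hom.comp_apply, geomPt_closedPoint, hs'])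
    exact ⟨T', hT', i', hi'⟩
  choose Ts hTs is his using fun s : S => hex _ (Red.geomPt s)
  letI : ∀ s, GrpObj (Ts s) := hTs
  choose r hr using fun s : S => (Chev.exists_split_algClosed (his s).2.2.1 :
    ∃ d, Nonempty (Grp.mk (Ts s) ≅ Grp.mk (Red.DS _ (Fin d → ℤ))))
  have hrank : HasRank G r := by
    intro K _ _ y T₁ _ i₁ hi₁
    obtain ⟨d, ⟨e₁⟩⟩ := Chev.exists_split_algClosed hi₁.2.2.1
    obtain ⟨e₀⟩ := hr (y (IsLocalRing.closedPoint K))
    rw [rank_eq _ (is _) (his _) e₀ y i₁ hi₁ e₁ (geomPt_closedPoint _)]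
    exact ⟨e₁⟩
  refine ⟨r, ?_, hrank⟩
  -- the two-torsion of the torus over the cover
  let X : Over S := Over.mk e
  haveI : NeZero (2 : ℕ) := ⟨by omega⟩
  obtain ⟨v, -, hv⟩ := exists_torsOf (G := G) (X := X) i hi.2.2.1 2
  have hd : ∀ z : S', Nonempty ((typ (v.left z)).Car ≃+ (Fin (r (e z)) → ZMod 2)) := by
    intro z
    obtain ⟨c₁, -, h₁⟩ := Chev.MaxTorusBC.exists_trIso (show Red.geomPt z ≫ e = Red.geomPt z ≫ e from rfl) G
    haveI : IsMonHom c₁.hom := h₁
    haveI : IsMonHom c₁.inv := inferInstance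
    haveI : IsMonHom c₁.symm.hom := inferInstanceAs (IsMonHom c₁.inv)
    haveI : IsMonHom (Iso.refl (Red.bc (Red.geomPt z) T)).hom := inferInstanceAs (IsMonHom (𝟙 _))
    obtain ⟨ez⟩ := hrank _ (Red.geomPt z ≫ e) (Red.bc (Red.geomPt z) T)
      ((Over.pullback (Red.geomPt z)).map i ≫ c₁.inv)
      (MTImage.isMaximalTorus_iso (Iso.refl _) c₁.symm _ _
        (by rw [Iso.refl_hom, Category.id_comp, Iso.symm_hom]) (Chev.Borel.isTorus_bc_scheme T _ hi.2.2.1)
        (Chev.MaxTorusBC.isMaximalTorus_bc i hi (Red.geomPt z)))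
    rw [Scheme.Hom.comp_apply, geomPt_closedPoint] at ez
    exact hv z _ ⟨ez⟩
  have hinj : ∀ (d d' : ℕ), Nonempty ((Fin d → ZMod 2) ≃+ (Fin d' → ZMod 2)) → d = d' := fun d d' ⟨f⟩ => by
    have h := Nat.card_congr f.toEquiv
    simp only [Nat.card_fun, Nat.card_zmod, Nat.card_fin] at h
    exact Nat.pow_right_injective le_rfl h
  rw [IsLocallyConstant.iff_exists_open]
  intro s
  obtain ⟨s', rfl⟩ := hes.surj s
  let W : X.left.Opens := v.left ⁻¹ᵁ comp G (typ (v.left s'))
  refine ⟨e.base '' (W : Set X.left), e.isOpenMap _ W.isOpen, ⟨s', (mem_comp_iff _ _).2 rfl, rfl⟩, ?_⟩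
  rintro _ ⟨z, hz, rfl⟩
  obtain ⟨f₁⟩ := hd z
  rw [(mem_comp_iff _ _).1 hz] at f₁
  obtain ⟨f₂⟩ := hd s'
  exact hinj _ _ ⟨f₁.symm.trans f₂⟩

end Groth.Agent.TorScheme
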