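import Groth.Agent.TorScheme.FieldLemmas
import Groth.Agent.TorScheme.Rank
import Groth.Agent.MTImage.TorsionDense
import Groth.Agent.MTImage.CartanField
import Groth.Agent.MTImage.RankSemicont

/-!
# Torsion systems over an algebraically closed field
-/

set_option autoImplicit false
set_option linter.style.haveILetI false
set_option linter.unusedSectionVars false
set_option backward.isDefEq.respectTransparency false
set_option maxHeartbeats 1000000
set_option synthInstance.maxHeartbeats 400000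

universe u

open CategoryTheory Limits MonoidalCategory CartesianMonoidalCategory AlgebraicGeometry
open scoped CategoryTheory.Obj MonObj

noncomputable section

namespace Groth.Agent.TorScheme

open Groth.Agent.MTBridge Groth.Agent.GrpSubRep
open Groth.Agent.SubGen (rpt exists_rpt map_rpt)

variable {S : Scheme.{u}} {G : Over S} [GrpObj G] [IsAffineHom G.hom] [Smooth G.hom]

/-- A compatible system of torsion subgroups. -/
def IsSystem (r : S → ℕ) {X : Over S} (w : ℕ → (X ⟶ Par G)) : Prop :=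
  (∀ k, HasStage r k (w k)) ∧ ∀ k, IsTors (ord k) (w (k + 1)) (w k)

section System

variable {r : S → ℕ} {X : Over S} {w : ℕ → (X ⟶ Par G)}

theorem IsSystem.comp (h : IsSystem r w) {Y : Over S} (a : Y ⟶ X) : IsSystem r fun k => a ≫ w k :=
  ⟨fun k => (h.1 k).comp a, fun k => (h.2 k).comp a⟩

theorem IsSystem.pow_eq_one (h : IsSystem r w) {k : ℕ} {Y : Over S} {g : Y ⟶ G} {t : Y ⟶ X}
    (hg : InK (uj G) g (t ≫ w k)) : g ^ ord k = 1 := ((h.2 k Y g t).1 hg).2

theorem IsSystem.tors (h : IsSystem r w) {j k : ℕ} (hjk : j ≤ k) : IsTors (ord j) (w k) (w j) := by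
  induction k, hjk using Nat.le_induction with
  | base => exact fun Y g t => ⟨fun hg => ⟨hg, h.pow_eq_one hg⟩, fun hg => hg.1⟩
  | succ k hk ih => exact IsTors.trans (ord_dvd hk) (h.2 k) ih

theorem IsSystem.commK_of_inK (h : IsSystem r w) (j k : ℕ) {Y : Over S} {g : Y ⟶ G} {t : Y ⟶ X}
    (hg : InK (uj G) g (t ≫ w j)) : CommK (w k) g t := by
  rcases le_total j k with hjk | hkj
  · exact commWith_of_inK (uj G) isMultTypeFT_UK ((h.tors hjk Y g t).1 hg).1
  · exact (h.tors hkj).commK (commWith_of_inK (uj G) isMultTypeFT_UK hg)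

end System

/-- Isomorphic character groups give isomorphic diagonalisable groups. -/
theorem nonempty_iso_DS_of_equiv (T : Scheme.{u}) {A B : Type} [AddCommGroup A] [AddCommGroup B] (f : A ≃+ B) :
    Nonempty (Grp.mk (Red.DS T A) ≅ Grp.mk (Red.DS T B)) := by
  let e : Red.DS T A ≅ Red.DS T B := ⟨Red.DSmap T f.symm.toAddMonoidHom, Red.DSmap T f.toAddMonoidHom,
    by rw [GrpSubRep.DSmap_comp, ← GrpSubRep.DSmap_id]; congr 1; ext a; simp,
    by rw [GrpSubRep.DSmap_comp, ← GrpSubRep.DSmap_id]; congr 1; ext a; simp⟩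
  haveI : IsMonHom e.hom := MTQuot.isMonHom_DSmap _
  exact ⟨Grp.mkIso' e⟩

variable {Ω : Type u} [Field Ω] [IsAlgClosed Ω] {c : Spec (CommRingCat.of Ω) ⟶ S}

/-- Over a field an inclusion of members of the same type is an equality. -/
theorem eq_of_le_of_typ (v₁ v₂ : Over.mk c ⟶ Par G)
    (htyp : typ (v₁.left (IsLocalRing.closedPoint Ω)) = typ (v₂.left (IsLocalRing.closedPoint Ω)))
    (hle : ∀ (Y : Over S) (g : Y ⟶ G) (t : Y ⟶ Over.mk c), InK (uj G) g (t ≫ v₁) → InK (uj G) g (t ≫ v₂)) :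
    v₁ = v₂ := by
  obtain ⟨q, hq⟩ := exists_factor_of_le (M := Over.mk c) (pullUK v₁) (pullUK v₂) fun Y g t hg =>
    (inK_pullMap_iff (uj G) v₂ g t).2 (hle Y g t ((inK_pullMap_iff (uj G) v₁ g t).1 hg))
  haveI : IsFinite (Red.bc v₁.left (UK G)).hom := MorphismProperty.pullback_snd _ _ isFinite_UK
  haveI : IsFinite (Red.bc v₂.left (UK G)).hom := MorphismProperty.pullback_snd _ _ isFinite_UK
  haveI : Mono q := by haveI := mono_pullUK v₁; exact mono_of_mono_fac hq
  haveI : IsProper (q.left ≫ (Red.bc v₂.left (UK G)).hom) := by rw [Over.w q]; infer_instance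
  haveI : IsProper q.left := IsProper.of_comp q.left (Red.bc v₂.left (UK G)).hom
  haveI : IsClosedImmersion q.left :=
    (IsClosedImmersion.iff_isProper_and_mono _).2 ⟨inferInstance, inferInstanceAs (Mono ((Over.forget _).map q))⟩
  obtain ⟨e₁⟩ := nonempty_iso_DS_geom v₁
  obtain ⟨e₂⟩ := nonempty_iso_DS_geom v₂
  rw [← htyp] at e₂
  obtain ⟨hfin⟩ : Nonempty (Fintype (typ (v₁.left (IsLocalRing.closedPoint Ω))).Car) :=
    ⟨inferInstanceAs (Fintype (Fin _))⟩
  let E₁ := (Grp.forget _).mapIso e₁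
  let E₂ := (Grp.forget _).mapIso e₂
  let Q := E₁.inv ≫ q ≫ E₂.hom
  haveI : IsIso E₁.inv.left := inferInstanceAs (IsIso ((Over.forget _).map E₁.inv))
  haveI : IsIso E₂.hom.left := inferInstanceAs (IsIso ((Over.forget _).map E₂.hom))
  haveI : IsClosedImmersion Q.left :=
    inferInstanceAs (IsClosedImmersion (E₁.inv.left ≫ q.left ≫ E₂.hom.left))
  haveI : IsIso Q := isIso_endo_DS Q
  haveI : IsIso q := by
    rw [show q = E₁.hom ≫ Q ≫ E₂.inv by simp [Q]]
    infer_instance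
  refine eq_of_inK_iff G _ _ fun Y g t => ⟨hle Y g t, fun hg => ?_⟩
  refine (inK_pullMap_iff (uj G) v₁ g t).1 (inK_of_factor _ _ (inv q) ?_ ((inK_pullMap_iff (uj G) v₂ g t).2 hg))
  show inv q ≫ pullUK v₁ = pullUK v₂
  rw [IsIso.inv_comp_eq, hq]

variable {r : S → ℕ} {w : ℕ → (Over.mk c ⟶ Par G)} (hw : IsSystem r w)

include hw

/-- A torus of full rank containing the system has it as its torsion. -/
theorem torsOf_of_le {R : Over (Over.mk c).left} [GrpObj R] (t : R ⟶ Red.bc (Over.mk c).hom G) [IsMonHom t] [Mono t]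
    (hR : Red.IsTorus R)
    (e : Grp.mk R ≅ Grp.mk (Red.DS (Spec (CommRingCat.of Ω)) (Fin (r (c (IsLocalRing.closedPoint Ω))) → ℤ)))
    (hle : ∀ (j : ℕ) (Y : Over S) (g : Y ⟶ G) (y : Y ⟶ Over.mk c), InK (uj G) g (y ≫ w j) → InK t g y) (j : ℕ) :
    IsTorsOf t (ord j) (w j) := by
  obtain ⟨v, hv, htyp⟩ := exists_torsOf t hR (ord j)
  let z : Spec (CommRingCat.of Ω) := IsLocalRing.closedPoint Ω
  obtain ⟨f⟩ := htyp z (r (c z)) ⟨bcMapIso (Red.geomPt z) e ≪≫ bcDS (Red.geomPt z) _⟩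
  obtain ⟨f'⟩ := tnum_equiv.{u} (r (c z)) j
  have h1 : typ ((w j).left z) = typ (v.left z) := by
    rw [hw.1 j z]
    exact Typ.eq_of_equiv (f'.trans f.symm)
  rw [show w j = v from eq_of_le_of_typ (w j) v h1 fun Y g y hg => (hv Y g y).2 ⟨hle j Y g y hg, hw.pow_eq_one hg⟩]
  exact hv

/-- **The centralizers of the system are eventually constant.** -/
theorem exists_stable : ∃ K : ℕ, ∀ j, K ≤ j → ∀ (Y : Over S) (g : Y ⟶ G) (t : Y ⟶ Over.mk c),
    CommK (w K) g t → CommK (w j) g t := by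
  choose Z hZg z hzm hzmono hzc hzs hz using fun j => exists_centralizer_commK (w j)
  let R : ℕ → TopologicalSpace.Closeds (Red.bc c G).left := fun j =>
    ⟨Set.range (z j).left, (z j).left.isClosedEmbedding.isClosed_range⟩
  have hanti : ∀ {i j : ℕ}, i ≤ j → R j ≤ R i := by
    intro i j hij
    obtain ⟨q, hq⟩ := exists_factor_of_le (M := Over.mk c) (z j) (z i) fun Y g t hg =>
      (hz i Y g t).2 ((hw.tors hij).commK ((hz j Y g t).1 hg))
    rintro _ ⟨a, rfl⟩
    exact ⟨q.left a, by rw [← Scheme.Hom.comp_apply, ← Over.comp_left, hq]⟩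
  haveI : Smooth (Red.bc c G).hom := inferInstanceAs (Smooth (pullback.snd G.hom c))
  haveI : IsAffineHom (Red.bc c G).hom := isAffineHom_bc' (G := G) (Over.mk c)
  haveI : IsLocallyNoetherian (Red.bc c G).left := LocallyOfFiniteType.isLocallyNoetherian (Red.bc c G).hom
  haveI : CompactSpace (Red.bc c G).left := QuasiCompact.compactSpace_of_compactSpace (Red.bc c G).hom
  haveI : IsNoetherian (Red.bc c G).left := {}
  obtain ⟨_, ⟨K, rfl⟩, hK⟩ := wellFounded_lt.has_min (Set.range R) ⟨_, 0, rfl⟩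
  refine ⟨K, fun j hKj Y g t hg => ?_⟩
  have he : R j = R K := (hanti hKj).eq_or_lt.resolve_right (hK _ ⟨j, rfl⟩)
  haveI := hzs K
  haveI := hzc j
  haveI : IsReduced (Z K).left := SmoothRed.isReduced_of_smooth_scheme (Z K).hom
  obtain ⟨q, hq⟩ := Chev.exists_lift_range (z K) (z j) (fun a ha => he.ge ha)
  exact (hz j Y g t).1 (inK_of_factor (z K) (z j) q hq ((hz K Y g t).2 hg))

/-- **An open subgroup of the centralizer contains the system.** -/
theorem inK_open (K : ℕ) {Z C : Over (Over.mk c).left} [GrpObj Z] [GrpObj C] (jZ : Z ⟶ Red.bc (Over.mk c).hom G)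
    [IsMonHom jZ] [Mono jZ] [LocallyOfFiniteType Z.hom] [QuasiCompact Z.hom]
    (hZ : ∀ (Y : Over S) (g : Y ⟶ G) (t : Y ⟶ Over.mk c), InK jZ g t ↔ CommK (w K) g t) (c₀ : C ⟶ Z) [IsMonHom c₀]
    [IsOpenImmersion c₀.left] (j : ℕ) {Y : Over S} {g : Y ⟶ G} {t : Y ⟶ Over.mk c}
    (hg : InK (uj G) g (t ≫ w j)) : InK (c₀ ≫ jZ) g t := by
  haveI : JacobsonSpace (Over.mk c).left := inferInstanceAs (JacobsonSpace (PrimeSpectrum Ω))
  obtain ⟨d, hd, hdC⟩ := exists_pow_mem_open c₀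
  let j' := ord j * d + j
  have hjj' : j ≤ j' := Nat.le_add_left j _
  have hdvd : ord j * d ∣ ord j' := dvd_ord (Nat.mul_pos (ord_pos j) hd) (by omega)
  have hfac : ∀ i, ∃ q : Red.bc (w i).left (UK G) ⟶ Z, q ≫ jZ = pullUK (w i) := fun i =>
    exists_factor_of_le (M := Over.mk c) (pullUK (w i)) jZ fun Y g t hg =>
      (hZ Y g t).2 (hw.commK_of_inK i K ((inK_pullMap_iff (uj G) (w i) g t).1 hg))
  obtain ⟨q, hq⟩ := hfac j
  obtain ⟨q', hq'⟩ := hfac j'
  haveI := isMonHom_pullUK (w j')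
  haveI := mono_pullUK (w j')
  haveI := isMonHom_pullUK (w j)
  haveI : IsMonHom q' := MTSplit.isMonHom_of_comp_mono q' jZ _ hq'
  obtain ⟨f, hf⟩ := exists_factor_of_le (M := Over.mk c) (pullUK (w j)) (pullUK (w j')) fun Y g t hg =>
    (inK_pullMap_iff (uj G) (w j') g t).2 ((hw.tors hjj' Y g t).1 ((inK_pullMap_iff (uj G) (w j) g t).1 hg)).1
  haveI : IsFinite (Red.bc (w j).left (UK G)).hom := MorphismProperty.pullback_snd _ _ isFinite_UK
  haveI : LocallyOfFiniteType (Red.bc (w j).left (UK G)).hom := inferInstance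
  obtain ⟨e⟩ := nonempty_iso_DS_geom (w j')
  obtain ⟨f'⟩ := tnum_equiv.{u} (r (c (IsLocalRing.closedPoint Ω))) j'
  rw [hw.1 j'] at e
  obtain ⟨e'⟩ := nonempty_iso_DS_of_equiv (Spec (CommRingCat.of Ω)) f'
  let E : Red.bc (w j').left (UK G) ≅ Red.DS (Spec (CommRingCat.of Ω))
      (Fin (r (c (IsLocalRing.closedPoint Ω))) → ZMod (ord j')) := (Grp.forget _).mapIso (e ≪≫ e')
  haveI : IsMonHom E.hom := (e ≪≫ e').hom.hom.isMonHom_hom
  haveI : IsMonHom E.inv := inferInstance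
  have hrange : Set.range q.left ⊆ Set.range c₀.left := by
    by_contra hne
    obtain ⟨_, ⟨p, rfl⟩, hp⟩ := Set.not_subset.1 hne
    haveI : JacobsonSpace (Red.bc (w j).left (UK G)).left :=
      LocallyOfFiniteType.jacobsonSpace (Red.bc (w j).left (UK G)).hom
    obtain ⟨p', hp', hp'c⟩ := nonempty_inter_closedPoints (X := (Red.bc (w j).left (UK G)).left)
      (Z := q.left ⁻¹' (Set.range c₀.left)ᶜ) ⟨p, hp⟩
      ((c₀.left.isOpenEmbedding.isOpen_range.isClosed_compl.preimage q.left.continuous).isLocallyClosed)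
    obtain ⟨x, rfl⟩ := exists_rpt (Y := Red.bc (w j).left (UK G)) hp'c
    refine hp' ?_
    obtain ⟨a, ha⟩ := exists_toBC' (Over.mk c).hom (x ≫ pullUK (w j))
    have ha' : a ^ ord j = 1 :=
      hw.pow_eq_one ((inK_pullMap_iff (uj G) (w j) a _).1 ((inK_str_iff (pullUK (w j)) a).2 ⟨x, ha.symm⟩))
    have hx : (x ≫ f) ^ ord j = 1 := by
      rw [← cancel_mono (pullUK (w j')), MonObj.pow_comp, Category.assoc, hf, ← ha, ← toBC_pow, ha',
        MTImage.toBC_one, MonObj.one_comp]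
    obtain ⟨y, hy⟩ := exists_root_point _ _ (ord j) d hd hdvd (x ≫ f ≫ E.hom) (by
      rw [← Category.assoc, ← MonObj.pow_comp, hx, MonObj.one_comp])
    obtain ⟨a', ha''⟩ := hdC ((y ≫ E.inv) ≫ q')
    refine ⟨a', ha''.trans ?_⟩
    rw [map_rpt]
    congr 1
    rw [← cancel_mono jZ, Category.assoc x, hq, ← hf, ← MonObj.pow_comp, Category.assoc, hq', ← Category.assoc x f]
    congr 1
    rw [← MonObj.pow_comp, hy]
    simp
  let l : (Red.bc (w j).left (UK G)).left ⟶ C.left := IsOpenImmersion.lift c₀.left q.left hrange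
  let L : Red.bc (w j).left (UK G) ⟶ C := Over.homMk l (by
    show l ≫ C.hom = _
    rw [← Over.w c₀, IsOpenImmersion.lift_fac_assoc]
    exact Over.w q)
  have hL : L ≫ c₀ ≫ jZ = pullUK (w j) := by
    rw [← Category.assoc, show L ≫ c₀ = q from Over.OverMorphism.ext (IsOpenImmersion.lift_fac _ _ _), hq]
  exact inK_of_factor (pullUK (w j)) (c₀ ≫ jZ) L hL ((inK_pullMap_iff (uj G) (w j) g t).2 hg)

/-- Members inside a connected group with a central maximal torus are its torsion. -/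
theorem torsOf_of_central (hrk : HasRank G r) {R C : Over (Over.mk c).left} [GrpObj R] [GrpObj C] [Smooth C.hom]
    [ConnectedSpace C.left] (jC : C ⟶ Red.bc (Over.mk c).hom G) [IsMonHom jC] [Mono jC] [IsClosedImmersion jC.left]
    (t : R ⟶ C) [IsMonHom t] (hR : AGF.IsMaxTorus (t ≫ jC))
    (hcent : ∀ (X : Over (Over.mk c).left) (g : X ⟶ C) (x : X ⟶ R), g * (x ≫ t) = (x ≫ t) * g)
    (hle : ∀ (j : ℕ) (Y : Over S) (g : Y ⟶ G) (y : Y ⟶ Over.mk c), InK (uj G) g (y ≫ w j) → InK jC g y) (j : ℕ) :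
    IsTorsOf (t ≫ jC) (ord j) (w j) := by
  haveI := hR.1; haveI := hR.2.1
  haveI : IsAffine (Over.mk c).left := inferInstanceAs (IsAffine (Spec (CommRingCat.of Ω)))
  haveI : IsAffineHom C.hom := by rw [← Over.w jC]; infer_instance
  haveI : IsAffine C.left := isAffine_of_isAffineHom C.hom
  obtain ⟨e⟩ := hrk Ω c R (t ≫ jC) (Chev.Borel.isMaximalTorus_of_isMaxTorus _ hR)
  refine torsOf_of_le hw (t ≫ jC) hR.2.2.1 e (fun i Y g y hg => ?_) j
  haveI := isMonHom_pullUK (w i)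
  obtain ⟨u', hu'⟩ := exists_factor_of_le (M := Over.mk c) (pullUK (w i)) jC fun Y g y hg =>
    hle i Y g y ((inK_pullMap_iff (uj G) (w i) g y).1 hg)
  haveI : IsMonHom u' := MTSplit.isMonHom_of_comp_mono u' jC _ hu'
  obtain ⟨q, hq⟩ := factor_central_maxTorus t (MTImage.isMaxTorus_of_comp t jC hR) hcent
    (isMultTypeFT_bc (UK G) (w i).left isMultTypeFT_UK) u'
  exact inK_of_factor (pullUK (w i)) (t ≫ jC) q (by rw [← Category.assoc, hq, hu'])
    ((inK_pullMap_iff (uj G) (w i) g y).2 hg)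

/-- Two points commute when their images in the group do. -/
theorem commute_of_commK {C H : Over (Over.mk c).left} [GrpObj C] [GrpObj H] (jC : C ⟶ Red.bc (Over.mk c).hom G)
    [IsMonHom jC] [Mono jC] (jH : H ⟶ Red.bc (Over.mk c).hom G) [IsMonHom jH]
    (hcomm : ∀ (j : ℕ) (Y : Over S) (g : Y ⟶ G) (y : Y ⟶ Over.mk c), InK jC g y → CommK (w j) g y)
    {X : Over (Over.mk c).left} (g : X ⟶ C) (x : X ⟶ H) (x' : X ⟶ C) (hx : x' ≫ jC = x ≫ jH) (j : ℕ)
    (hin : ∀ (b : (Over.map (Over.mk c).hom).obj X ⟶ G), toBC (Over.mk c).hom b = x ≫ jH →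
      InK (uj G) b ((Over.homMk X.hom : (Over.map (Over.mk c).hom).obj X ⟶ Over.mk c) ≫ w j)) :
    g * x' = x' * g := by
  rw [← cancel_mono jC, MonObj.mul_comp, MonObj.mul_comp, hx]
  obtain ⟨a, ha⟩ := exists_toBC' (Over.mk c).hom (g ≫ jC)
  obtain ⟨b, hb⟩ := exists_toBC' (Over.mk c).hom (x ≫ jH)
  have h1 := hcomm j _ a _ ((inK_str_iff jC a).2 ⟨g, ha.symm⟩) _ (𝟙 _) b (by
    rw [Category.id_comp]
    exact hin b hb)
  rw [Category.id_comp] at h1
  rw [← ha, ← hb, ← toBC_mul, ← toBC_mul, h1]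

/-- The system lies in every maximal torus of such a group. -/
theorem inK_maxTorus {C T : Over (Over.mk c).left} [GrpObj C] [GrpObj T] [Smooth C.hom] [ConnectedSpace C.left]
    [IsAffine C.left] (jC : C ⟶ Red.bc (Over.mk c).hom G) [IsMonHom jC] [Mono jC] (tc : T ⟶ C) [IsMonHom tc]
    (htc : AGF.IsMaxTorus tc)
    (hle : ∀ (j : ℕ) (Y : Over S) (g : Y ⟶ G) (y : Y ⟶ Over.mk c), InK (uj G) g (y ≫ w j) → InK jC g y)
    (hcomm : ∀ (j : ℕ) (Y : Over S) (g : Y ⟶ G) (y : Y ⟶ Over.mk c), InK jC g y → CommK (w j) g y)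
    (j : ℕ) {Y : Over S} {g : Y ⟶ G} {y : Y ⟶ Over.mk c} (hg : InK (uj G) g (y ≫ w j)) : InK (tc ≫ jC) g y := by
  haveI := isMonHom_pullUK (w j)
  obtain ⟨u', hu'⟩ := exists_factor_of_le (M := Over.mk c) (pullUK (w j)) jC fun Y g y hg =>
    hle j Y g y ((inK_pullMap_iff (uj G) (w j) g y).1 hg)
  haveI : IsMonHom u' := MTSplit.isMonHom_of_comp_mono u' jC _ hu'
  obtain ⟨q, hq⟩ := Chev.Borel.central_factor_maxTorus (G := C) (T := T) (H := Red.bc (w j).left (UK G)) tc htc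
    (isMultTypeFT_bc (UK G) (w j).left isMultTypeFT_UK) u' fun X x g =>
      (commute_of_commK hw jC (pullUK (w j)) hcomm g x (x ≫ u') (by rw [Category.assoc, hu']) j fun b hb =>
        (inK_pullMap_iff (uj G) (w j) b _).1 ((inK_str_iff (pullUK (w j)) b).2 ⟨x, hb.symm⟩)).symm
  exact inK_of_factor (pullUK (w j)) (tc ≫ jC) q (by rw [← Category.assoc, hq, hu'])
    ((inK_pullMap_iff (uj G) (w j) g y).2 hg)

/-- A torus with the given torsion is central. -/
theorem central_of_torsOf {C R : Over (Over.mk c).left} [GrpObj C] [GrpObj R] [Smooth C.hom] [QuasiCompact C.hom]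
    [IsAffine C.left] [ConnectedSpace C.left]
    (jC : C ⟶ Red.bc (Over.mk c).hom G) [IsMonHom jC] [Mono jC] (t : R ⟶ C) [IsMonHom t] (hR : Red.IsTorus R)
    (htors : ∀ j, IsTorsOf (t ≫ jC) (ord j) (w j))
    (hcomm : ∀ (j : ℕ) (Y : Over S) (g : Y ⟶ G) (y : Y ⟶ Over.mk c), InK jC g y → CommK (w j) g y)
    (X : Over (Over.mk c).left) (g : X ⟶ C) (x : X ⟶ R) : g * (x ≫ t) = (x ≫ t) * g := by
  refine Chev.Borel.commute_of_rp (G := C) (T := R) t hR (fun g p => ?_) X g x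
  obtain ⟨l, hl, hl0⟩ : ∃ l : ℕ, 1 < l ∧ (l : Ω) ≠ 0 := by
    by_cases h2 : (2 : Ω) = 0
    · refine ⟨3, by norm_num, fun h3 => ?_⟩
      have : (3 : Ω) - 2 = 1 := by norm_num
      rw [Nat.cast_ofNat] at h3
      rw [h3, h2, sub_zero] at this
      exact zero_ne_one this
    · exact ⟨2, by norm_num, by rwa [Nat.cast_ofNat]⟩
  obtain ⟨m, L, hL, hcentr⟩ := MTImage.exists_torsion_centralizer l hl hl0 hR t
  refine (hcentr g (fun s hs => ?_) p).symm
  refine (commute_of_commK hw jC (t ≫ jC) hcomm g s (s ≫ t) (Category.assoc _ _ _) (l ^ m) fun b hb => ?_).symm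
  refine (htors (l ^ m) _ b _).2 ⟨(inK_str_iff (t ≫ jC) b).2 ⟨s, hb.symm⟩, ?_⟩
  obtain ⟨n, hn⟩ := dvd_ord (k := l ^ m) (pow_pos (by omega : 0 < l) m) (Nat.le_add_right _ 2)
  refine toBC_inj _ ?_
  rw [toBC_pow, hb, ← MonObj.pow_comp, hn, pow_mul, hL s hs, one_pow, MonObj.one_comp, MTImage.toBC_one]

set_option maxHeartbeats 8000000 in
/-- **A connected group centralizing the system and containing it carries a central maximal torus.** -/
theorem exists_central_torus (hrk : HasRank G r) {C : Over (Over.mk c).left} [GrpObj C] [Smooth C.hom]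
    [ConnectedSpace C.left] (jC : C ⟶ Red.bc (Over.mk c).hom G) [IsMonHom jC] [Mono jC] [IsClosedImmersion jC.left]
    (hle : ∀ (j : ℕ) (Y : Over S) (g : Y ⟶ G) (y : Y ⟶ Over.mk c), InK (uj G) g (y ≫ w j) → InK jC g y)
    (hcomm : ∀ (j : ℕ) (Y : Over S) (g : Y ⟶ G) (y : Y ⟶ Over.mk c), InK jC g y → CommK (w j) g y) :
    ∃ (R : Over (Over.mk c).left) (_ : GrpObj R) (t : R ⟶ C), IsMonHom t ∧ AGF.IsMaxTorus (t ≫ jC) ∧
      ∀ (X : Over (Over.mk c).left) (g : X ⟶ C) (x : X ⟶ R), g * (x ≫ t) = (x ≫ t) * g := by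
  haveI : IsAffine (Over.mk c).left := inferInstanceAs (IsAffine (Spec (CommRingCat.of Ω)))
  haveI : Smooth (Red.bc (Over.mk c).hom G).hom := inferInstanceAs (Smooth (pullback.snd G.hom c))
  haveI : IsAffineHom (Red.bc (Over.mk c).hom G).hom := isAffineHom_bc' (G := G) (Over.mk c)
  haveI : IsAffine (Red.bc (Over.mk c).hom G).left := isAffine_of_isAffineHom (Red.bc (Over.mk c).hom G).hom
  haveI : IsAffineHom C.hom := by rw [← Over.w jC]; infer_instance
  haveI : IsAffine C.left := isAffine_of_isAffineHom C.hom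
  haveI : QuasiCompact C.hom := inferInstance
  obtain ⟨T, hTg, tc, htc⟩ := MTImage.exists_maxTorus_general (k := Ω) C
  have htc' := Chev.Borel.isMaxTorus_of_isMaximalTorus (k := Ω) tc htc
  haveI := htc.1; haveI := htc.2.1
  haveI : Mono (tc ≫ jC) := mono_comp _ _
  obtain ⟨T', hT'g, i', f, hi', hf⟩ := MTImage.exists_maxTorus_containing (k := Ω) (tc ≫ jC) htc.2.2.1
  haveI := hi'.1; haveI := hi'.2.1
  obtain ⟨e⟩ := hrk Ω c T' i' (Chev.Borel.isMaximalTorus_of_isMaxTorus (k := Ω) i' hi')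
  have htors : ∀ j, IsTorsOf i' (ord j) (w j) := fun j => torsOf_of_le hw i' hi'.2.2.1 e
    (fun i Y g y hg => inK_of_factor (tc ≫ jC) i' f hf (inK_maxTorus hw jC tc htc' hle hcomm i hg)) j
  haveI : IsClosedImmersion (tc ≫ jC).left := isClosedImmersion_torus htc.2.2.1 (tc ≫ jC)
  obtain ⟨h, hh⟩ := exists_factor_of_inK i' (isMultTypeFT_of_isTorus T' hi'.2.2.1) (tc ≫ jC) fun j Y g y hg hp =>
    inK_maxTorus hw jC tc htc' hle hcomm j ((htors j Y g y).2 ⟨hg, hp⟩)
  haveI : IsMonHom h := MTSplit.isMonHom_of_comp_mono h _ i' hh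
  haveI : IsMonHom (h ≫ tc) := inferInstance
  have e1 : (h ≫ tc) ≫ jC = i' := by rw [Category.assoc, hh]
  exact ⟨T', hT'g, h ≫ tc, inferInstance, by rw [e1]; exact hi',
    central_of_torsOf hw jC (h ≫ tc) hi'.2.2.1 (fun j => by rw [e1]; exact htors j) hcomm⟩

end Groth.Agent.TorScheme
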