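import Groth.Agent.TorScheme.Points
import Groth.Agent.Chev.CentralMT
import Groth.Agent.SubGen.AlgClosed

/-!
# Auxiliary facts over an algebraically closed field
-/

set_option autoImplicit false
set_option linter.style.haveILetI false
set_option linter.unusedSectionVars false
set_option backward.isDefEq.respectTransparency false
set_option maxHeartbeats 1000000
set_option synthInstance.maxHeartbeats 400000

universe u

open CategoryTheory Limits MonoidalCategory CartesianMonoidalCategory AlgebraicGeometry WithConv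
open scoped CategoryTheory.Obj MonObj

noncomputable section

namespace Groth.Agent.TorScheme

open Groth.Agent.MTBridge

variable {k : Type u} [Field k]

/-- A closed immersion of a finite scheme over a field into itself is an isomorphism. -/
theorem isIso_endo_finite {B : Type u} [CommRing B] [Algebra k B] [Module.Finite k B]
    (f : Spec (CommRingCat.of B) ⟶ Spec (CommRingCat.of B)) [IsClosedImmersion f]
    (hf : f ≫ Spec.map (CommRingCat.ofHom (algebraMap k B)) = Spec.map (CommRingCat.ofHom (algebraMap k B))) :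
    IsIso f := by
  obtain ⟨φ, rfl⟩ := Spec.map_surjective f
  have hs : Function.Surjective φ.hom := by
    obtain ⟨I, e, he⟩ := (IsClosedImmersion.Spec_iff (R := CommRingCat.of B) (f := Spec.map φ)).1 inferInstance
    obtain ⟨ψ, hψ⟩ := Spec.map_surjective e.inv
    have h1 : φ ≫ ψ = CommRingCat.ofHom (Ideal.Quotient.mk I) := by
      rw [← Spec.map_inj, Spec.map_comp, hψ, he, e.inv_hom_id_assoc]
    obtain ⟨ψ', hψ'⟩ := Spec.map_surjective e.hom
    haveI : IsIso ψ := ⟨ψ', by rw [← Spec.map_inj, Spec.map_comp, hψ, hψ', e.hom_inv_id, Spec.map_id],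
      by rw [← Spec.map_inj, Spec.map_comp, hψ, hψ', e.inv_hom_id, Spec.map_id]⟩
    intro b
    obtain ⟨a, ha⟩ := Ideal.Quotient.mk_surjective (ψ.hom b)
    exact ⟨a, ((ConcreteCategory.bijective_of_isIso ψ).1) ((congr($(h1) a)).trans ha)⟩
  have hc : ∀ c : k, φ.hom (algebraMap k B c) = algebraMap k B c := fun c => by
    rw [← Spec.map_comp, Spec.map_inj] at hf
    exact congr($(hf) c)
  let L : B →ₗ[k] B :=
    { toFun := φ.hom
      map_add' := map_add _
      map_smul' := fun c b => by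
        simp only [Algebra.smul_def, map_mul, hc, RingHom.id_apply] }
  have hb : Function.Bijective φ.hom :=
    ⟨(LinearMap.injective_iff_surjective (f := L)).2 hs, hs⟩
  haveI : IsIso φ := (RingEquiv.ofBijective φ.hom hb).toCommRingCatIso.isIso_hom
  infer_instance

/-- An endomorphism of a finite diagonalisable group which is a closed immersion is an isomorphism. -/
theorem isIso_endo_DS {A : Type} [AddCommGroup A] [Finite A]
    (g : Red.DS (Spec (CommRingCat.of k)) A ⟶ Red.DS (Spec (CommRingCat.of k)) A) [IsClosedImmersion g.left] :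
    IsIso g := by
  obtain ⟨e⟩ := nonempty_DS_iso k A
  let e' : Red.DS (Spec (CommRingCat.of k)) A ≅ (specGrp k (MonoidAlgebra k (Multiplicative A))).X :=
    (Grp.forget _).mapIso e
  let f := e'.inv ≫ g ≫ e'.hom
  haveI : IsIso e'.hom.left := inferInstanceAs (IsIso ((Over.forget _).map e'.hom))
  haveI : IsIso e'.inv.left := inferInstanceAs (IsIso ((Over.forget _).map e'.inv))
  haveI : IsClosedImmersion f.left :=
    inferInstanceAs (IsClosedImmersion (e'.inv.left ≫ g.left ≫ e'.hom.left))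
  haveI : Module.Finite k (MonoidAlgebra k (Multiplicative A)) :=
    Module.Finite.of_basis (MonoidAlgebra.basis (Multiplicative A) k)
  haveI : IsIso f.left := isIso_endo_finite (B := MonoidAlgebra k (Multiplicative A)) f.left (Over.w f)
  haveI : IsIso f := by
    haveI : IsIso ((Over.forget _).map f) := ‹IsIso f.left›
    exact isIso_of_reflects_iso f (Over.forget _)
  have : g = e'.hom ≫ f ≫ e'.inv := by simp [f]
  rw [this]
  infer_instance

variable [IsAlgClosed k]

open Groth.Agent.Chev Groth.Agent.Chev.Borel Groth.Agent.Chev.BorelFixed in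
/-- In a connected group with a central maximal torus every subgroup of multiplicative type lies in the torus. -/
theorem factor_central_maxTorus {C T H : Over (Spec (CommRingCat.of k))} [GrpObj C] [GrpObj T] [GrpObj H]
    [IsAffine C.left] [Smooth C.hom] [ConnectedSpace C.left] (tc : T ⟶ C) (hT : AGF.IsMaxTorus tc)
    (hcent : ∀ (X : Over (Spec (CommRingCat.of k))) (g : X ⟶ C) (t : X ⟶ T), g * (t ≫ tc) = (t ≫ tc) * g)
    (hH : SGA3x.IsMultTypeFT H) (u : H ⟶ C) [IsMonHom u] : ∃ w : H ⟶ T, w ≫ tc = u := by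
  haveI := hT.1; haveI := hT.2.1
  haveI : IsMonHom (𝟙 C) := inferInstance
  have hc : Red.IsCentralizerOf tc (𝟙 C) := ⟨inferInstance, inferInstance, fun X g =>
    ⟨fun _ X' x h => hcent X' (x ≫ g) h, fun _ => ⟨g, Category.comp_id _⟩⟩⟩
  obtain ⟨-, -, -, -, hsol, -, -⟩ := centralizer_maxTorus tc hT (𝟙 C) hc
  haveI := hsol
  obtain ⟨T₁, hT₁g, i₁, -, hi₁, -, hi₁c, -, hT₁, huniv, -⟩ := exists_section_torus C
  haveI := hi₁; haveI := hi₁c
  obtain ⟨T₀, hT₀g, i₀, π, hi₀, hπ, hi₀c, hret, hT₀, hkill⟩ := exists_torus_retraction_kill C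
  haveI := hi₀; haveI := hπ; haveI := hi₀c
  haveI : Mono i₀ := GrpField.SchImg.mono_of_isClosedImmersion i₀
  obtain ⟨g₁, f₁, hf₁m, hf₁⟩ := huniv T tc hT.2.2.1
  have hf₁' : f₁ ≫ i₁ = tc := by
    rw [hf₁]
    show (toUnit T ≫ g₁) * tc * (toUnit T ≫ g₁)⁻¹ = tc
    have h := hcent T (toUnit T ≫ g₁) (𝟙 T)
    rw [Category.id_comp] at h
    rw [h, mul_inv_cancel_right]
  haveI : Mono (f₁ ≫ i₁) := by rw [hf₁']; infer_instance
  haveI : Mono f₁ := mono_of_mono f₁ i₁
  haveI : Mono i₁ := GrpField.SchImg.mono_of_isClosedImmersion i₁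
  haveI : IsIso f₁ := hT.2.2.2 T₁ i₁ f₁ hT₁ hf₁'
  obtain ⟨g₀, f₀, hf₀m, hf₀⟩ := huniv T₀ i₀ hT₀
  have hj : ∃ j₀ : T₀ ⟶ T, j₀ ≫ tc = i₀ := by
    refine ⟨f₀ ≫ CategoryTheory.inv f₁, ?_⟩
    have e1 : (f₀ ≫ CategoryTheory.inv f₁) ≫ tc = f₀ ≫ i₁ := by
      rw [← hf₁', Category.assoc, IsIso.inv_hom_id_assoc]
    rw [e1]
    have h := hcent T₀ (toUnit T₀ ≫ g₀) (f₀ ≫ CategoryTheory.inv f₁)
    rw [e1, hf₀, AGF.conjBy] at h
    rw [hf₀, AGF.conjBy]
    exact eq_of_commute_conj h
  obtain ⟨j₀, hj₀⟩ := hj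
  let v : H ⟶ C := u * (u ≫ π ≫ i₀)⁻¹
  have hvc : ∀ (X : Over (Spec (CommRingCat.of k))) (x : X ⟶ H) (g : X ⟶ C),
      (x ≫ u ≫ π ≫ i₀) * g = g * (x ≫ u ≫ π ≫ i₀) := fun X x g => by
    rw [← hj₀, show x ≫ u ≫ π ≫ j₀ ≫ tc = (x ≫ u ≫ π ≫ j₀) ≫ tc by simp only [Category.assoc], hcent]
  haveI : IsMonHom v := isMonHom_of_points v fun X x y => by
    simp only [v, MonObj.comp_mul, GrpObj.comp_inv, MonObj.mul_comp]
    exact mul_inv_hom (fun m => hvc X y m) (hvc X x (y ≫ u)).symm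
  have hv : v ≫ π = 1 := by
    show (u * (u ≫ π ≫ i₀)⁻¹) ≫ π = 1
    rw [MonObj.mul_comp, GrpObj.inv_comp, Category.assoc, Category.assoc, hret, Category.comp_id, mul_inv_cancel]
  have h1 : u = u ≫ π ≫ i₀ := mul_inv_eq_one.1 (hkill H v hH hv)
  exact ⟨u ≫ π ≫ j₀, by rw [Category.assoc, Category.assoc, hj₀, ← h1]⟩

open Groth.Agent.SubGen in
/-- A fixed power of every point lies in an open subgroup. -/
theorem exists_pow_mem_open {Z C : Over (Spec (CommRingCat.of k))} [GrpObj Z] [GrpObj C] [LocallyOfFiniteType Z.hom]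
    [QuasiCompact Z.hom] (c : C ⟶ Z) [IsMonHom c] [IsOpenImmersion c.left] :
    ∃ d : ℕ, 0 < d ∧ ∀ z : 𝟙_ (Over (Spec (CommRingCat.of k))) ⟶ Z, rpt (z ^ d) ∈ Set.range c.left := by
  classical
  let U := 𝟙_ (Over (Spec (CommRingCat.of k)))
  let P₀ : Subgroup (U ⟶ Z) :=
    (MonoidHom.mk' (fun x : U ⟶ C => x ≫ c) fun a b => MonObj.mul_comp a b c).range
  let tr : (U ⟶ Z) → (Z ⟶ Z) := fun y => (toUnit Z ≫ y⁻¹) * 𝟙 Z
  have htr : ∀ (y z : U ⟶ Z), z ≫ tr y = y⁻¹ * z := fun y z => by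
    rw [MonObj.comp_mul, Category.comp_id, ← Category.assoc, toUnit_unique (z ≫ toUnit Z) (𝟙 U), Category.id_comp]
  have hmem : ∀ x : U ⟶ Z, rpt x ∈ Set.range c.left → x ∈ P₀ := by
    rintro x ⟨w, hw⟩
    have hr : Set.range x.left ⊆ Set.range c.left := by
      rintro _ ⟨s, rfl⟩
      rw [apply_eq_rpt]
      exact ⟨w, hw⟩
    exact ⟨Over.homMk (IsOpenImmersion.lift c.left x.left hr) (by
      show _ ≫ C.hom = _
      rw [← Over.w c, IsOpenImmersion.lift_fac_assoc]
      exact Over.w x), Over.OverMorphism.ext (IsOpenImmersion.lift_fac _ _ _)⟩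
  let O : (U ⟶ Z) → Set Z.left := fun y => (tr y).left ⁻¹' Set.range c.left
  haveI : JacobsonSpace Z.left := LocallyOfFiniteType.jacobsonSpace Z.hom
  haveI : CompactSpace Z.left := QuasiCompact.compactSpace_of_compactSpace Z.hom
  have hO : ∀ y, IsOpen (O y) := fun y => c.left.isOpenEmbedding.isOpen_range.preimage (tr y).left.continuous
  have hcov : Set.univ ⊆ ⋃ y, O y := by
    by_contra hne
    obtain ⟨w, -, hw⟩ := Set.not_subset.1 hne
    obtain ⟨q, hqZ, hqc⟩ := nonempty_inter_closedPoints (X := Z.left) (Z := (⋃ y, O y)ᶜ) ⟨w, hw⟩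
      (isOpen_iUnion hO).isClosed_compl.isLocallyClosed
    obtain ⟨y, rfl⟩ := exists_rpt hqc
    refine hqZ (Set.mem_iUnion.2 ⟨y, ?_⟩)
    show (tr y).left (rpt y) ∈ Set.range c.left
    rw [map_rpt, htr, inv_mul_cancel, show rpt (1 : U ⟶ Z) = c.left (rpt (1 : U ⟶ C)) by
      rw [map_rpt, MonObj.one_comp]]
    exact ⟨_, rfl⟩
  obtain ⟨F, hF⟩ := isCompact_univ.elim_finite_subcover O hO hcov
  haveI : Finite ((U ⟶ Z) ⧸ P₀) := Finite.of_surjective (fun y : F => (QuotientGroup.mk y.1 : (U ⟶ Z) ⧸ P₀))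
    fun q => by
      induction q using QuotientGroup.induction_on with
      | H z =>
        obtain ⟨y, hy, hz⟩ := Set.mem_iUnion₂.1 (hF (Set.mem_univ (rpt z)))
        refine ⟨⟨y, hy⟩, QuotientGroup.eq.2 (hmem _ ?_)⟩
        rw [← htr, ← map_rpt]
        exact hz
  haveI : P₀.FiniteIndex := Subgroup.finiteIndex_of_finite_quotient
  refine ⟨P₀.index.factorial, Nat.factorial_pos _, fun z => ?_⟩
  obtain ⟨n, hn, hn', hmn⟩ := Subgroup.exists_pow_mem_of_index_ne_zero P₀.index_ne_zero_of_finite z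
  obtain ⟨m, hm⟩ := Nat.dvd_factorial hn hn'
  rw [hm, pow_mul]
  obtain ⟨x, hx⟩ := pow_mem hmn m
  exact ⟨rpt x, by rw [map_rpt]; exact congrArg rpt hx⟩

/-- Roots of torsion points of a finite diagonalisable group. -/
theorem exists_root_point (r N n d : ℕ) [NeZero N] (hd : 0 < d) (hN : n * d ∣ N)
    (x : 𝟙_ (Over (Spec (CommRingCat.of k))) ⟶ Red.DS (Spec (CommRingCat.of k)) (Fin r → ZMod N)) (hx : x ^ n = 1) :
    ∃ y : 𝟙_ (Over (Spec (CommRingCat.of k))) ⟶ Red.DS (Spec (CommRingCat.of k)) (Fin r → ZMod N), y ^ d = x := by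
  classical
  let R := Γ((𝟙_ (Over (Spec (CommRingCat.of k)))).left, ⊤)
  let ι₀ : k ≃+* R := (Scheme.ΓSpecIso (CommRingCat.of k)).symm.commRingCatIsoToRingEquiv
  have hchn : ∀ (m : ℕ) (y : 𝟙_ (Over (Spec (CommRingCat.of k))) ⟶ Red.DS (Spec (CommRingCat.of k)) (Fin r → ZMod N))
      (a : Multiplicative (Fin r → ZMod N)), HomDiag.ch (y ^ m) a = HomDiag.ch y a ^ m := by
    intro m y a
    induction m with
    | zero => rw [pow_zero, pow_zero, HomDiag.ch_one]
    | succ j ih => rw [pow_succ, pow_succ, HomDiag.ch_mul, ih]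
  let e : Fin r → Multiplicative (Fin r → ZMod N) := fun i => Multiplicative.ofAdd (Pi.single i 1)
  have hroot : ∀ i, ∃ a : R, a ^ d = HomDiag.ch x (e i) ∧ a ^ N = 1 := by
    intro i
    obtain ⟨z, hz⟩ := IsAlgClosed.exists_pow_nat_eq (ι₀.symm (HomDiag.ch x (e i))) hd
    refine ⟨ι₀ z, by rw [← map_pow, hz, RingEquiv.apply_symm_apply], ?_⟩
    obtain ⟨m, hm⟩ := hN
    rw [hm, show n * d * m = d * (n * m) by ring, pow_mul, ← map_pow, hz, RingEquiv.apply_symm_apply, pow_mul,
      ← hchn, hx, HomDiag.ch_one, one_pow]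
  choose a ha haN using hroot
  have hu : ∀ i, IsUnit (a i) := fun i => IsUnit.of_pow_eq_one (haN i) (NeZero.ne N)
  let u : Fin r → (ZMod N →+ Additive Rˣ) := fun i => ZMod.lift N
    ⟨(zmultiplesHom (Additive Rˣ)) (Additive.ofMul (hu i).unit), by
      rw [zmultiplesHom_apply, natCast_zsmul, ← ofMul_pow]
      exact congrArg Additive.ofMul (Units.ext ((Units.val_pow_eq_pow_val _ _).trans (haN i)))⟩
  let ψ : (Fin r → ZMod N) →+ Additive Rˣ := ∑ i, (u i).comp (Pi.evalAddMonoidHom _ i)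
  let χ : Multiplicative (Fin r → ZMod N) →* R :=
    (Units.coeHom R).comp (AddMonoidHom.toMultiplicativeLeft ψ)
  obtain ⟨y, hy⟩ := HomDiag.exists_ch (S := Spec (CommRingCat.of k)) χ
  refine ⟨y, HomDiag.ch_ext fun v => ?_⟩
  have hχ : ∀ i, χ (e i) = a i := by
    intro i
    have h1 : ψ (Pi.single i 1) = Additive.ofMul (hu i).unit := by
      simp only [ψ, AddMonoidHom.finsetSum_apply, AddMonoidHom.comp_apply, Pi.evalAddMonoidHom_apply]
      rw [Finset.sum_eq_single i (fun j _ hj => by rw [Pi.single_eq_of_ne hj, map_zero])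
        (fun h => absurd (Finset.mem_univ i) h), Pi.single_eq_same]
      have h2 := ZMod.lift_coe N ⟨(zmultiplesHom (Additive Rˣ)) (Additive.ofMul (hu i).unit), by
        rw [zmultiplesHom_apply, natCast_zsmul, ← ofMul_pow]
        exact congrArg Additive.ofMul (Units.ext ((Units.val_pow_eq_pow_val _ _).trans (haN i)))⟩ 1
      rw [Int.cast_one] at h2
      exact h2.trans (by simp)
    show ((ψ (Pi.single i 1)).toMul : R) = a i
    rw [h1]
    exact (hu i).unit_spec
  have hgen : ∀ f g : Multiplicative (Fin r → ZMod N) →* R, (∀ i, f (e i) = g (e i)) → f = g := by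
    intro f g hfg
    refine MonoidHom.ext fun v => ?_
    have hv : v = ∏ i, e i ^ (v.toAdd i).val := by
      refine Multiplicative.toAdd.injective (funext fun j => ?_)
      simp [e, toAdd_prod, Finset.sum_apply, Pi.single_apply, -ZMod.natCast_val, ZMod.natCast_zmod_val]
    rw [hv, map_prod, map_prod]
    exact Finset.prod_congr rfl fun i _ => by rw [map_pow, map_pow, hfg]
  exact DFunLike.congr_fun (hgen (HomDiag.ch (y ^ d)) (HomDiag.ch x) fun i => by rw [hchn, hy, hχ, ha]) v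

end Groth.Agent.TorScheme
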