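import Groth.Agent.TorScheme.Chart
import Groth.Agent.MTImage.Sigma
import Groth.Agent.MTImage.DescendTorus

/-!
# Gluing the universal maximal torus
-/

set_option autoImplicit false
set_option linter.style.haveILetI false
set_option linter.unusedSectionVars false
set_option backward.isDefEq.respectTransparency false
set_option maxHeartbeats 4000000
set_option synthInstance.maxHeartbeats 400000

universe u

noncomputable section

open CategoryTheory Limits MonoidalCategory CartesianMonoidalCategory AlgebraicGeometry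
open scoped CategoryTheory.Obj MonObj

namespace Groth.Agent.TorScheme

open Groth.Agent.MTImage Groth.Agent.MTBridge Groth.Agent.GrpSubRep Groth.Agent.Chev

variable {S : Scheme.{u}} {G : Over S} [GrpObj G] [IsAffineHom G.hom] [Smooth G.hom]

/-- Maximal tori on components. -/
theorem exists_maxTorus_sigM {ei : Type u} (Mo : ei → Over S) (Ti : ∀ i, Over (Mo i).left) [hTig : ∀ i, GrpObj (Ti i)]
    (ti : ∀ i, Ti i ⟶ Red.bc (Mo i).hom G) (hti : ∀ i, Red.IsMaximalTorus (ti i)) :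
    ∃ (T : Over (sigM Mo).left) (_ : GrpObj T) (t : T ⟶ Red.bc (sigM Mo).hom G), Red.IsMaximalTorus t ∧
      ∀ (i : ei) (Y : Over S) (g : Y ⟶ G) (y : Y ⟶ Mo i), InK t g (y ≫ inc Mo i) ↔ InK (ti i) g y := by
  let U : ei → Scheme.{u} := fun i => (Mo i).left
  let e : ∀ i, U i ⟶ S := fun i => (Mo i).hom
  let G' := Red.bc (Sigma.desc e) G
  haveI : LocallyOfFiniteType G'.hom := inferInstanceAs (LocallyOfFiniteType (pullback.snd G.hom (Sigma.desc e)))
  haveI : QuasiCompact G'.hom := inferInstanceAs (QuasiCompact (pullback.snd G.hom (Sigma.desc e)))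
  choose ee hee heem using fun i => exists_pullIso (G := G) (inc Mo i)
  let ψ : ∀ i, Red.bc (e i) G ≅ Red.bc (Sigma.ι U i) G' := fun i => (ee i).symm
  have hψm : ∀ i, IsMonHom (ψ i).hom := fun i => by
    haveI := heem i
    exact inferInstanceAs (IsMonHom (ee i).inv)
  let A : ei → Scheme.{u} := fun i => (Ti i).left
  let T : Over (∐ U) := Over.mk (Limits.Sigma.map fun i => (Ti i).hom)
  let t : T ⟶ G' := Over.homMk
    (Sigma.desc fun i => (ti i).left ≫ (ψ i).hom.left ≫ pullback.fst G'.hom (Sigma.ι U i)) (by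
      refine Sigma.hom_ext _ _ fun i => ?_
      show Sigma.ι A i ≫ Sigma.desc _ ≫ G'.hom = Sigma.ι A i ≫ Limits.Sigma.map _
      rw [Sigma.ι_desc_assoc, Limits.Sigma.ι_map, Category.assoc, Category.assoc, pullback.condition,
        ← reassoc_of% (Over.w (ti i)), ← reassoc_of% (Over.w (ψ i).hom)]
      rfl)
  have sq : ∀ i, IsPullback (Sigma.ι A i) (Ti i).hom T.hom (Sigma.ι U i) := fun i =>
    HensPair.isPullback_sigmaMap (fun i => (Ti i).hom) i
  let φ : ∀ i, Ti i ≅ Red.bc (Sigma.ι U i) T := fun i => Over.isoMk (sq i).isoPullback (sq i).isoPullback_hom_snd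
  have key : ∀ i, (φ i).hom ≫ (Over.pullback (Sigma.ι U i)).map t = ti i ≫ (ψ i).hom := fun i => by
    apply Over.OverMorphism.ext
    apply pullback.hom_ext
    · show ((sq i).isoPullback.hom ≫ ((Over.pullback (Sigma.ι U i)).map t).left) ≫ pullback.fst _ _ =
        ((ti i).left ≫ (ψ i).hom.left) ≫ pullback.fst _ _
      simp only [Over.pullback_map_left, Category.assoc, pullback.lift_fst, IsPullback.isoPullback_hom_fst_assoc]
      exact Sigma.ι_desc _ i
    · show ((sq i).isoPullback.hom ≫ ((Over.pullback (Sigma.ι U i)).map t).left) ≫ pullback.snd _ _ =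
        ((ti i).left ≫ (ψ i).hom.left) ≫ pullback.snd _ _
      simp only [Over.pullback_map_left, Category.assoc, pullback.lift_snd, IsPullback.isoPullback_hom_snd]
      exact ((congrArg ((ti i).left ≫ ·) (Over.w (ψ i).hom)).trans (Over.w (ti i))).symm
  have hm : ∀ i, (Over.pullback (Sigma.ι U i)).map t = (φ i).inv ≫ ti i ≫ (ψ i).hom := fun i => by
    rw [← key, Iso.inv_hom_id_assoc]
  have hmono : ∀ i, Mono ((Over.pullback (Sigma.ι U i)).map t) := fun i => by
    haveI := (hti i).2.1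
    rw [hm]
    infer_instance
  haveI : Mono t := ⟨fun a b hab => hom_ext_components a b fun i => toBC_inj (Sigma.ι U i) (by
    haveI := hmono i
    rw [← cancel_mono ((Over.pullback (Sigma.ι U i)).map t), ← toBC_comp, ← toBC_comp, Category.assoc,
      Category.assoc, hab])⟩
  haveI : Mono t.left := inferInstance
  have hlift : ∀ {X : Over (∐ U)} (g : X ⟶ G'), (∀ i, ∃ y : Red.bc (Sigma.ι U i) X ⟶ Ti i,
      y ≫ ti i ≫ (ψ i).hom = toBC (Sigma.ι U i) (counit i X ≫ g)) → ∃ z, z ≫ t = g := by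
    intro X g hg
    have ha : ∀ i, ∃ a : (Over.map (Sigma.ι U i)).obj (Red.bc (Sigma.ι U i) X) ⟶ T,
        a ≫ t = counit i X ≫ g := fun i => by
      obtain ⟨y, hy⟩ := hg i
      obtain ⟨a, ha⟩ := exists_toBC (Sigma.ι U i) (y ≫ (φ i).hom)
      exact ⟨a, toBC_inj (Sigma.ι U i) (by rw [toBC_comp, ha, Category.assoc, key, hy])⟩
    choose a ha using ha
    let 𝒰 := (sigmaOpenCover U).pullback₁ X.hom
    have hcompat : ∀ i j, pullback.fst (𝒰.f i) (𝒰.f j) ≫ (a i).left = pullback.snd _ _ ≫ (a j).left := fun i j => by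
      rw [← cancel_mono t.left, Category.assoc, Category.assoc, ← Over.comp_left, ← Over.comp_left, ha, ha]
      show _ ≫ (𝒰.f i ≫ g.left) = _ ≫ (𝒰.f j ≫ g.left)
      rw [pullback.condition_assoc]
    let z := Scheme.Cover.glueMorphisms 𝒰 (fun i => (a i).left) hcompat
    have hz : ∀ i, 𝒰.f i ≫ z = (a i).left := fun i => Scheme.Cover.ι_glueMorphisms 𝒰 _ hcompat i
    refine ⟨Over.homMk z (Scheme.Cover.hom_ext 𝒰 _ _ fun i => ?_), Over.OverMorphism.ext
      (Scheme.Cover.hom_ext 𝒰 _ _ fun i => ?_)⟩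
    · rw [reassoc_of% (hz i)]
      exact Over.w (a i) |>.trans pullback.condition.symm
    · show 𝒰.f i ≫ z ≫ t.left = _
      rw [reassoc_of% (hz i)]
      exact congrArg (fun w => w.left) (ha i)
  obtain ⟨hTg, htm⟩ := SubGen.Spread.exists_grpObj_of_div t
    (hlift _ fun i => ⟨1, by
      haveI := (hti i).1; haveI := hψm i
      rw [MonObj.one_comp, show (η[G'] : 𝟙_ _ ⟶ G') = 1 by
        rw [Hom.one_def, toUnit_unit, Category.id_comp], MonObj.comp_one, MTKernel.toBC_one]⟩)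
    (hlift _ fun i => ⟨((toBC (Sigma.ι U i) (counit i _ ≫ fst T T) ≫ (φ i).inv)⁻¹ *
        (toBC (Sigma.ι U i) (counit i _ ≫ snd T T) ≫ (φ i).inv)), by
      haveI := (hti i).1; haveI := hψm i
      rw [MonObj.mul_comp, GrpObj.inv_comp, MonObj.comp_mul, GrpObj.comp_inv, toBC_mul, toBC_inv, Category.assoc,
        Category.assoc, ← hm, ← toBC_comp, ← toBC_comp, Category.assoc, Category.assoc]⟩)
  haveI := htm
  haveI : ∀ i, IsMonHom (φ i).hom := fun i => by
    haveI := (hti i).1; haveI := hψm i; haveI := hmono i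
    exact MTSplit.isMonHom_of_comp_mono _ _ _ (key i)
  have hTt : Red.IsTorus T := by
    choose S' f hff hfs hfc hfl using fun i => (hti i).2.2.1
    have eF : ∀ i, Sigma.ι S' i ≫ Limits.Sigma.map f = f i ≫ Sigma.ι U i := Limits.Sigma.ι_map f
    refine ⟨∐ S', Limits.Sigma.map f, ?_, ?_, exists_compact_cover_sigma f hfc, ?_⟩
    · have h' : ∀ i, Flat (f i ≫ Sigma.ι U i) := fun i => by haveI := hff i; infer_instance
      have hd := IsZariskiLocalAtSource.sigmaDesc (P := @Flat) h'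
      convert hd using 1
      exact Sigma.hom_ext _ _ fun i => by rw [eF, Sigma.ι_desc]
    · refine ⟨fun x => ?_⟩
      obtain ⟨i, y, rfl⟩ : ∃ i, ∃ y : U i, Sigma.ι U i y = x := (sigmaOpenCover U).exists_eq x
      obtain ⟨z, rfl⟩ := (hfs i).surj y
      exact ⟨Sigma.ι S' i z, by rw [← Scheme.Hom.comp_apply, eF, Scheme.Hom.comp_apply]⟩
    · intro x
      obtain ⟨i, z, rfl⟩ : ∃ i, ∃ z : S' i, Sigma.ι S' i z = x := (sigmaOpenCover S').exists_eq x
      obtain ⟨V, hzV, r, hsp⟩ := hfl i z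
      refine ⟨Sigma.ι S' i ''ᵁ V, ⟨z, hzV, rfl⟩, r, ?_⟩
      obtain ⟨e'⟩ := nonempty_bc_split (H := Ti i) hsp ((Sigma.ι S' i).isoImage V).inv
      have heq : (((Sigma.ι S' i).isoImage V).inv ≫ V.ι ≫ f i) ≫ Sigma.ι U i =
          (Sigma.ι S' i ''ᵁ V).ι ≫ Limits.Sigma.map f := by
        rw [← (Sigma.ι S' i).isoImage_inv_ι V, Category.assoc, Category.assoc, Category.assoc, Category.assoc, eF]
      exact ⟨bcCongr heq.symm T ≪≫ bcComp (Sigma.ι U i) (((Sigma.ι S' i).isoImage V).inv ≫ V.ι ≫ f i) T ≪≫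
        bcMapIso _ (Grp.mkIso' (φ i)).symm ≪≫ e'⟩
  refine ⟨T, hTg, t, ⟨htm, inferInstance, hTt, fun x => ?_⟩, fun i Y g y => ?_⟩
  swap
  · have h : (φ i).hom ≫ MTDescent.pullMap t (inc Mo i) = ti i := by
      rw [pullMap_eq, ← hee i]
      show (φ i).hom ≫ (Over.pullback (Sigma.ι U i)).map t ≫ (ee i).hom = ti i
      rw [reassoc_of% (key i)]
      show ti i ≫ (ee i).inv ≫ (ee i).hom = ti i
      rw [Iso.inv_hom_id, Category.comp_id]
    rw [← h, inK_iso (φ i) _ g y, inK_pullMap_iff]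
  obtain ⟨i, y, rfl⟩ : ∃ i, ∃ y : U i, Sigma.ι U i y = x := (sigmaOpenCover U).exists_eq x
  haveI := hψm i
  exact isMaximalAt_of_bc (Sigma.ι U i) t hTt (isMaximalTorus_iso (φ i) (ψ i) (ti i) _ (key i).symm
    (Borel.isTorus_bc_scheme T (Sigma.ι U i) hTt) (hti i)) y

/-- **Maximal tori with a given system glue.** -/
theorem exists_glue {r : S → ℕ} (hrk : HasRank G r) {P : Over S} (L : ℕ → (P ⟶ Par G)) {ei : Type u} (O : ei → P.left.Opens)
    (hO : ∀ p : P.left, ∃ i, p ∈ O i)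
    (h : ∀ i, ∃ (T : Over (O i : Scheme.{u})) (_ : GrpObj T) (t : T ⟶ Red.bc (Over.mk ((O i).ι ≫ P.hom)).hom G),
      Red.IsMaximalTorus t ∧ ∀ k, IsTorsOf (X := Over.mk ((O i).ι ≫ P.hom)) t (ord k)
        ((Over.homMk (O i).ι : Over.mk ((O i).ι ≫ P.hom) ⟶ P) ≫ L k)) :
    ∃ (T : Over P.left) (_ : GrpObj T) (i : T ⟶ Red.bc P.hom G),
      Red.IsMaximalTorus i ∧ ∀ k, IsTorsOf i (ord k) (L k) := by
  let Mo : ei → Over S := fun i => Over.mk ((O i).ι ≫ P.hom)
  let ιO : ∀ i, Mo i ⟶ P := fun i => Over.homMk (O i).ι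
  choose Ti hTig ti hti htiL using h
  letI hTig' : ∀ i, @GrpObj (Over (Mo i).left) _ _ (Ti i) := hTig
  obtain ⟨T₁, hT₁g, t, ht, htI⟩ := exists_maxTorus_sigM (G := G) Mo (fun i => Ti i) ti hti
  haveI := ht.1; haveI := ht.2.1
  obtain ⟨τ, hτs, hτ⟩ := exists_system (X := sigM Mo) hrk t ht
  let π : sigM Mo ⟶ P := Over.homMk (Sigma.desc fun i => (O i).ι) (by
    refine Sigma.hom_ext _ _ fun i => ?_
    simp [sigM, Mo])
  have hπi : ∀ i, inc Mo i ≫ π = ιO i := fun i => Over.OverMorphism.ext (Sigma.ι_desc _ _)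
  have hτπ : ∀ k, τ k = π ≫ L k := by
    intro k
    refine Over.OverMorphism.ext (Sigma.hom_ext _ _ fun i => ?_)
    have e1 : inc Mo i ≫ τ k = ιO i ≫ L k := by
      refine IsTorsOf.eq (X := Mo i) (i := ti i) ?_ (htiL i k)
      intro Y g y
      rw [← Category.assoc, hτ k Y g (y ≫ inc Mo i), htI i Y g y]
    rw [← hπi i, Category.assoc] at e1
    exact congrArg CommaMorphism.left e1
  obtain ⟨e, he, hem⟩ := exists_pullIso (G := G) π
  haveI := hem
  haveI : IsMonHom e.inv := inferInstance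
  haveI : IsMonHom e.symm.hom := inferInstanceAs (IsMonHom e.inv)
  haveI : IsMonHom (Iso.refl T₁).hom := inferInstanceAs (IsMonHom (𝟙 T₁))
  let GP := Red.bc P.hom G
  haveI : IsAffineHom GP.hom := isAffineHom_bc' P
  haveI : Smooth GP.hom := inferInstanceAs (Smooth (pullback.snd G.hom P.hom))
  let f := π.left
  let i' : T₁ ⟶ Red.bc f GP := t ≫ e.inv
  have hi' : Red.IsMaximalTorus i' := MTImage.isMaximalTorus_iso (Iso.refl T₁) e.symm t i'
    (by rw [Iso.refl_hom, Category.id_comp, Iso.symm_hom]) ht.2.2.1 ht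
  haveI := hi'.1; haveI := hi'.2.1
  haveI : Mono i'.left := inferInstanceAs (Mono ((Over.forget _).map i'))
  haveI hfs : Surjective f := ⟨fun p => by
    obtain ⟨i, hi⟩ := hO p
    refine ⟨Sigma.ι (fun i => (Mo i).left) i ⟨p, hi⟩, ?_⟩
    exact (congr($(Sigma.ι_desc (fun i => (O i).ι) i) ⟨p, hi⟩) :)⟩
  haveI hff : Flat f := IsZariskiLocalAtSource.sigmaDesc (P := @Flat) fun i => inferInstanceAs (Flat (O i).ι)
  haveI : LocallyOfFinitePresentation f :=
    IsZariskiLocalAtSource.sigmaDesc (P := @LocallyOfFinitePresentation) fun i => inferInstanceAs (LocallyOfFinitePresentation (O i).ι)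
  haveI : UniversallyOpen f := UniversallyOpen.of_flat f
  have hopen : IsOpenMap f.base := f.isOpenMap
  have hcov : ∀ V : P.left.Opens, IsAffineOpen V → ∃ W : (sigM Mo).left.Opens,
      IsCompact (W : Set (sigM Mo).left) ∧ f.base '' (W : Set (sigM Mo).left) = (V : Set P.left) := fun V hV =>
    MTImage.exists_compact_lift_open f hopen V hV.isCompact (fun y _ => hfs.surj y)
  haveI : IsAffineHom (i'.left ≫ pullback.snd GP.hom f) := by
    rw [show i'.left ≫ pullback.snd GP.hom f = T₁.hom from Over.w i']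
    exact MTBridge.isAffineHom T₁ (MTBridge.isMultTypeFT_of_isTorus T₁ ht.2.2.1)
  have hkp : ∀ {W : Scheme.{u}} (w₁ w₂ : W ⟶ pullback GP.hom f),
      w₁ ≫ pullback.fst GP.hom f = w₂ ≫ pullback.fst GP.hom f →
      (∃ l, l ≫ i'.left = w₁) → ∃ l, l ≫ i'.left = w₂ := by
    intro W w₁ w₂ hw hl
    haveI : IsIso e.hom.left := inferInstanceAs (IsIso ((Over.forget _).map e.hom))
    let WO : Over S := Over.mk (w₁ ≫ pullback.fst GP.hom f ≫ pullback.fst G.hom P.hom ≫ G.hom)
    let gW : WO ⟶ G := Over.homMk (w₁ ≫ pullback.fst GP.hom f ≫ pullback.fst G.hom P.hom)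
      (by simp [WO])
    have hsec : ∀ w : W ⟶ pullback GP.hom f, w ≫ pullback.fst GP.hom f = w₁ ≫ pullback.fst GP.hom f →
        ∃ y : WO ⟶ sigM Mo, y.left = w ≫ pullback.snd GP.hom f ∧ pt₂ gW y = w ≫ e.hom.left := by
      intro w hwf
      refine ⟨Over.homMk (w ≫ pullback.snd GP.hom f) ?_, rfl, ?_⟩
      · show (w ≫ pullback.snd GP.hom f) ≫ (sigM Mo).hom = w₁ ≫ _
        rw [← Over.w π, Category.assoc, ← pullback.condition_assoc, reassoc_of% hwf]
        congr 2
        exact pullback.condition.symm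
      · rw [he]
        apply pullback.hom_ext
        · simp only [pt₂, pullback.lift_fst, MTDescent.pullMap, Over.homMk_left, Category.assoc, Over.id_left,
            Category.id_comp]
          exact ((reassoc_of% hwf) _).symm
        · simp [pt₂, MTDescent.pullMap]
          rfl
    obtain ⟨y₁, hy₁, hp₁⟩ := hsec w₁ rfl
    obtain ⟨y₂, hy₂, hp₂⟩ := hsec w₂ hw.symm
    have hti : i'.left ≫ e.hom.left = t.left := by
      rw [← Over.comp_left]; simp [i']
    obtain ⟨l, hl⟩ := hl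
    have h₁ : InK t gW y₁ := ⟨l, by rw [← hti, reassoc_of% hl, hp₁]⟩
    have hyy : y₁ ≫ π = y₂ ≫ π := by
      apply Over.OverMorphism.ext
      rw [Over.comp_left, Over.comp_left, hy₁, hy₂, Category.assoc, Category.assoc]
      show w₁ ≫ pullback.snd GP.hom f ≫ f = w₂ ≫ pullback.snd GP.hom f ≫ f
      rw [← pullback.condition, reassoc_of% hw]
    haveI := MTDescent.isMonHom_pullMap t y₁
    haveI := MTDescent.isMonHom_pullMap t y₂
    haveI := (isMaximalTorus_pullMap t ht y₁).2.1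
    haveI := (isMaximalTorus_pullMap t ht y₂).2.1
    have h₂' := inK_iff_of_torsOf (MTDescent.pullMap t y₁) (MTDescent.pullMap t y₂)
      (Borel.isTorus_bc_scheme T₁ y₁.left ht.2.2.1) (Borel.isTorus_bc_scheme T₁ y₂.left ht.2.2.1)
      (h := fun k => ⟨y₁ ≫ τ k, (hτ k).pullMap y₁, by
        rw [hτπ k, reassoc_of% hyy, ← hτπ k]
        exact (hτ k).pullMap y₂⟩) gW (𝟙 WO)
    rw [inK_pullMap_iff, inK_pullMap_iff, Category.id_comp, Category.id_comp] at h₂'
    obtain ⟨l', hl'⟩ := h₂'.1 h₁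
    exact ⟨l', by rw [← cancel_mono e.hom.left, Category.assoc, hti, hl', hp₂]⟩
  obtain ⟨Y, m, hm, eY, heY⟩ := MTDescent.exists_descend_affine_mono f hcov GP i'.left hkp
  haveI : Flat (Over.mk f).hom := hff
  haveI : Surjective (Over.mk f).hom := hfs
  obtain ⟨hg, i, hi, hil, hHm, φ, hφ⟩ := MTDescent.exists_subgroup_of_descended (B := Over.mk f) hcov
    (MTBridge.isMultTypeFT_of_isTorus T₁ ht.2.2.1) i' m hm eY heY
  haveI := hi
  replace hφ : φ.hom ≫ i' = (Over.pullback f).map i := hφ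
  let T := Over.mk (m ≫ GP.hom)
  haveI : Mono i.left := by rw [hil]; exact hm
  haveI : Mono i := Over.mono_of_mono_left i
  haveI : PreservesLimitsOfShape WalkingCospan (Over.pullback f) :=
    (Adjunction.rightAdjoint_preservesLimits (Over.mapPullbackAdj f)).preservesLimitsOfShape
  haveI : IsMonHom φ.hom := MTSplit.isMonHom_of_comp_mono φ.hom i' ((Over.pullback f).map i) hφ
  have hTt : Red.IsTorus T := by
    obtain ⟨S'', g', hf', hs', hlift, hloc⟩ := hi'.2.2.1
    haveI := hf'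
    haveI := hs'
    refine ⟨S'', g' ≫ f, inferInstance, inferInstance, MTDescent.cov_comp g' f hlift hcov, fun s => ?_⟩
    obtain ⟨V, hV, r', ⟨eM⟩⟩ := hloc s
    exact ⟨V, hV, r', ⟨MTBridge.bcCongr (Category.assoc V.ι g' f).symm T ≪≫
      MTBridge.bcComp f (V.ι ≫ g') T ≪≫ MTBridge.bcMapIso (V.ι ≫ g') (Grp.mkIso' φ) ≪≫ eM⟩⟩
  have hT : Red.IsMaximalTorus i := MaxTorusBC.isMaximalTorus_descend f i hTt (by
    rw [← hφ]
    exact Groth.Agent.S8433.isMaximalTorus_of_iso_left φ i' (Borel.isTorus_bc_scheme T f hTt) hi')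
  refine ⟨T, hg, i, hT, fun k => ?_⟩
  obtain ⟨τP, -, hτP⟩ := exists_system (X := P) hrk i hT
  suffices hk : τP k = L k by rw [← hk]; exact hτP k
  have hπτ : π ≫ τP k = π ≫ L k := by
    rw [← hτπ k]
    have hpm : φ.hom ≫ t = MTDescent.pullMap i π := by
      rw [pullMap_eq, ← he]
      show φ.hom ≫ t = (Over.pullback f).map i ≫ e.hom
      rw [← hφ]
      simp [i']
    refine IsTorsOf.eq (X := sigM Mo) (i := t) ?_ (hτ k)
    intro Y g y
    rw [← Category.assoc, hτP k Y g (y ≫ π), ← inK_pullMap_iff i π g y, ← hpm]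
    exact and_congr (inK_iso (M := sigM Mo) φ t g y) Iff.rfl
  apply Over.OverMorphism.ext
  haveI : Epi f := Flat.epi_of_flat_of_surjective f
  exact (cancel_epi f).1 (congrArg CommaMorphism.left hπτ)

end Groth.Agent.TorScheme
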