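import Groth.Agent.LimExist.Basic

/-!
# The limit of a tower of schemes affine over a base
-/

set_option autoImplicit false
set_option linter.style.haveILetI false
set_option backward.isDefEq.respectTransparency false

universe u

open CategoryTheory Limits AlgebraicGeometry Opposite

noncomputable section

namespace Groth.Agent.TorScheme

variable {S : Scheme.{u}}

/-- A tower of schemes affine over the base has a limit affine over the base. -/
theorem exists_tower_limit (M : ℕ → Over S) (τ : ∀ k, M (k + 1) ⟶ M k) (h : ∀ k, IsAffineHom (M k).hom) :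
    ∃ (P : Over S) (π : ∀ k, P ⟶ M k), IsAffineHom P.hom ∧ (∀ k, π (k + 1) ≫ τ k = π k) ∧
      ∀ (X : Over S) (x : ∀ k, X ⟶ M k), (∀ k, x (k + 1) ≫ τ k = x k) → ∃! a : X ⟶ P, ∀ k, a ≫ π k = x k := by
  let F : ℕᵒᵖ ⥤ Over S := Functor.ofOpSequence τ
  let D : (ULift.{u} ℕ)ᵒᵖ ⥤ Scheme.{u} :=
    (show Monotone (ULift.down : ULift.{u} ℕ → ℕ) from fun _ _ h => h).functor.op ⋙ F ⋙ Over.forget S
  haveI : ∀ (i j : (ULift.{u} ℕ)ᵒᵖ) (f : i ⟶ j), IsAffineHom (D.map f) := fun i j f => by
    let g := F.map (homOfLE (show j.unop.down ≤ i.unop.down from leOfHom (X := ULift.{u} ℕ) f.unop)).op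
    show IsAffineHom g.left
    haveI : IsAffineHom (g.left ≫ (M j.unop.down).hom) := by
      rw [show g.left ≫ (M j.unop.down).hom = (M i.unop.down).hom from Over.w g]
      exact h _
    haveI := h j.unop.down
    exact IsAffineHom.of_comp g.left (M j.unop.down).hom
  haveI := LimExist.hasLimit D
  have hstep : ∀ k, D.map (homOfLE (show (⟨k⟩ : ULift.{u} ℕ) ≤ ⟨k + 1⟩ from Nat.le_succ k)).op = (τ k).left :=
    fun k => congrArg CommaMorphism.left (Functor.ofOpSequence_map_homOfLE_succ τ k)
  let p : ∀ k, limit D ⟶ (M k).left := fun k => limit.π D (op ⟨k⟩)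
  have hp : ∀ k, p (k + 1) ≫ (τ k).left = p k := fun k => by
    rw [← hstep]
    exact limit.w D _
  let P : Over S := Over.mk (p 0 ≫ (M 0).hom)
  have hw : ∀ k, p k ≫ (M k).hom = P.hom := fun k => by
    induction k with
    | zero => rfl
    | succ k ih => rw [← ih, ← hp k, Category.assoc, Over.w (τ k)]
  let π : ∀ k, P ⟶ M k := fun k => Over.homMk (p k) (hw k)
  refine ⟨P, π, ?_, fun k => Over.OverMorphism.ext (hp k), fun X x hx => ?_⟩
  · haveI : IsAffineHom (p 0) := isAffineHom_π_app D _ (limit.isLimit D) (op ⟨0⟩)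
    haveI := h 0
    show IsAffineHom (p 0 ≫ (M 0).hom)
    infer_instance
  let app : ∀ i : (ULift.{u} ℕ)ᵒᵖ, X.left ⟶ D.obj i := fun i => (x i.unop.down).left
  have hnat : ∀ (a b : ℕ) (hab : a ≤ b), (x b).left ≫ (F.map (homOfLE hab).op).left = (x a).left := by
    intro a b hab
    induction b, hab using Nat.le_induction with
    | base =>
      rw [show (homOfLE (le_refl a)).op = 𝟙 (op a) from rfl, CategoryTheory.Functor.map_id]
      exact Category.comp_id _
    | succ b hb ih =>
      rw [show (homOfLE (Nat.le_succ_of_le hb)).op = (homOfLE (Nat.le_succ b)).op ≫ (homOfLE hb).op from rfl,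
        CategoryTheory.Functor.map_comp, Over.comp_left,
        show F.map (homOfLE (Nat.le_succ b)).op = τ b from Functor.ofOpSequence_map_homOfLE_succ τ b,
        ← Category.assoc, ← Over.comp_left, hx b, ih]
  let c : Cone D :=
    { pt := X.left
      π :=
        { app := app
          naturality := fun i j f => by
            show 𝟙 X.left ≫ app j = app i ≫ _
            rw [Category.id_comp]
            exact (hnat _ _ (leOfHom (X := ULift.{u} ℕ) f.unop)).symm } }
  refine ⟨Over.homMk (limit.lift D c) ?_, fun k => Over.OverMorphism.ext (limit.lift_π c (op ⟨k⟩)), fun a ha => ?_⟩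
  · show limit.lift D c ≫ p 0 ≫ (M 0).hom = X.hom
    rw [← Category.assoc, show limit.lift D c ≫ p 0 = (x 0).left from limit.lift_π c (op ⟨0⟩)]
    exact Over.w (x 0)
  · refine Over.OverMorphism.ext (limit.hom_ext fun i => ?_)
    exact (congrArg CommaMorphism.left (ha i.unop.down)).trans (limit.lift_π c i).symm

end Groth.Agent.TorScheme
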