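import Groth.Agent.TorScheme.Types
import Groth.Agent.TorScheme.Limit

/-!
# Compatible systems of torsion subgroups of a given rank
-/

set_option autoImplicit false
set_option linter.style.haveILetI false
set_option linter.unusedSectionVars false
set_option backward.isDefEq.respectTransparency false
set_option maxHeartbeats 1000000
set_option synthInstance.maxHeartbeats 400000

universe u

open CategoryTheory Limits MonoidalCategory CartesianMonoidalCategory AlgebraicGeometry
open scoped CategoryTheory.Obj MonObj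

noncomputable section

namespace Groth.Agent.TorScheme

open Groth.Agent.MTBridge Groth.Agent.GrpSubRep

/-- The orders of the torsion subgroups. -/
def ord (k : ℕ) : ℕ := (k + 2).factorial

instance neZero_ord (k : ℕ) : NeZero (ord k) := ⟨Nat.factorial_ne_zero _⟩

theorem ord_pos (k : ℕ) : 0 < ord k := Nat.factorial_pos _

theorem ord_dvd {k l : ℕ} (h : k ≤ l) : ord k ∣ ord l := Nat.factorial_dvd_factorial (by omega)

theorem dvd_ord {n k : ℕ} (hn : 0 < n) (h : n ≤ k + 2) : n ∣ ord k := Nat.dvd_factorial hn h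

/-- The type of the torsion of a torus of rank `r`. -/
def tnum (r k : ℕ) : Typ.{u} := (Typ.exists_equiv.{u} (Fin r → ZMod (ord k))).choose

theorem tnum_equiv (r k : ℕ) : Nonempty ((tnum.{u} r k).Car ≃+ (Fin r → ZMod (ord k))) :=
  (Typ.exists_equiv.{u} (Fin r → ZMod (ord k))).choose_spec

variable {S : Scheme.{u}} {G : Over S} [GrpObj G] [IsAffineHom G.hom] [LocallyOfFinitePresentation G.hom]

/-- The family has the type of the `ord k`-torsion of tori of rank `r`. -/
def HasStage (r : S → ℕ) (k : ℕ) {X : Over S} (v : X ⟶ Par G) : Prop :=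
  ∀ z : X.left, typ (v.left z) = tnum (r (X.hom z)) k

/-- The second family is the `n`-torsion of the first. -/
def IsTors (n : ℕ) {X : Over S} (v v' : X ⟶ Par G) : Prop :=
  ∀ (Y : Over S) (g : Y ⟶ G) (t : Y ⟶ X), InK (uj G) g (t ≫ v') ↔ InK (uj G) g (t ≫ v) ∧ g ^ n = 1

theorem HasStage.comp {r : S → ℕ} {k : ℕ} {X Y : Over S} {v : X ⟶ Par G} (h : HasStage r k v) (a : Y ⟶ X) :
    HasStage r k (a ≫ v) := fun z => by
  show typ (v.left (a.left z)) = _
  rw [h (a.left z), show X.hom (a.left z) = Y.hom z from congr($(Over.w a) z)]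

theorem IsTors.comp {n : ℕ} {X Y : Over S} {v v' : X ⟶ Par G} (h : IsTors n v v') (a : Y ⟶ X) :
    IsTors n (a ≫ v) (a ≫ v') := fun Z g t => by simpa only [Category.assoc] using h Z g (t ≫ a)

theorem IsTors.eq {n : ℕ} {X : Over S} {v v' v'' : X ⟶ Par G} (h : IsTors n v v') (h' : IsTors n v v'') :
    v' = v'' := eq_of_inK_iff G _ _ fun Y g t => (h Y g t).trans (h' Y g t).symm

theorem IsTors.trans {m n : ℕ} (hmn : m ∣ n) {X : Over S} {v v' v'' : X ⟶ Par G} (h : IsTors n v v')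
    (h' : IsTors m v' v'') : IsTors m v v'' := fun Y g t => by
  rw [h' Y g t, h Y g t, and_assoc]
  refine and_congr_right fun _ => ⟨fun hg => hg.2, fun hg => ⟨?_, hg⟩⟩
  obtain ⟨c, rfl⟩ := hmn
  rw [pow_mul, hg, one_pow]

/-- The type of the torsion. -/
theorem typ_of_isTors {n N : ℕ} [NeZero N] [NeZero n] (hnN : n ∣ N) {r : ℕ} {X : Over S} {v v' : X ⟶ Par G}
    (h : IsTors n v v') (z : X.left) (hz : Nonempty ((typ (v.left z)).Car ≃+ (Fin r → ZMod N))) :
    Nonempty ((typ (v'.left z)).Car ≃+ (Fin r → ZMod n)) := by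
  let c := Red.geomPt z ≫ X.hom
  let a : Over.mk c ⟶ X := Over.homMk (Red.geomPt z)
  have hza : a.left (IsLocalRing.closedPoint _) = z := geomPt_closedPoint z
  let w : Over.mk c ⟶ Par G := a ≫ v
  let w' : Over.mk c ⟶ Par G := a ≫ v'
  obtain ⟨f⟩ := hz
  obtain ⟨e⟩ := nonempty_iso_DS_geom w
  obtain ⟨e'⟩ := nonempty_iso_DS_geom w'
  have hw : typ (w.left (IsLocalRing.closedPoint _)) = typ (v.left z) := by
    show typ (v.left (a.left _)) = _; rw [hza]
  have hw' : typ (w'.left (IsLocalRing.closedPoint _)) = typ (v'.left z) := by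
    show typ (v'.left (a.left _)) = _; rw [hza]
  rw [hw] at e
  rw [hw'] at e'
  obtain ⟨K', hK'g, k, hk, hkc, -, hpts⟩ := exists_torsion_sub (isMultTypeFT_bc (UK G) w.left isMultTypeFT_UK) n
  haveI := hk
  haveI := hkc
  haveI : Mono k.left := inferInstance
  haveI : Mono k := Over.mono_of_mono_left k
  haveI := isMonHom_pullUK w
  haveI := isMonHom_pullUK w'
  haveI := mono_pullUK w
  haveI := mono_pullUK w'
  haveI : Finite (typ (v.left z)).Car := Finite.of_equiv _ f.symm.toEquiv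
  haveI : AddGroup.FG (typ (v.left z)).Car := inferInstance
  obtain ⟨d⟩ := nonempty_iso_DS_torsion e n k hpts
  obtain ⟨d'⟩ := nonempty_grpIso_of_inK_iff (M := Over.mk c) (k ≫ pullUK w) (pullUK w') fun Y g t => by
    rw [inK_torsion_iff (pullUK w) n k hpts g t, inK_pullMap_iff, inK_pullMap_iff]
    exact ((h.comp a) Y g t).symm
  obtain ⟨θ⟩ := nonempty_addEquiv_of_iso (e'.symm ≪≫ d'.symm ≪≫ d)
  obtain ⟨q⟩ := nonempty_quot_zmod hnN r
  have hr : (nsmulAddMonoidHom n : (typ (v.left z)).Car →+ _).range.map f.toAddMonoidHom =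
      (nsmulAddMonoidHom n : (Fin r → ZMod N) →+ _).range := by
    ext y
    constructor
    · rintro ⟨_, ⟨a', rfl⟩, rfl⟩
      exact ⟨f a', (map_nsmul f n a').symm⟩
    · rintro ⟨b, rfl⟩
      exact ⟨_, ⟨f.symm b, rfl⟩, by simp⟩
  exact ⟨θ.trans ((QuotientAddGroup.congr _ _ f hr).trans q)⟩

theorem HasStage.tors {r : S → ℕ} {k l : ℕ} (hkl : k ≤ l) {X : Over S} {v v' : X ⟶ Par G} (h : HasStage r l v)
    (h' : IsTors (ord k) v v') : HasStage r k v' := fun z => by
  obtain ⟨f⟩ := typ_of_isTors (ord_dvd hkl) h' z (by rw [h z]; exact tnum_equiv _ l)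
  obtain ⟨e⟩ := tnum_equiv.{u} (r (X.hom z)) k
  exact Typ.eq_of_equiv (f.trans e.symm)

variable (G) in
/-- The open set of the families of a given stage. -/
theorem exists_stage (r : S → ℕ) (hr : IsLocallyConstant r) (k : ℕ) :
    ∃ U : (Par G).left.Opens, IsAffineHom (U.ι ≫ (Par G).hom) ∧
      ∀ m, m ∈ U ↔ typ m = tnum (r ((Par G).hom m)) k := by
  let Sr : ℕ → S.Opens := fun d => ⟨r ⁻¹' {d}, hr.isOpen_fiber d⟩
  let Up : (Par G).left.Opens := ⨆ d, comp G (tnum d k) ⊓ (Par G).hom ⁻¹ᵁ Sr d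
  have hUp : ∀ m, m ∈ Up ↔ typ m = tnum (r ((Par G).hom m)) k := by
    intro m
    constructor
    · intro h
      obtain ⟨d, h₁, h₂⟩ := TopologicalSpace.Opens.mem_iSup.1 h
      rw [(mem_comp_iff _ m).1 h₁, show r ((Par G).hom m) = d from h₂]
    · intro h
      exact TopologicalSpace.Opens.mem_iSup.2 ⟨_, (mem_comp_iff _ m).2 h, rfl⟩
  refine ⟨Up, isAffineHom_of_forall_exists_isAffineOpen _ fun s => ?_, hUp⟩
  obtain ⟨V, hV, hsV, hVS⟩ := exists_isAffineOpen_mem_and_subset (U := Sr (r s)) (x := s) rfl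
  refine ⟨V, hsV, hV, ?_⟩
  let j := tnum.{u} (r s) k
  let ιj := Sigma.ι (fun i : Typ.{u} => (piece G i).Mo.left) j
  haveI := (piece G j).affine
  have h1 : IsAffineOpen (ιj ''ᵁ ((piece G j).Mo.hom ⁻¹ᵁ V)) :=
    (hV.preimage (piece G j).Mo.hom).image_of_isOpenImmersion ιj
  have hι : ∀ y, (Par G).hom (ιj y) = (piece G j).Mo.hom y := fun y => by
    show (ιj ≫ Sigma.desc fun i : Typ.{u} => (piece G i).Mo.hom) y = _
    rw [Sigma.ι_desc]
  have hle : ιj ''ᵁ ((piece G j).Mo.hom ⁻¹ᵁ V) ≤ Up := by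
    rintro _ ⟨y, hy, rfl⟩
    refine (hUp _).2 (((mem_comp_iff j (ιj y)).1 ⟨y, rfl⟩).trans ?_)
    exact congrArg (fun d => tnum.{u} d k) ((congrArg r (hι y)).trans (hVS hy)).symm
  have heq : (Up.ι ≫ (Par G).hom) ⁻¹ᵁ V = Up.ι ⁻¹ᵁ (ιj ''ᵁ ((piece G j).Mo.hom ⁻¹ᵁ V)) := by
    ext m
    constructor
    · intro hm
      have hm' : typ (m : Up).1 = j := by
        rw [(hUp (m : Up).1).1 (m : Up).2]
        show tnum _ k = tnum _ k
        congr 1
        exact hVS hm
      obtain ⟨y, hy⟩ := (mem_comp_iff j (m : Up).1).2 hm'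
      refine ⟨y, ?_, hy⟩
      show (piece G j).Mo.hom y ∈ V
      rw [← hι, hy]
      exact hm
    · rintro ⟨y, hy, hym⟩
      show (Par G).hom (Up.ι m) ∈ V
      exact Set.mem_of_eq_of_mem ((congrArg (fun z => (Par G).hom z) hym.symm).trans (hι y)) hy
  rw [heq]
  exact h1.preimage_of_isOpenImmersion Up.ι (by rw [Scheme.Opens.opensRange_ι]; exact hle)

variable (G) in
/-- **The scheme of compatible systems of torsion subgroups.** -/
theorem exists_tower (r : S → ℕ) (hr : IsLocallyConstant r) :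
    ∃ (P : Over S) (L : ℕ → (P ⟶ Par G)), IsAffineHom P.hom ∧ (∀ k, HasStage r k (L k)) ∧
      (∀ k, IsTors (ord k) (L (k + 1)) (L k)) ∧
      ∀ (X : Over S) (x : ℕ → (X ⟶ Par G)), (∀ k, HasStage r k (x k)) → (∀ k, IsTors (ord k) (x (k + 1)) (x k)) →
        ∃! a : X ⟶ P, ∀ k, a ≫ L k = x k := by
  choose U hUa hU using exists_stage G r hr
  let M : ℕ → Over S := fun k => Over.mk ((U k).ι ≫ (Par G).hom)
  let inU : ∀ k, M k ⟶ Par G := fun k => Over.homMk (U k).ι
  have hinU : ∀ k, HasStage r k (inU k) := fun k z => (hU k _).1 z.2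
  have hfac : ∀ (k : ℕ) {X : Over S} (v : X ⟶ Par G), HasStage r k v → ∃ a : X ⟶ M k, a ≫ inU k = v := by
    intro k X v hv
    have hrg : Set.range v.left ⊆ Set.range (U k).ι := by
      rw [(U k).range_ι]
      rintro _ ⟨z, rfl⟩
      refine (hU k _).2 ?_
      rw [hv z, show (Par G).hom (v.left z) = X.hom z from congr($(Over.w v) z)]
    exact ⟨Over.homMk (IsOpenImmersion.lift (U k).ι v.left hrg) (by
      show _ ≫ (U k).ι ≫ (Par G).hom = X.hom
      rw [IsOpenImmersion.lift_fac_assoc]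
      exact Over.w v), Over.OverMorphism.ext (IsOpenImmersion.lift_fac _ _ _)⟩
  have hmono : ∀ k, Mono (inU k) := fun k => (Over.forget S).mono_of_mono_map (inferInstanceAs (Mono (U k).ι))
  choose T hT using fun k => exists_torMap (G := G) (ord k)
  have hT' : ∀ k, IsTors (ord k) (inU (k + 1)) (inU (k + 1) ≫ T k) := fun k Y g t => by
    rw [← Category.assoc]
    exact hT k Y g _
  choose τ hτ using fun k => hfac k (inU (k + 1) ≫ T k) ((hinU (k + 1)).tors (Nat.le_succ k) (hT' k))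
  obtain ⟨P, π, hPa, hπ, hlim⟩ := exists_tower_limit M τ hUa
  refine ⟨P, fun k => π k ≫ inU k, hPa, fun k => (hinU k).comp _, fun k => ?_, fun X x hx₁ hx₂ => ?_⟩
  · show IsTors (ord k) (π (k + 1) ≫ inU (k + 1)) (π k ≫ inU k)
    rw [← hπ k, Category.assoc, hτ k]
    exact (hT' k).comp _
  · choose a ha using fun k => hfac k (x k) (hx₁ k)
    obtain ⟨b, hb, hbu⟩ := hlim X a fun k => by
      haveI := hmono k
      rw [← cancel_mono (inU k), Category.assoc, hτ k, ha k]
      refine IsTors.eq ?_ (hx₂ k)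
      rw [← ha (k + 1)]
      exact (hT' k).comp _
    refine ⟨b, fun k => by dsimp only; rw [← Category.assoc, hb k, ha k], fun c hc => hbu c fun k => ?_⟩
    haveI := hmono k
    rw [← cancel_mono (inU k), Category.assoc, ha k]
    exact hc k

end Groth.Agent.TorScheme
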