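import Groth.Agent.TorScheme.Field
import Groth.Agent.TorScheme.Clopen
import Groth.Agent.S4098
import Groth.Agent.MTImage.CentralLocus
import Groth.Agent.MTImage.CartanFamily

/-!
# The neutral component of the centralizer of the universal finite subgroup
-/

set_option autoImplicit false
set_option linter.style.haveILetI false
set_option linter.unusedSectionVars false
set_option backward.isDefEq.respectTransparency false
set_option maxHeartbeats 2000000
set_option synthInstance.maxHeartbeats 400000

universe u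

open CategoryTheory Limits MonoidalCategory CartesianMonoidalCategory AlgebraicGeometry
open scoped CategoryTheory.Obj MonObj

noncomputable section

namespace Groth.Agent.TorScheme

open Groth.Agent.MTBridge Groth.Agent.GrpSubRep

variable {S : Scheme.{u}}

/-- Pullback of subgroups is functorial. -/
theorem pullMap_comp_left {G B P : Over S} [GrpObj G] {K K' : Over B.left} [GrpObj K] [GrpObj K'] (f : K' ⟶ K)
    (j : K ⟶ Red.bc B.hom G) (x : P ⟶ B) :
    MTDescent.pullMap (f ≫ j) x = (Over.pullback x.left).map f ≫ MTDescent.pullMap j x := by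
  apply Over.OverMorphism.ext
  apply pullback.hom_ext <;> simp [MTDescent.pullMap, Over.pullback]

theorem inK_of_factor' {G M : Over S} [GrpObj G] {K K' : Over M.left} {j : K ⟶ Red.bc M.hom G}
    {j' : K' ⟶ Red.bc M.hom G} (q : K ⟶ K') (hq : q ≫ j' = j) {Y : Over S} {g : Y ⟶ G} {t : Y ⟶ M}
    (h : InK j g t) : InK j' g t :=
  inK_of_factor j j' q hq h

variable (G : Over S) [GrpObj G] [IsAffineHom G.hom] [Smooth G.hom]

/-- The centralizer of the universal subgroup and its neutral component. -/
structure Cent where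
  /-- The centralizer. -/
  Z : Over (Par G).left
  /-- Its structure. -/
  grpZ : GrpObj Z
  /-- Its inclusion. -/
  jZ : Z ⟶ Red.bc (Par G).hom G
  monHomZ : IsMonHom jZ
  closedZ : IsClosedImmersion jZ.left
  smoothZ : Smooth Z.hom
  qcZ : QuasiCompact Z.hom
  iffZ : ∀ (Y : Over S) (g : Y ⟶ G) (t : Y ⟶ Par G), InK jZ g t ↔ CommWith (uj G) g t
  /-- The neutral component. -/
  C : Over (Par G).left
  /-- Its structure. -/
  grpC : GrpObj C
  /-- Its inclusion. -/
  c₀ : C ⟶ Z
  monHomC : IsMonHom c₀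
  openC : IsOpenImmersion c₀.left
  smoothC : Smooth C.hom
  qcC : QuasiCompact C.hom
  connC : ∀ s : (Par G).left, ConnectedSpace ↥(pullback C.hom ((Par G).left.fromSpecResidueField s))

attribute [instance] Cent.grpZ Cent.monHomZ Cent.closedZ Cent.smoothZ Cent.qcZ Cent.grpC Cent.monHomC Cent.openC
  Cent.smoothC Cent.qcC

theorem nonempty_cent : Nonempty (Cent G) := by
  obtain ⟨Z, hZg, jZ, hjm, hjmono, hjc, hZs, hZ⟩ := exists_centralizer_commK (𝟙 (Par G))
  haveI := hjm; haveI := hjc; haveI := hZs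
  haveI : IsAffineHom (Red.bc (Par G).hom G).hom := isAffineHom_bc' (Par G)
  haveI : IsAffineHom Z.hom := by rw [← Over.w jZ]; infer_instance
  haveI : QuasiCompact Z.hom := inferInstance
  obtain ⟨-, C, hCg, c₀, hcm, hco, hcr, hCs, hCq⟩ := Groth.Agent.S4098.result (Par G).left Z
    ⟨⊤, inferInstance, fun _ => trivial⟩
  haveI := hcm; haveI := hco
  exact ⟨⟨Z, hZg, jZ, hjm, hjc, hZs, inferInstance, fun Y g t => by
    rw [hZ Y g t, CommK, Category.comp_id], C, hCg, c₀, hcm, hco, hCs, hCq,
    fun s => MTImage.connected_fibre_neutral c₀ hcr s⟩⟩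

variable {G}

/-- The inclusion of the neutral component. -/
abbrev Cent.jC (D : Cent G) : D.C ⟶ Red.bc (Par G).hom G := D.c₀ ≫ D.jZ

instance (D : Cent G) : Mono D.jZ := Over.mono_of_mono_left D.jZ

instance (D : Cent G) : IsImmersion D.jC.left := inferInstanceAs (IsImmersion (D.c₀.left ≫ D.jZ.left))

instance (D : Cent G) : Mono D.jC := Over.mono_of_mono_left D.jC

variable (D : Cent G)

/-- Pieces of a system lie in the centralizer. -/
theorem Cent.inK_jZ_of_system {r : S → ℕ} {X : Over S} {w : ℕ → (X ⟶ Par G)} (hw : IsSystem r w) (K j : ℕ)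
    {Y : Over S} {g : Y ⟶ G} {t : Y ⟶ X} (hg : InK (uj G) g (t ≫ w j)) : InK D.jZ g (t ≫ w K) :=
  (D.iffZ Y g _).2 (hw.commK_of_inK j K hg)

/-- The fibre of the neutral component over a field valued point is a connected closed subgroup. -/
theorem Cent.connected_closed {P : Over S} (x : P ⟶ Par G) {Ω : Type u} [Field Ω] [IsAlgClosed Ω]
    {c : Spec (CommRingCat.of Ω) ⟶ S} (a : Over.mk c ⟶ P) :
    ConnectedSpace ↥(Red.bc (a ≫ x).left D.C).left ∧ Smooth (Red.bc (a ≫ x).left D.C).hom ∧
      IsClosedImmersion (MTDescent.pullMap D.jC (a ≫ x)).left ∧ IsMonHom (MTDescent.pullMap D.jC (a ≫ x)) := by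
  have hm := MTDescent.isMonHom_pullMap D.jC (a ≫ x)
  haveI := hm
  haveI : IsImmersion (MTDescent.pullMap D.jC (a ≫ x)).left := MTDescent.isImmersion_pullMap D.jC (a ≫ x)
  haveI : Smooth (Red.bc (a ≫ x).left D.C).hom := inferInstanceAs (Smooth (pullback.snd D.C.hom (a ≫ x).left))
  haveI : QuasiCompact (Red.bc (a ≫ x).left D.C).hom :=
    inferInstanceAs (QuasiCompact (pullback.snd D.C.hom (a ≫ x).left))
  refine ⟨?_, inferInstance, ?_, hm⟩
  · refine MTImage.connectedSpace_bc_pt D.C (fun s => ?_) (a ≫ x).left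
    haveI : ConnectedSpace ↥(D.C.hom.fiber s) := D.connC s
    exact isConnected_iff_connectedSpace.2
      ((D.C.hom.fiberHomeo s).surjective.connectedSpace (D.C.hom.fiberHomeo s).continuous)
  · haveI : Smooth (Red.bc (Over.mk c).hom G).hom := inferInstanceAs (Smooth (pullback.snd G.hom c))
    haveI : Subsingleton ↥(Over.mk c).left := inferInstanceAs (Subsingleton (PrimeSpectrum Ω))
    haveI : Nonempty ↥(Over.mk c).left := inferInstanceAs (Nonempty (PrimeSpectrum Ω))
    haveI : IsLocallyNoetherian (Over.mk c).left := inferInstanceAs (IsLocallyNoetherian (Spec (CommRingCat.of Ω)))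
    haveI : IsAffineHom (Red.bc (Over.mk c).hom G).hom := isAffineHom_bc' (Over.mk c)
    haveI : QuasiCompact ((MTDescent.pullMap D.jC (a ≫ x)).left ≫ (Red.bc (Over.mk c).hom G).hom) := by
      rw [Over.w (MTDescent.pullMap D.jC (a ≫ x))]; infer_instance
    haveI : QuasiCompact (MTDescent.pullMap D.jC (a ≫ x)).left :=
      QuasiCompact.of_comp _ (Red.bc (Over.mk c).hom G).hom
    haveI : GrpField.PointBase (Over.mk c).left := inferInstanceAs (GrpField.PointBase (Spec (CommRingCat.of Ω)))
    haveI : Mono (MTDescent.pullMap D.jC (a ≫ x)) := Over.mono_of_mono_left _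
    exact GrpField.isClosedImmersion_of_mono _

/-- Over an algebraically closed point the neutral component contains the system. -/
theorem Cent.inK_jC_point {r : S → ℕ} {Ω : Type u} [Field Ω] [IsAlgClosed Ω] {c : Spec (CommRingCat.of Ω) ⟶ S}
    {w : ℕ → (Over.mk c ⟶ Par G)} (hw : IsSystem r w) (K j : ℕ) {Y : Over S} {g : Y ⟶ G} {t : Y ⟶ Over.mk c}
    (hg : InK (uj G) g (t ≫ w j)) : InK D.jC g (t ≫ w K) := by
  let jZx := MTDescent.pullMap D.jZ (w K)
  let cx := (Over.pullback (w K).left).map D.c₀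
  have hm := MTDescent.isMonHom_pullMap D.jZ (w K)
  haveI : IsMonHom jZx := hm
  haveI : IsImmersion jZx.left := MTDescent.isImmersion_pullMap D.jZ (w K)
  haveI : Mono jZx := Over.mono_of_mono_left _
  haveI : IsOpenImmersion cx.left := MorphismProperty.overPullbackMap (w K).left D.c₀ D.openC
  haveI : IsMonHom cx := inferInstance
  haveI : LocallyOfFiniteType (Red.bc (w K).left D.Z).hom :=
    inferInstanceAs (LocallyOfFiniteType (pullback.snd D.Z.hom (w K).left))
  haveI : QuasiCompact (Red.bc (w K).left D.Z).hom := inferInstanceAs (QuasiCompact (pullback.snd D.Z.hom (w K).left))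
  have h := inK_open hw K jZx (fun Y g t => (inK_pullMap_iff D.jZ (w K) g t).trans (D.iffZ Y g _)) cx j hg
  rw [← pullMap_comp_left] at h
  exact (inK_pullMap_iff D.jC (w K) g t).1 h

/-- **The neutral component contains the system.** -/
theorem Cent.inK_jC_of_system {r : S → ℕ} {X : Over S} {w : ℕ → (X ⟶ Par G)} (hw : IsSystem r w) (K j : ℕ)
    {Y : Over S} {g : Y ⟶ G} {t : Y ⟶ X} (hg : InK (uj G) g (t ≫ w j)) : InK D.jC g (t ≫ w K) := by
  obtain ⟨l, hl⟩ := D.inK_jZ_of_system hw K j hg
  have hr : Set.range l ⊆ Set.range D.c₀.left := by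
    rintro _ ⟨ζ, rfl⟩
    let b := geoPt ζ
    have hg' : InK (uj G) (b ≫ g) (𝟙 _ ≫ (fun k => (b ≫ t) ≫ w k) j) := by
      simpa only [Category.id_comp, Category.assoc] using hg.comp b
    obtain ⟨l', hl'⟩ := D.inK_jC_point (hw.comp (b ≫ t)) K j hg'
    have h1 : l' ≫ D.c₀.left = b.left ≫ l := by
      haveI : Mono D.jZ.left := inferInstance
      refine (cancel_mono D.jZ.left).1 ?_
      simp only [Category.id_comp, Category.assoc] at hl'
      exact (Category.assoc _ _ _).trans ((hl'.trans (pt₂_comp b g (t ≫ w K))).trans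
        ((congrArg (fun z => b.left ≫ z) hl.symm).trans (Category.assoc _ _ _).symm))
    refine ⟨l' (IsLocalRing.closedPoint _), ?_⟩
    rw [← Scheme.Hom.comp_apply, h1, Scheme.Hom.comp_apply]
    exact congrArg l (GrpSubRep.geomPt_closedPoint ζ)
  exact ⟨IsOpenImmersion.lift D.c₀.left l hr, by rw [Over.comp_left, IsOpenImmersion.lift_fac_assoc, hl]⟩

end Groth.Agent.TorScheme
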