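import Groth.Agent.TorScheme.Representable
import Groth.Agent.RedCartan.Inter
import Groth.Agent.MTImage.ToriConj
import Groth.Agent.MonoFactor.Points
import Groth.Agent.Chev.MaxTori
import Groth.Agent.Chev.CommSubgroup

/-!
# The orbit map of a maximal torus
-/

set_option autoImplicit false
set_option linter.style.haveILetI false
set_option linter.unusedSectionVars false
set_option backward.isDefEq.respectTransparency false
set_option maxHeartbeats 2000000
set_option synthInstance.maxHeartbeats 400000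

universe u

noncomputable section

open CategoryTheory Limits MonoidalCategory CartesianMonoidalCategory AlgebraicGeometry
open scoped CategoryTheory.Obj MonObj

namespace Groth.Agent.TorScheme

open Groth.Agent.MTBridge Groth.Agent.GrpSubRep

variable {S : Scheme.{u}} {G : Over S} [GrpObj G]

/-- The section of a base change given by a point. -/
def sect {X : Over S} (γ₀ : X ⟶ G) : 𝟙_ (Over X.left) ⟶ Red.bc X.hom G :=
  toBC X.hom ((Over.homMk (𝟙 X.left) : (Over.map X.hom).obj (𝟙_ _) ⟶ X) ≫ γ₀)

/-- Every section comes from a point. -/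
theorem exists_sect {X : Over S} (h : 𝟙_ (Over X.left) ⟶ Red.bc X.hom G) : ∃ γ₀ : X ⟶ G, sect γ₀ = h := by
  obtain ⟨a, ha⟩ := exists_toBC' X.hom h
  let e : (Over.map X.hom).obj (𝟙_ (Over X.left)) ≅ X := Over.isoMk (Iso.refl _) (by simp)
  refine ⟨e.inv ≫ a, ?_⟩
  rw [← ha]
  show toBC X.hom (e.hom ≫ e.inv ≫ a) = _
  rw [Iso.hom_inv_id_assoc]

/-- Membership is invariant under isomorphisms of points which are the identity. -/
theorem inK_left_eq {X Y Y' : Over S} {K : Over X.left} (j : K ⟶ Red.bc X.hom G) (e : Y' ⟶ Y) [IsIso e]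
    (a : Y ⟶ G) (t : Y ⟶ X) : InK j (e ≫ a) (e ≫ t) ↔ InK j a t := by
  refine ⟨fun h => ?_, fun h => h.comp e⟩
  have := h.comp (inv e)
  rwa [IsIso.inv_hom_id_assoc, IsIso.inv_hom_id_assoc] at this

/-- Points of a conjugate subgroup. -/
theorem inK_conjBy {X : Over S} {K : Over X.left} (j : K ⟶ Red.bc X.hom G) (γ₀ : X ⟶ G) {Y : Over S} (a : Y ⟶ G)
    (t : Y ⟶ X) :
    InK (AGF.conjBy (sect γ₀) j) a t ↔ InK j ((t ≫ γ₀)⁻¹ * a * (t ≫ γ₀)) t := by
  let Y₁ : Over X.left := Over.mk t.left
  let e : (Over.map X.hom).obj Y₁ ≅ Y := Over.isoMk (Iso.refl _) (by simpa [Y₁] using (Over.w t).symm)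
  have het : e.hom ≫ t = (Over.homMk Y₁.hom : (Over.map X.hom).obj Y₁ ⟶ X) := by
    apply Over.OverMorphism.ext
    simp [e, Y₁]
  rw [← inK_left_eq (AGF.conjBy (sect γ₀) j) e.hom a t, ← inK_left_eq j e.hom ((t ≫ γ₀)⁻¹ * a * (t ≫ γ₀)) t, het,
    inK_str_iff, inK_str_iff]
  have hu : toUnit Y₁ ≫ sect γ₀ = toBC X.hom (e.hom ≫ t ≫ γ₀) := by
    rw [sect, ← toBC_precomp, ← Category.assoc e.hom, het]
    refine congrArg (fun z => toBC X.hom (z ≫ γ₀)) ?_
    apply Over.OverMorphism.ext
    simp
  rw [MonObj.comp_mul, MonObj.comp_mul, GrpObj.comp_inv, toBC_mul, toBC_mul, toBC_inv, ← hu]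
  refine exists_congr fun x => ?_
  rw [RedCartan.point_conjBy]
  constructor
  · intro h
    rw [← h]
    group
  · intro h
    rw [h]
    group

variable [IsAffineHom G.hom] [Smooth G.hom]

/-- **The map classifying a family of conjugates.** -/
theorem exists_classify {P : Over S} {T : Over P.left} [GrpObj T] (i : T ⟶ Red.bc P.hom G) (hP : IsUniversalTorus i)
    {B X : Over S} {T₀ : Over B.left} [GrpObj T₀] (i₀ : T₀ ⟶ Red.bc B.hom G) (hi₀ : Red.IsMaximalTorus i₀)
    (pr : X ⟶ B) (γ₀ : X ⟶ G) :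
    ∃! q : X ⟶ P, ∀ (Y : Over S) (a : Y ⟶ G) (t : Y ⟶ X),
      InK i a (t ≫ q) ↔ InK i₀ ((t ≫ γ₀)⁻¹ * a * (t ≫ γ₀)) (t ≫ pr) := by
  have h1 := isMaximalTorus_pullMap i₀ hi₀ pr
  have h2 := RedCartan.isMaximalTorus_conjBy (sect γ₀) _ h1
  obtain ⟨q, hq, hqu⟩ := hP.2 X _ _ h2
  refine ⟨q, fun Y a t => ?_, fun q' hq' => hqu q' fun Y a t => ?_⟩
  · rw [← hq Y a t, inK_conjBy, inK_pullMap_iff]
  · rw [hq' Y a t, inK_conjBy, inK_pullMap_iff]

/-- **The fibres of the scheme of maximal tori of a group with connected fibres are integral.** -/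
theorem isIntegral_geomFibre {P : Over S} {T : Over P.left} [GrpObj T] (i : T ⟶ Red.bc P.hom G)
    (hP : IsUniversalTorus i) [Smooth P.hom] [IsAffineHom P.hom] (s : S)
    [ConnectedSpace (Red.geomFibre s G).left] : IsIntegral (Red.geomFibre s P).left := by
  let c := Red.geomPt s
  let B : Over S := Over.mk c
  let G' := Red.bc c G
  let P' := Red.bc c P
  haveI : IsAffine (Spec (CommRingCat.of (AlgebraicClosure (S.residueField s)))) := inferInstance
  haveI : IsAffineHom G'.hom := isAffineHom_bc' B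
  haveI : Smooth G'.hom := inferInstanceAs (Smooth (pullback.snd G.hom c))
  haveI : IsAffine G'.left := isAffine_of_isAffineHom G'.hom
  haveI : ConnectedSpace G'.left := ‹_›
  haveI : Smooth P'.hom := inferInstanceAs (Smooth (pullback.snd P.hom c))
  haveI : IsAffineHom P'.hom := MorphismProperty.pullback_snd (P := @IsAffineHom) P.hom c inferInstance
  haveI : IsAffine P'.left := isAffine_of_isAffineHom P'.hom
  obtain ⟨T₀, B₀, hT₀g, hB₀g, t₀, b₀, -, -, -, hi₀', -⟩ := Chev.Borel.exists_maxTorus G'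
  let i₀ : T₀ ⟶ G' := t₀ ≫ b₀
  have hi₀ : Red.IsMaximalTorus i₀ := Chev.Borel.isMaximalTorus_of_isMaxTorus i₀ hi₀'
  let X : Over S := Over.mk (G'.hom ≫ c)
  let pr : X ⟶ B := Over.homMk G'.hom
  let γ₀ : X ⟶ G := Over.homMk (pullback.fst G.hom c) (by
    show _ ≫ G.hom = pullback.snd G.hom c ≫ c
    exact pullback.condition)
  obtain ⟨q, hq, -⟩ := exists_classify i hP (B := B) i₀ hi₀ pr γ₀
  let q' : G' ⟶ P' := Over.homMk (pullback.lift q.left G'.hom (Over.w q)) (pullback.lift_snd _ _ _)
  have hred : IsReduced P'.left := Chev.isReduced_of_smooth P'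
  haveI : JacobsonSpace P'.left := LocallyOfFiniteType.jacobsonSpace P'.hom
  haveI : LocallyOfFinitePresentation q'.left := by
    haveI : LocallyOfFinitePresentation (q'.left ≫ P'.hom) := by rw [Over.w]; infer_instance
    exact LimDesc.lfp_of_comp q'.left P'.hom
  haveI : QuasiCompact q'.left := by
    haveI : QuasiCompact (q'.left ≫ P'.hom) := by rw [Over.w]; infer_instance
    exact QuasiCompact.of_comp q'.left P'.hom
  haveI : Surjective q'.left := MonoFactor.surjective_of_closedPoints q'.left fun y hy => by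
    obtain ⟨pt, hpt⟩ := GrpAct.exists_point (K := AlgebraicClosure (S.residueField s)) (Z := P') y hy
    let b : 𝟙_ (Over (Spec (CommRingCat.of (AlgebraicClosure (S.residueField s))))) ⟶ P' :=
      Over.homMk pt.left ((Over.w pt).trans (Spec.map_id _))
    have hby : b.left (IsLocalRing.closedPoint _) = y := hpt _
    let bS : B ⟶ P := Over.homMk (b.left ≫ pullback.fst P.hom c) (by
      show (b.left ≫ pullback.fst P.hom c) ≫ P.hom = c
      rw [Category.assoc, pullback.condition]
      exact (Category.assoc _ _ _).symm.trans ((congrArg (· ≫ c) (Over.w b)).trans (Category.id_comp c)))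
    have hb := isMaximalTorus_pullMap i hP.1 bS
    obtain ⟨g, φ, hφ⟩ := MTImage.exists_conjBy_maxTori (G := G') i₀ hi₀' (MTDescent.pullMap i bS)
      (Chev.Borel.isMaxTorus_of_isMaximalTorus _ hb)
    obtain ⟨g₀, hg₀⟩ := exists_sect (X := B) g
    have hc : AGF.conjBy (sect g₀) i₀ = φ.hom ≫ MTDescent.pullMap i bS := by rw [hg₀]; exact hφ
    let x : B ⟶ X := Over.homMk (g.left) (by
      show g.left ≫ G'.hom ≫ c = c
      exact (Category.assoc _ _ _).symm.trans ((congrArg (· ≫ c) (Over.w g)).trans (Category.id_comp c)))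
    have hxp : x ≫ pr = 𝟙 B := Over.OverMorphism.ext (Over.w g)
    have hxg : x ≫ γ₀ = g₀ := by
      apply Over.OverMorphism.ext
      show g.left ≫ pullback.fst G.hom c = g₀.left
      rw [← hg₀]
      show (sect g₀).left ≫ pullback.fst G.hom B.hom = g₀.left
      rw [sect, MTDescent.left_toBC_fst_eq]
      simp
    obtain ⟨q₂, hq₂, hu⟩ := exists_classify i hP (B := B) i₀ hi₀ (𝟙 B) g₀
    have e1 : x ≫ q = q₂ := hu _ fun Y a t => by
      rw [← Category.assoc, hq Y a (t ≫ x), Category.assoc, Category.assoc, hxp, hxg]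
    have e2 : bS = q₂ := hu _ fun Y a t => by
      rw [← inK_pullMap_iff i bS a t, ← inK_iso (M := B) φ, ← hc, inK_conjBy, Category.comp_id]
    have e3 : g ≫ q' = b := by
      apply Over.OverMorphism.ext
      apply pullback.hom_ext
      · rw [Over.comp_left, Category.assoc]
        show g.left ≫ pullback.lift q.left G'.hom _ ≫ pullback.fst P.hom c = _
        rw [pullback.lift_fst]
        exact congrArg CommaMorphism.left (e1.trans e2.symm)
      · exact (Over.w (g ≫ q')).trans (Over.w b).symm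
    exact ⟨g.left (IsLocalRing.closedPoint _), by rw [← Scheme.Hom.comp_apply, ← Over.comp_left, e3]; exact hby⟩
  obtain ⟨G₀, hG₀, cc, hcm, hcc, hcs, hirr, hcr⟩ := Chev.exists_component G'
  haveI : IrreducibleSpace G'.left := by
    have hr : Set.range cc.left = Set.univ := by
      rw [hcr]; exact PreconnectedSpace.connectedComponent_eq_univ _
    refine { toPreirreducibleSpace := ⟨?_⟩, toNonempty := inferInstance }
    rw [← hr, ← Set.image_univ]
    exact PreirreducibleSpace.isPreirreducible_univ.image _ cc.left.continuous.continuousOn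
  haveI : IrreducibleSpace P'.left := by
    refine { toPreirreducibleSpace := ⟨?_⟩, toNonempty := Nonempty.map q'.left inferInstance }
    rw [← q'.left.surjective.range_eq, ← Set.image_univ]
    exact PreirreducibleSpace.isPreirreducible_univ.image _ q'.left.continuous.continuousOn
  exact isIntegral_of_irreducibleSpace_of_isReduced _

end Groth.Agent.TorScheme
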