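import Groth.Agent.TorScheme.Determine

/-!
# Commutation with a member of the universal family, in terms of points
-/

set_option autoImplicit false
set_option linter.style.haveILetI false
set_option linter.unusedSectionVars false
set_option backward.isDefEq.respectTransparency false
set_option maxHeartbeats 1000000
set_option synthInstance.maxHeartbeats 400000

universe u

open CategoryTheory Limits MonoidalCategory CartesianMonoidalCategory AlgebraicGeometry
open scoped CategoryTheory.Obj MonObj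

noncomputable section

namespace Groth.Agent.TorScheme

open Groth.Agent.MTBridge Groth.Agent.GrpSubRep

variable {S : Scheme.{u}} {G : Over S} [GrpObj G]

/-- The point commutes with every point of the subgroup after every base change. -/
def CommWith {M : Over S} {K : Over M.left} (j : K ⟶ Red.bc M.hom G) {Y : Over S} (g : Y ⟶ G) (t : Y ⟶ M) : Prop :=
  ∀ (Y' : Over S) (e : Y' ⟶ Y) (h : Y' ⟶ G), InK j h (e ≫ t) → (e ≫ g) * h = h * (e ≫ g)

theorem CommWith.comp {M : Over S} {K : Over M.left} {j : K ⟶ Red.bc M.hom G} {Y Y' : Over S} {g : Y ⟶ G}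
    {t : Y ⟶ M} (h : CommWith j g t) (e : Y' ⟶ Y) : CommWith j (e ≫ g) (e ≫ t) := fun Y'' e' k hk => by
  rw [← Category.assoc]
  exact h Y'' (e' ≫ e) k (by rwa [Category.assoc])

/-- A point of a subgroup with commuting points commutes with the subgroup. -/
theorem commute_of_inK {M : Over S} {K : Over M.left} [GrpObj K] (j : K ⟶ Red.bc M.hom G) [IsMonHom j]
    (hK : SGA3x.IsMultTypeFT K) {Y : Over S} {g h : Y ⟶ G} {t : Y ⟶ M} (hg : InK j g t) (hh : InK j h t) :
    g * h = h * g := by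
  obtain ⟨a, ha⟩ := (inK_iff j g t).1 hg
  obtain ⟨b, hb⟩ := (inK_iff j h t).1 hh
  have hc := congrArg (fun z => z ≫ j) (comm_points_scheme K (locally_of_isMultTypeFT' K hK) a b)
  simp only [MonObj.mul_comp, ha, hb, ← toBC_mul] at hc
  have := toBC_inj M.hom hc
  rw [← MonObj.comp_mul, ← MonObj.comp_mul, cancel_epi] at this
  exact this

theorem commWith_of_inK {M : Over S} {K : Over M.left} [GrpObj K] (j : K ⟶ Red.bc M.hom G) [IsMonHom j]
    (hK : SGA3x.IsMultTypeFT K) {Y : Over S} {g : Y ⟶ G} {t : Y ⟶ M} (hg : InK j g t) : CommWith j g t :=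
  fun _ e _ hh => commute_of_inK j hK (hg.comp e) hh

/-- **The points of a centralizer.** -/
theorem inK_centralizer_iff {X : Over S} {L Z : Over X.left} [GrpObj L] [GrpObj Z] (i : L ⟶ Red.bc X.hom G)
    (j : Z ⟶ Red.bc X.hom G) (hZ : Red.IsCentralizerOf i j) {Y : Over S} (g : Y ⟶ G) (t : Y ⟶ X) :
    InK j g t ↔ CommWith i g t := by
  let A : Over.mk t.left ⟶ Red.bc X.hom G := toBC X.hom ((overIso t).hom ≫ g)
  rw [inK_iff, show (∃ k : Over.mk t.left ⟶ Z, k ≫ j = toBC X.hom ((overIso t).hom ≫ g)) ↔ _ from hZ.2.2 _ A]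
  constructor
  · intro H Y' e h hh
    obtain ⟨l, hl⟩ := (inK_iff i h (e ≫ t)).1 hh
    let x : Over.mk (e ≫ t).left ⟶ Over.mk t.left := Over.homMk e.left rfl
    have hx : (Over.map X.hom).map x ≫ (overIso t).hom = (overIso (e ≫ t)).hom ≫ e := by
      apply Over.OverMorphism.ext
      simp [x, overIso]
    have h1 := H _ x l
    rw [hl, show x ≫ A = toBC X.hom ((overIso (e ≫ t)).hom ≫ e ≫ g) by
      rw [← toBC_precomp, reassoc_of% hx], ← toBC_mul, ← toBC_mul] at h1
    have h2 := toBC_inj X.hom h1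
    rw [← MonObj.comp_mul, ← MonObj.comp_mul, cancel_epi] at h2
    exact h2
  · intro H X' x l
    obtain ⟨h, hh⟩ := exists_toBC' X.hom (l ≫ i)
    let e : (Over.map X.hom).obj X' ⟶ Y := (Over.map X.hom).map x ≫ (overIso t).hom
    have he : e ≫ t = (Over.homMk X'.hom : (Over.map X.hom).obj X' ⟶ X) := by
      apply Over.OverMorphism.ext
      show (x.left ≫ 𝟙 _) ≫ t.left = X'.hom
      rw [Category.comp_id]
      exact Over.w x
    have h1 := H _ e h (by rw [he]; exact (inK_str_iff i h).2 ⟨l, hh.symm⟩)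
    rw [← toBC_precomp, ← hh, ← toBC_mul, ← toBC_mul, ← Category.assoc]
    exact congrArg (toBC X.hom) h1

/-- A subgroup all of whose points lie in another factors through it. -/
theorem exists_factor_of_le {M : Over S} {K K' : Over M.left} (j : K ⟶ Red.bc M.hom G) (j' : K' ⟶ Red.bc M.hom G)
    (hle : ∀ (Y : Over S) (g : Y ⟶ G) (t : Y ⟶ M), InK j g t → InK j' g t) : ∃ k : K ⟶ K', k ≫ j' = j := by
  obtain ⟨a, ha⟩ := exists_toBC' M.hom j
  obtain ⟨x, hx⟩ := (inK_str_iff j' a).1 (hle _ a _ ((inK_str_iff j a).2 ⟨𝟙 K, by rw [Category.id_comp, ha]⟩))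
  exact ⟨x, hx.trans ha⟩

section PullMap

variable {B P : Over S} (x : P ⟶ B)

theorem pullMap_eq {K : Over B.left} (j : K ⟶ Red.bc B.hom G) [GrpObj K] :
    MTDescent.pullMap j x = (Over.pullback x.left).map j ≫ MTDescent.pullMap (𝟙 (Red.bc B.hom G)) x := by
  apply Over.OverMorphism.ext
  apply pullback.hom_ext <;> simp [MTDescent.pullMap, pullback.lift_fst_assoc, Over.pullback]

theorem exists_pullIso : ∃ e : Red.bc x.left (Red.bc B.hom G) ≅ Red.bc P.hom G,
    e.hom = MTDescent.pullMap (𝟙 (Red.bc B.hom G)) x ∧ IsMonHom e.hom := by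
  let f := MTDescent.pullMap (𝟙 (Red.bc B.hom G)) x
  let g : Red.bc P.hom G ⟶ Red.bc x.left (Red.bc B.hom G) :=
    Over.homMk (pullback.lift (pullback.lift (pullback.fst G.hom P.hom) (pullback.snd G.hom P.hom ≫ x.left)
      (by rw [Category.assoc, Over.w x, pullback.condition])) (pullback.snd G.hom P.hom) (pullback.lift_snd _ _ _))
      (pullback.lift_snd _ _ _)
  refine ⟨⟨f, g, ?_, ?_⟩, rfl, MTDescent.isMonHom_pullMap (𝟙 (Red.bc B.hom G)) x⟩
  · apply Over.OverMorphism.ext
    apply pullback.hom_ext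
    · apply pullback.hom_ext
      · simp [f, g, MTDescent.pullMap]
      · simp [f, g, MTDescent.pullMap, pullback.condition]
    · simp [f, g, MTDescent.pullMap]
  · apply Over.OverMorphism.ext
    apply pullback.hom_ext <;> simp [f, g, MTDescent.pullMap]

end PullMap

variable [IsAffineHom G.hom] [LocallyOfFinitePresentation G.hom]

/-- The point commutes with the member of the universal family. -/
def CommK {X : Over S} (v : X ⟶ Par G) {Y : Over S} (g : Y ⟶ G) (t : Y ⟶ X) : Prop := CommWith (uj G) g (t ≫ v)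

theorem commK_comp_iff {X' X : Over S} (a : X' ⟶ X) (v : X ⟶ Par G) {Y : Over S} (g : Y ⟶ G) (t : Y ⟶ X') :
    CommK (a ≫ v) g t ↔ CommK v g (t ≫ a) := by
  simp only [CommK, Category.assoc]

theorem commWith_pullUK_iff {X : Over S} (v : X ⟶ Par G) {Y : Over S} (g : Y ⟶ G) (t : Y ⟶ X) :
    CommWith (pullUK v) g t ↔ CommK v g t :=
  forall₃_congr fun Y' e h => by rw [inK_pullMap_iff, Category.assoc]

theorem CommK.comp {X : Over S} {v : X ⟶ Par G} {Y Y' : Over S} {g : Y ⟶ G} {t : Y ⟶ X} (h : CommK v g t)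
    (e : Y' ⟶ Y) : CommK v (e ≫ g) (e ≫ t) := by
  show CommWith (uj G) (e ≫ g) ((e ≫ t) ≫ v)
  rw [Category.assoc]
  exact CommWith.comp h e

theorem IsTors.commK {n : ℕ} {X : Over S} {v v' : X ⟶ Par G} (hv : IsTors n v v') {Y : Over S} {g : Y ⟶ G}
    {t : Y ⟶ X} (h : CommK v g t) : CommK v' g t := fun Y' e k hk =>
  h Y' e k (by rw [← Category.assoc] at hk ⊢; exact ((hv Y' k _).1 hk).1)

/-- Centralizers of members of the universal family. -/
theorem exists_centralizer_commK [Smooth G.hom] {X : Over S} (v : X ⟶ Par G) :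
    ∃ (Z : Over X.left) (_ : GrpObj Z) (j : Z ⟶ Red.bc X.hom G), IsMonHom j ∧ Mono j ∧ IsClosedImmersion j.left ∧
      Smooth Z.hom ∧ ∀ (Y : Over S) (g : Y ⟶ G) (t : Y ⟶ X), InK j g t ↔ CommK v g t := by
  haveI := isMonHom_pullUK v
  haveI : Smooth (Red.bc X.hom G).hom := inferInstanceAs (Smooth (pullback.snd G.hom X.hom))
  obtain ⟨Z, hZg, j, hZ, hjc, hZs⟩ := exists_centralizer (Red.bc v.left (UK G)) (Red.bc X.hom G)
    (locally_of_isMultTypeFT' _ (isMultTypeFT_bc (UK G) v.left isMultTypeFT_UK)) inferInstance inferInstance (pullUK v)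
  exact ⟨Z, hZg, j, hZ.1, hZ.2.1, hjc, hZs, fun Y g t =>
    (inK_centralizer_iff (pullUK v) j hZ g t).trans (commWith_pullUK_iff v g t)⟩

end Groth.Agent.TorScheme
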