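import Groth.Agent.TorScheme.Lift
import Groth.Agent.MTImage.EtaleLocal

/-!
# The scheme of maximal tori
-/

set_option autoImplicit false
set_option linter.style.haveILetI false
set_option linter.unusedSectionVars false
set_option backward.isDefEq.respectTransparency false
set_option maxHeartbeats 4000000
set_option synthInstance.maxHeartbeats 400000

universe u

noncomputable section

open CategoryTheory Limits MonoidalCategory CartesianMonoidalCategory AlgebraicGeometry
open scoped CategoryTheory.Obj MonObj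

namespace Groth.Agent.TorScheme

open Groth.Agent.MTBridge Groth.Agent.GrpSubRep

variable {S : Scheme.{u}} {G : Over S} [GrpObj G]

/-- A maximal torus over `P` is universal. -/
def IsUniversalTorus {P : Over S} {T : Over P.left} [GrpObj T] (i : T ⟶ Red.bc P.hom G) : Prop :=
  Red.IsMaximalTorus i ∧ ∀ (X : Over S) (T' : Over X.left) [GrpObj T'] (i' : T' ⟶ Red.bc X.hom G),
    Red.IsMaximalTorus i' →
      ∃! a : X ⟶ P, ∀ (Y : Over S) (g : Y ⟶ G) (y : Y ⟶ X), InK i' g y ↔ InK i g (y ≫ a)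

variable [IsAffineHom G.hom] [Smooth G.hom]

/-- The universal torus is formally smooth. -/
theorem isFormallySmooth_of_universal {P : Over S} {T : Over P.left} [GrpObj T] (i : T ⟶ Red.bc P.hom G)
    (h : IsUniversalTorus i) [LocallyOfFinitePresentation P.hom] : Smooth P.hom := by
  refine InfLift.smooth_of_isFormallySmoothHom P.hom fun A _ I hI a b hab => ?_
  let X₀ : Over S := Over.mk (qJ I ≫ b)
  let X : Over S := Over.mk b
  let a₀ : X₀ ⟶ P := Over.homMk a hab.symm
  let π : X₀ ⟶ X := Over.homMk (qJ I)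
  obtain ⟨e, he, hem⟩ := exists_pullIso (G := G) π
  haveI := hem
  haveI : IsMonHom e.inv := inferInstance
  haveI : IsMonHom e.symm.hom := inferInstanceAs (IsMonHom e.inv)
  have hi₀ := isMaximalTorus_pullMap i h.1 a₀
  let i₀ := MTDescent.pullMap i a₀
  haveI := hi₀.1
  haveI : IsMonHom (Iso.refl (Red.bc a₀.left T)).hom := inferInstanceAs (IsMonHom (𝟙 _))
  haveI : Smooth (Red.bc X.hom G).hom := inferInstanceAs (Smooth (pullback.snd G.hom X.hom))
  haveI : IsAffineHom (Red.bc X.hom G).hom := isAffineHom_bc' X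
  have hi₁ : Red.IsMaximalTorus (i₀ ≫ e.inv) := MTImage.isMaximalTorus_iso (Iso.refl _) e.symm i₀ _
    (by rw [Iso.refl_hom, Category.id_comp, Iso.symm_hom]) hi₀.2.2.1 hi₀
  obtain ⟨T₁, hT₁g, i₁, hi₁m, φ, hφ⟩ := exists_maxTorus_lift I ⟨2, hI⟩ (Red.bc X.hom G) (Red.bc a₀.left T)
    (i₀ ≫ e.inv) hi₁
  obtain ⟨a₁, ha₁, -⟩ := h.2 X T₁ i₁ hi₁m
  have key : π ≫ a₁ = a₀ := by
    refine (h.2 X₀ (Red.bc a₀.left T) i₀ hi₀).unique (fun Y g y => ?_) (fun Y g y => inK_pullMap_iff i a₀ g y)
    rw [← Category.assoc, ← ha₁ Y g (y ≫ π), ← inK_pullMap_iff i₁ π g y, pullMap_eq, ← he]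
    show InK i₀ g y ↔ InK ((Over.pullback (qJ I)).map i₁ ≫ e.hom) g y
    rw [← hφ, Category.assoc, Category.assoc, Iso.inv_hom_id, Category.comp_id]
    exact (inK_iso (M := X₀) φ i₀ g y).symm
  exact ⟨a₁.left, congrArg CommaMorphism.left key, Over.w a₁⟩

/-- **The scheme of maximal tori.** -/
theorem exists_torScheme (hG : SGA3x.HasMaxTorusFpqcLocally G) :
    ∃ (P : Over S) (T : Over P.left) (_ : GrpObj T) (i : T ⟶ Red.bc P.hom G),
      IsUniversalTorus i ∧ Smooth P.hom ∧ IsAffineHom P.hom := by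
  haveI : IsSeparated G.hom := inferInstance
  haveI : QuasiCompact G.hom := inferInstance
  haveI : LocallyOfFinitePresentation G.hom := inferInstance
  obtain ⟨r, hr, hrk⟩ := exists_rank (MTImage.etaleLocally_of_fpqcLocally hG)
  obtain ⟨P, L, hPa, hL₁, hL₂, huniv'⟩ := exists_tower G r hr
  have hL : IsSystem r L := ⟨hL₁, hL₂⟩
  have huniv : ∀ (X : Over S) (x : ℕ → (X ⟶ Par G)), IsSystem r x → ∃! a : X ⟶ P, ∀ k, a ≫ L k = x k :=
    fun X x hx => huniv' X x hx.1 hx.2
  obtain ⟨D⟩ := nonempty_cent (G := G)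
  choose K V ιV σ hoi hmem hσ huq TV hTVg iV hiV hiVL using fun p => exists_chart D hrk hG L hL huniv p
  let O : P.left → P.left.Opens := fun p => (L (K p)).left ⁻¹ᵁ (@Scheme.Hom.opensRange _ _ (ιV p).left (hoi p))
  have hO : ∀ p : P.left, ∃ q, p ∈ O q := fun p => ⟨p, hmem p⟩
  let ιO : ∀ p, Over.mk ((O p).ι ≫ P.hom) ⟶ P := fun p => Over.homMk (O p).ι
  have hl : ∀ p, ∃ l : Over.mk ((O p).ι ≫ P.hom) ⟶ V p, l ≫ ιV p = ιO p ≫ L (K p) ∧ IsIso l.left := fun p => by
    haveI := hoi p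
    let v := ((O p).ι ≫ (L (K p)).left)
    have hr' : Set.range v ⊆ Set.range (ιV p).left := by
      rintro _ ⟨z, rfl⟩
      exact z.2
    let l : Over.mk ((O p).ι ≫ P.hom) ⟶ V p := Over.homMk (IsOpenImmersion.lift (ιV p).left v hr') (by
      show _ ≫ (V p).hom = (O p).ι ≫ P.hom
      rw [← Over.w (ιV p), IsOpenImmersion.lift_fac_assoc]
      simp [v, Over.w])
    have h1 : l ≫ ιV p = ιO p ≫ L (K p) := Over.OverMorphism.ext (IsOpenImmersion.lift_fac _ _ _)
    refine ⟨l, h1, ?_⟩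
    have hs : Set.range (σ p).left ⊆ Set.range (O p).ι := by
      rw [(O p).range_ι]
      rintro _ ⟨z, rfl⟩
      exact ⟨z, (congr($(congrArg CommaMorphism.left (hσ p)) z)).symm⟩
    let s : V p ⟶ Over.mk ((O p).ι ≫ P.hom) := Over.homMk (IsOpenImmersion.lift (O p).ι (σ p).left hs) (by
      show _ ≫ (O p).ι ≫ P.hom = (V p).hom
      rw [IsOpenImmersion.lift_fac_assoc]
      exact Over.w (σ p))
    have h2 : s ≫ ιO p = σ p := Over.OverMorphism.ext (IsOpenImmersion.lift_fac _ _ _)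
    haveI : Mono (ιO p) := (Over.forget S).mono_of_mono_map (inferInstanceAs (Mono (O p).ι))
    haveI : Mono (ιV p) := (Over.forget S).mono_of_mono_map (inferInstanceAs (Mono (ιV p).left))
    let e : Over.mk ((O p).ι ≫ P.hom) ≅ V p := ⟨l, s,
      by rw [← cancel_mono (ιO p), Category.assoc, h2, Category.id_comp, ← huq p _ (ιO p) l h1],
      by rw [← cancel_mono (ιV p), Category.assoc, h1, reassoc_of% h2, hσ p, Category.id_comp]⟩
    exact ((Over.forget S).mapIso e).isIso_hom
  choose l hl hliso using hl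
  have hιO : ∀ p, ιO p = l p ≫ σ p := fun p => huq p _ (ιO p) (l p) (hl p)
  obtain ⟨T, hTg, i, hi, hiL⟩ := exists_glue hrk L O hO fun p => by
    letI := hTVg p
    refine ⟨Red.bc (l p).left (TV p), inferInstance, MTDescent.pullMap (iV p) (l p),
      isMaximalTorus_pullMap (iV p) (hiV p) (l p), fun k => ?_⟩
    show IsTorsOf _ _ (ιO p ≫ L k)
    rw [hιO p, Category.assoc]
    exact (hiVL p k).pullMap (l p)
  haveI := hi.1; haveI := hi.2.1
  haveI hfp : LocallyOfFinitePresentation P.hom := by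
    refine IsZariskiLocalAtSource.of_iSup_eq_top O ?_ fun p => ?_
    · exact top_le_iff.1 fun p _ => TopologicalSpace.Opens.mem_iSup.2 ⟨p, hmem p⟩
    · haveI := hliso p
      haveI := hoi p
      haveI : LocallyOfFinitePresentation (Par G).hom :=
        IsZariskiLocalAtSource.sigmaDesc fun i => (piece G i).lfp
      show LocallyOfFinitePresentation (Over.mk ((O p).ι ≫ P.hom)).hom
      rw [← Over.w (l p), ← Over.w (ιV p)]
      infer_instance
  have huni : IsUniversalTorus i := by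
    refine ⟨hi, fun X T' _ i' hi' => ?_⟩
    haveI := hi'.1; haveI := hi'.2.1
    obtain ⟨τ, hτs, hτ⟩ := exists_system hrk i' hi'
    obtain ⟨a, ha, hau⟩ := huniv X τ hτs
    refine ⟨a, fun Y g y => ?_, fun b hb => hau b fun k => ?_⟩
    · have hp := isMaximalTorus_pullMap i hi a
      haveI := hp.1; haveI := hp.2.1
      rw [← inK_pullMap_iff i a g y]
      exact inK_iff_of_torsOf i' (MTDescent.pullMap i a) hi'.2.2.1 hp.2.2.1
        (fun k => ⟨τ k, hτ k, ha k ▸ (hiL k).pullMap a⟩) g y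
    · refine IsTorsOf.eq (i := i') (fun Y g y => ?_) (hτ k)
      rw [← Category.assoc, hiL k Y g (y ≫ b), hb Y g y]
  exact ⟨P, T, hTg, i, huni, isFormallySmooth_of_universal i huni, hPa⟩

end Groth.Agent.TorScheme
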