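import Groth.Agent.MTKernel.Basic
import Groth.Agent.MTImage.Kernel
import Groth.Agent.MTBridge.EssFree
import Groth.Agent.GrpSubRep.Twist

/-!
# Torsion of groups of multiplicative type inside a group
-/

set_option autoImplicit false
set_option linter.style.haveILetI false
set_option linter.unusedSectionVars false
set_option backward.isDefEq.respectTransparency false
set_option maxHeartbeats 1000000
set_option synthInstance.maxHeartbeats 400000

universe u

open CategoryTheory Limits MonoidalCategory CartesianMonoidalCategory AlgebraicGeometry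
open scoped CategoryTheory.Obj MonObj

noncomputable section

namespace Groth.Agent.TorScheme

open Groth.Agent.MTBridge Groth.Agent.GrpSubRep

variable {S : Scheme.{u}}

/-- The power map of a group of multiplicative type is a homomorphism. -/
theorem isMonHom_pow {H : Over S} [GrpObj H] (hH : SGA3x.IsMultTypeFT H) (n : ℕ) :
    IsMonHom ((𝟙 H) ^ n) :=
  isMonHom_of_points _ fun X x y => by
    rw [MonObj.comp_pow, MonObj.comp_pow, MonObj.comp_pow, Category.comp_id, Category.comp_id, Category.comp_id,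
      (show Commute x y from comm_points_scheme H (locally_of_isMultTypeFT' H hH) x y).mul_pow]

/-- The subgroup killed by `n`. -/
theorem exists_torsion_sub {H : Over S} [GrpObj H] (hH : SGA3x.IsMultTypeFT H) (n : ℕ) :
    ∃ (K : Over S) (_ : GrpObj K) (k : K ⟶ H), IsMonHom k ∧ IsClosedImmersion k.left ∧ SGA3x.IsMultTypeFT K ∧
      ∀ (X : Over S) (x : X ⟶ H), (∃ y : X ⟶ K, y ≫ k = x) ↔ x ^ n = 1 := by
  haveI := isMonHom_pow hH n
  obtain ⟨K, hKg, k, hk, hkc, hker, hK⟩ := MTKernel.exists_kernel_mt hH hH ((𝟙 H) ^ n)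
  refine ⟨K, hKg, k, hk, hkc, hK, fun X x => ?_⟩
  rw [MTImage.isKernel_iff k _ hker, MonObj.comp_pow, Category.comp_id]

theorem toBC_pow {G : Over S} [GrpObj G] {T : Scheme.{u}} (q : T ⟶ S) {X : Over T}
    (a : (Over.map q).obj X ⟶ G) (n : ℕ) : toBC q (a ^ n) = toBC q a ^ n := by
  induction n with
  | zero =>
    have h := toBC_mul q (1 : (Over.map q).obj X ⟶ G) 1
    rw [_root_.one_mul] at h
    rw [pow_zero, pow_zero, left_eq_mul.1 h]
  | succ n ih => rw [pow_succ, pow_succ, toBC_mul, ih]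

variable {G : Over S} [GrpObj G] {M : Over S}

theorem toBC_pow_eq_one {X : Over S} (g : X ⟶ G) (m : X ⟶ M) (n : ℕ) :
    toBC M.hom ((overIso m).hom ≫ g) ^ n = 1 ↔ g ^ n = 1 := by
  rw [← toBC_pow, ← MonObj.comp_pow]
  constructor
  · intro h
    have h1 : (overIso m).hom ≫ g ^ n = 1 := toBC_inj M.hom (by rw [h, MTImage.toBC_one])
    rw [← cancel_epi (overIso m).hom, h1, MonObj.comp_one]
  · intro h
    rw [h, MonObj.comp_one, MTImage.toBC_one]

/-- Points of the torsion subgroup of a subgroup. -/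
theorem inK_torsion_iff {K K' : Over M.left} [GrpObj K] [GrpObj K'] (j : K ⟶ Red.bc M.hom G) [IsMonHom j] [Mono j]
    (n : ℕ) (k : K' ⟶ K) (hk : ∀ (X : Over M.left) (x : X ⟶ K), (∃ y : X ⟶ K', y ≫ k = x) ↔ x ^ n = 1)
    {X : Over S} (g : X ⟶ G) (m : X ⟶ M) : InK (k ≫ j) g m ↔ InK j g m ∧ g ^ n = 1 := by
  rw [inK_iff, inK_iff, ← toBC_pow_eq_one g m n]
  constructor
  · rintro ⟨y, hy⟩
    rw [← Category.assoc] at hy
    refine ⟨⟨y ≫ k, hy⟩, ?_⟩
    rw [← hy, ← MonObj.pow_comp, (hk _ _).1 ⟨y, rfl⟩, MonObj.one_comp]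
  · rintro ⟨⟨x, hx⟩, hn⟩
    obtain ⟨y, hy⟩ := (hk _ x).2 (by
      rw [← cancel_mono j, MonObj.one_comp, MonObj.pow_comp, hx, hn])
    exact ⟨y, by rw [← Category.assoc, hy, hx]⟩

/-- The torsion subgroup of a subgroup, as a subgroup. -/
theorem exists_torsion_inK {K : Over M.left} [GrpObj K] (j : K ⟶ Red.bc M.hom G) [IsMonHom j] [IsImmersion j.left]
    (hK : SGA3x.IsMultTypeFT K) (n : ℕ) :
    ∃ (K' : Over M.left) (_ : GrpObj K') (j' : K' ⟶ Red.bc M.hom G), IsMonHom j' ∧ IsImmersion j'.left ∧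
      SGA3x.IsMultTypeFT K' ∧ (IsFinite K.hom → IsFinite K'.hom) ∧
      ∀ (X : Over S) (g : X ⟶ G) (m : X ⟶ M), InK j' g m ↔ InK j g m ∧ g ^ n = 1 := by
  obtain ⟨K', hK'g, k, hk, hkc, hK', hpts⟩ := exists_torsion_sub hK n
  haveI := hk
  haveI := hkc
  haveI : Mono j.left := inferInstance
  haveI : Mono j := Over.mono_of_mono_left j
  refine ⟨K', hK'g, k ≫ j, inferInstance, ?_, hK', fun hf => ?_, fun X g m => inK_torsion_iff j n k hpts g m⟩
  · show IsImmersion (k.left ≫ j.left)
    infer_instance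
  · haveI := hf
    rw [← Over.w k]
    infer_instance

omit [GrpObj G] in
/-- The torsion of a diagonalisable group. -/
theorem DS_torsion_iff {A : Type} [AddCommGroup A] [AddGroup.FG A] (n : ℕ) {X : Over S} (x : X ⟶ Red.DS S A) :
    (∃ y : X ⟶ Red.DS S (A ⧸ (nsmulAddMonoidHom n : A →+ A).range),
      y ≫ Red.DSmap S (QuotientAddGroup.mk' _) = x) ↔ x ^ n = 1 := by
  have hch : ∀ (m : Multiplicative A), HomDiag.ch (x ^ n) m = HomDiag.ch x m ^ n := by
    intro m
    induction n with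
    | zero => rw [pow_zero, pow_zero, HomDiag.ch_one]
    | succ k ih => rw [pow_succ, pow_succ, HomDiag.ch_mul, ih]
  rw [MTImage.ker_DSmap_iff, MTQuot.comp_eq_one_iff]
  constructor
  · intro h
    refine HomDiag.ch_ext fun m => ?_
    rw [hch, HomDiag.ch_one, ← map_pow]
    exact h (n • m.toAdd) ⟨m.toAdd, rfl⟩
  · rintro h _ ⟨a, rfl⟩
    have h1 := hch (Multiplicative.ofAdd a)
    rw [h, HomDiag.ch_one, ← map_pow] at h1
    exact h1.symm

/-- The torsion of a free group. -/
theorem nonempty_quot_equiv (r n : ℕ) :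
    Nonempty ((Fin r → ℤ) ⧸ (nsmulAddMonoidHom n : (Fin r → ℤ) →+ (Fin r → ℤ)).range ≃+ (Fin r → ZMod n)) := by
  let f : (Fin r → ℤ) →+ (Fin r → ZMod n) := AddMonoidHom.pi fun i =>
    (Int.castAddHom (ZMod n)).comp (Pi.evalAddMonoidHom (fun _ : Fin r => ℤ) i)
  have hker : f.ker = (nsmulAddMonoidHom n : (Fin r → ℤ) →+ (Fin r → ℤ)).range := by
    ext v
    constructor
    · intro hv
      have h1 : ∀ i, (n : ℤ) ∣ v i := fun i => (ZMod.intCast_zmod_eq_zero_iff_dvd (v i) n).1 (congrFun hv i)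
      choose w hw using h1
      exact ⟨w, funext fun i => by simpa using (hw i).symm⟩
    · rintro ⟨w, rfl⟩
      exact funext fun i => by simp [f]
  refine ⟨(QuotientAddGroup.quotientAddEquivOfEq hker.symm).trans
    (QuotientAddGroup.quotientKerEquivOfSurjective f fun v => ?_)⟩
  exact ⟨fun i => (v i).cast, funext fun i => by simp [f]⟩

end Groth.Agent.TorScheme
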