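import Groth.Agent.TorScheme.Neutral
import Groth.Agent.TorScheme.Rank

/-!
# Pullbacks of maximal tori and their torsion systems
-/

set_option autoImplicit false
set_option linter.style.haveILetI false
set_option linter.unusedSectionVars false
set_option backward.isDefEq.respectTransparency false
set_option maxHeartbeats 2000000
set_option synthInstance.maxHeartbeats 400000

universe u

open CategoryTheory Limits MonoidalCategory CartesianMonoidalCategory AlgebraicGeometry
open scoped CategoryTheory.Obj MonObj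

noncomputable section

namespace Groth.Agent.TorScheme

open Groth.Agent.MTBridge Groth.Agent.GrpSubRep

variable {S : Scheme.{u}} {G : Over S} [GrpObj G] [IsAffineHom G.hom] [Smooth G.hom]

/-- A pullback of a maximal torus is a maximal torus. -/
theorem isMaximalTorus_pullMap {B P : Over S} {T : Over B.left} [GrpObj T] (i : T ⟶ Red.bc B.hom G)
    (hi : Red.IsMaximalTorus i) (x : P ⟶ B) : Red.IsMaximalTorus (MTDescent.pullMap i x) := by
  haveI := hi.1
  haveI : Smooth (Red.bc B.hom G).hom := inferInstanceAs (Smooth (pullback.snd G.hom B.hom))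
  haveI : IsAffineHom (Red.bc B.hom G).hom := isAffineHom_bc' B
  obtain ⟨e, he, hem⟩ := exists_pullIso (G := G) x
  haveI := hem
  haveI : IsMonHom (Iso.refl (Red.bc x.left T)).hom := inferInstanceAs (IsMonHom (𝟙 _))
  exact MTImage.isMaximalTorus_iso (Iso.refl _) e _ _
    (by rw [Iso.refl_hom, Category.id_comp, he]; exact (pullMap_eq x i).symm) (Chev.Borel.isTorus_bc_scheme T x.left hi.2.2.1)
    (Chev.MaxTorusBC.isMaximalTorus_bc i hi x.left)

/-- A pullback of a maximal torus to an algebraically closed point is a maximal torus. -/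
theorem isMaxTorus_pullMap {B : Over S} {T : Over B.left} [GrpObj T] (i : T ⟶ Red.bc B.hom G)
    (hi : Red.IsMaximalTorus i) {Ω : Type u} [Field Ω] [IsAlgClosed Ω] {c : Spec (CommRingCat.of Ω) ⟶ S}
    (x : Over.mk c ⟶ B) : AGF.IsMaxTorus (MTDescent.pullMap i x) := by
  haveI := hi.1
  haveI : Smooth (Red.bc B.hom G).hom := inferInstanceAs (Smooth (pullback.snd G.hom B.hom))
  haveI : IsAffineHom (Red.bc B.hom G).hom := isAffineHom_bc' B
  obtain ⟨e, he, hem⟩ := exists_pullIso (G := G) x
  haveI := hem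
  haveI : IsMonHom (Iso.refl (Red.bc x.left T)).hom := inferInstanceAs (IsMonHom (𝟙 _))
  exact Chev.MaxTorusBC.isMaxTorus_of_iso (Iso.refl _) e _ _
    (by rw [Iso.refl_hom, Category.id_comp, he]; exact (pullMap_eq x i).symm) (Chev.Borel.isTorus_bc_scheme T x.left hi.2.2.1)
    (Chev.MaxTorusBC.isMaxTorus_pt i hi x.left)

/-- **The torsion system of a maximal torus.** -/
theorem exists_system {r : S → ℕ} (hrk : HasRank G r) {X : Over S} {T : Over X.left} [GrpObj T]
    (i : T ⟶ Red.bc X.hom G) (hi : Red.IsMaximalTorus i) :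
    ∃ τ : ℕ → (X ⟶ Par G), IsSystem r τ ∧ ∀ k, IsTorsOf i (ord k) (τ k) := by
  haveI := hi.1; haveI := hi.2.1
  choose τ hτ htyp using fun k => exists_torsOf i hi.2.2.1 (ord k)
  refine ⟨τ, ⟨fun k z => ?_, fun k => (hτ (k + 1)).isTors (ord_dvd (Nat.le_succ k)) (hτ k)⟩, hτ⟩
  obtain ⟨e⟩ := hrk _ (Red.geomPt z ≫ X.hom) (Red.bc (Red.geomPt z) T) (MTDescent.pullMap i (geoPt z))
    (Chev.Borel.isMaximalTorus_of_isMaxTorus _ (isMaxTorus_pullMap i hi (geoPt z)))
  rw [Scheme.Hom.comp_apply, GrpSubRep.geomPt_closedPoint] at e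
  obtain ⟨f⟩ := htyp k z _ ⟨e⟩
  obtain ⟨f'⟩ := tnum_equiv.{u} (r (X.hom z)) k
  exact Typ.eq_of_equiv (f.trans f'.symm)

/-- Pullback of a torsion family. -/
theorem IsTorsOf.pullMap {X P : Over S} {T : Over X.left} [GrpObj T] {i : T ⟶ Red.bc X.hom G} {n : ℕ}
    {v : X ⟶ Par G} (h : IsTorsOf i n v) (x : P ⟶ X) : IsTorsOf (MTDescent.pullMap i x) n (x ≫ v) := fun Y g t => by
  rw [← Category.assoc, h Y g (t ≫ x), inK_pullMap_iff]

end Groth.Agent.TorScheme
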