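import Groth.Agent.TorScheme.Torsion

/-!
# Types of the torsion subgroups in the parameter scheme of finite subgroups
-/

set_option autoImplicit false
set_option linter.style.haveILetI false
set_option linter.unusedSectionVars false
set_option backward.isDefEq.respectTransparency false
set_option maxHeartbeats 1000000
set_option synthInstance.maxHeartbeats 400000

universe u

open CategoryTheory Limits MonoidalCategory CartesianMonoidalCategory AlgebraicGeometry
open scoped CategoryTheory.Obj MonObj

noncomputable section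

namespace Groth.Agent.TorScheme

open Groth.Agent.MTBridge Groth.Agent.GrpSubRep

variable {S : Scheme.{u}}

section Universal

variable {G : Over S} [GrpObj G] [IsAffineHom G.hom] [LocallyOfFinitePresentation G.hom]

instance grpObjPiece (i : Typ.{u}) : GrpObj (piece G i).K := (piece G i).grp

instance isMonHom_piece (i : Typ.{u}) : IsMonHom (piece G i).j := (piece G i).isMonHom

instance mono_piece' (i : Typ.{u}) : Mono (piece G i).j.left := mono_piece G i

/-- The structure of the universal subgroup. -/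
instance grpObjUK : GrpObj (UK G) :=
  (exists_grpObj_sigK (fun i : Typ.{u} => (piece G i).K) fun i => (piece G i).j).choose

instance isMonHom_uj : IsMonHom (uj G) :=
  (exists_grpObj_sigK (fun i : Typ.{u} => (piece G i).K) fun i => (piece G i).j).choose_spec

theorem isMultTypeFT_UK : SGA3x.IsMultTypeFT (UK G) :=
  isMultTypeFT_sigK (fun i : Typ.{u} => (piece G i).K) (fun i => (piece G i).j) fun i => (piece G i).multType

instance isFinite_UK : IsFinite (UK G).hom := isFinite_sigK _ fun i => (piece G i).finite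

instance isClosedImmersion_uj : IsClosedImmersion (uj G).left := by
  haveI := mono_uj G
  haveI : IsSeparated (Red.bc (Par G).hom G).hom := inferInstanceAs (IsSeparated (pullback.snd G.hom (Par G).hom))
  haveI : IsProper ((uj G).left ≫ (Red.bc (Par G).hom G).hom) := by rw [Over.w (uj G)]; infer_instance
  haveI : IsProper (uj G).left := IsProper.of_comp (uj G).left (Red.bc (Par G).hom G).hom
  exact (IsClosedImmersion.iff_isProper_and_mono _).2 ⟨inferInstance, inferInstance⟩

theorem isMonHom_pullUK {P : Over S} (v : P ⟶ Par G) : IsMonHom (pullUK v) := MTDescent.isMonHom_pullMap (uj G) v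

/-- The universal subgroup killed by `n`. -/
theorem exists_torMap (n : ℕ) : ∃ τ : Par G ⟶ Par G, ∀ (X : Over S) (g : X ⟶ G) (t : X ⟶ Par G),
    InK (uj G) g (t ≫ τ) ↔ InK (uj G) g t ∧ g ^ n = 1 := by
  haveI : IsImmersion (uj G).left := inferInstance
  obtain ⟨K', hK', j', hj', hji, hmt, hfin, hiff⟩ := exists_torsion_inK (uj G) isMultTypeFT_UK n
  haveI := hj'
  haveI := hji
  obtain ⟨τ, hτ⟩ := exists_point G (T := Par G) j' hmt (hfin inferInstance)
  exact ⟨τ, fun X g t => (hτ X g t).symm.trans (hiff X g t)⟩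

end Universal

/-- The torsion of a group isomorphic to a diagonalisable one. -/
theorem nonempty_iso_DS_torsion {K K' : Over S} [GrpObj K] [GrpObj K'] {A : Type} [AddCommGroup A] [AddGroup.FG A]
    (e : Grp.mk K ≅ Grp.mk (Red.DS S A)) (n : ℕ) (k : K' ⟶ K) [IsMonHom k] [Mono k]
    (hk : ∀ (X : Over S) (x : X ⟶ K), (∃ y : X ⟶ K', y ≫ k = x) ↔ x ^ n = 1) :
    Nonempty (Grp.mk K' ≅ Grp.mk (Red.DS S (A ⧸ (nsmulAddMonoidHom n : A →+ A).range))) := by
  let e' : K ≅ Red.DS S A := (Grp.forget _).mapIso e
  haveI : IsMonHom e'.hom := e.hom.hom.isMonHom_hom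
  haveI : IsMonHom e'.inv := e.inv.hom.isMonHom_hom
  let N := (nsmulAddMonoidHom n : A →+ A).range
  let q : Red.DS S (A ⧸ N) ⟶ Red.DS S A := Red.DSmap S (QuotientAddGroup.mk' N)
  have hqm : IsMonHom q := MTQuot.isMonHom_DSmap _
  haveI := hqm
  haveI : Mono q := MTImage.mono_of_ker q fun X x hx => by
    refine HomDiag.ch_ext fun m => ?_
    obtain ⟨a, ha⟩ := QuotientAddGroup.mk'_surjective N m.toAdd
    have h := congrArg (fun z => HomDiag.ch z (Multiplicative.ofAdd a)) hx
    simp only [q, HomDiag.ch_DSmap, HomDiag.ch_one, toAdd_ofAdd, ha] at h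
    rw [HomDiag.ch_one]
    exact h
  obtain ⟨y, hy⟩ := (DS_torsion_iff n (k ≫ e'.hom)).2 (by
    rw [← MonObj.pow_comp, (hk _ k).1 ⟨𝟙 _, Category.id_comp _⟩, MonObj.one_comp])
  obtain ⟨z, hz⟩ := (hk _ (q ≫ e'.inv)).2 (by
    rw [← MonObj.pow_comp, (DS_torsion_iff n q).1 ⟨𝟙 _, Category.id_comp _⟩, MonObj.one_comp])
  let d : K' ≅ Red.DS S (A ⧸ N) := ⟨y, z,
    by rw [← cancel_mono k, Category.assoc, hz, reassoc_of% hy, e'.hom_inv_id, Category.comp_id, Category.id_comp],
    by rw [← cancel_mono q, Category.assoc, hy, reassoc_of% hz, e'.inv_hom_id, Category.comp_id, Category.id_comp]⟩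
  haveI : IsMonHom y := MTSplit.isMonHom_of_comp_mono y q _ hy
  haveI : IsMonHom d.hom := inferInstanceAs (IsMonHom y)
  exact ⟨Grp.mkIso' d⟩

/-- The quotient of a power of cyclic groups. -/
theorem nonempty_quot_zmod {n N : ℕ} [NeZero N] (h : n ∣ N) (r : ℕ) :
    Nonempty ((Fin r → ZMod N) ⧸ (nsmulAddMonoidHom n : (Fin r → ZMod N) →+ (Fin r → ZMod N)).range ≃+
      (Fin r → ZMod n)) := by
  let f : (Fin r → ZMod N) →+ (Fin r → ZMod n) := AddMonoidHom.pi fun i =>
    (ZMod.castHom h (ZMod n)).toAddMonoidHom.comp (Pi.evalAddMonoidHom (fun _ : Fin r => ZMod N) i)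
  have hker : f.ker = (nsmulAddMonoidHom n : (Fin r → ZMod N) →+ (Fin r → ZMod N)).range := by
    ext v
    constructor
    · intro hv
      have h1 : ∀ i, n ∣ (v i).val := fun i => by
        have h2 : ZMod.castHom h (ZMod n) (v i) = 0 := congrFun hv i
        rw [← ZMod.natCast_rightInverse (v i), map_natCast, ZMod.natCast_eq_zero_iff] at h2
        exact h2
      choose w hw using h1
      refine ⟨fun i => (w i : ZMod N), funext fun i => ?_⟩
      show n • (w i : ZMod N) = v i
      rw [nsmul_eq_mul, ← Nat.cast_mul, ← hw i, ZMod.natCast_rightInverse (v i)]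
    · rintro ⟨w, rfl⟩
      refine funext fun i => ?_
      show ZMod.castHom h (ZMod n) (n • w i) = 0
      rw [map_nsmul, nsmul_eq_mul, ZMod.natCast_self, zero_mul]
  refine ⟨(QuotientAddGroup.quotientAddEquivOfEq hker.symm).trans
    (QuotientAddGroup.quotientKerEquivOfSurjective f fun v => ?_)⟩
  refine ⟨fun i => (Classical.choose (ZMod.castHom_surjective h (v i))), funext fun i => ?_⟩
  exact Classical.choose_spec (ZMod.castHom_surjective h (v i))

end Groth.Agent.TorScheme
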